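import Cfsg.Agent.Lib.M24.Lifts

/-!
Facts about groups of type M(24): orders, centralisers of transpositions, width, the subgroup of index two.
-/

set_option autoImplicit false

namespace CfsgLib.M24

open Cfsg CfsgLib.ThreeTransp CfsgLib.ThreeTransp.Relations CfsgLib.CosetEnum Cfsg.Spor

namespace Pre

variable {G : Type*} [Group G] [Finite G] {D : Set G}

theorem card_eq {P : Pre G D} (hP : Standard P) :
    Nat.card G = 2510411418381323442585600 ∧
      Nat.card (Subgroup.centralizer ({P.d} : Set G)) = 8178940946586009600 ∧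
      perpGroup D P.d = Subgroup.centralizer ({P.d} : Set G) := by
  obtain ⟨Φ, -, -⟩ := exists_iso hP
  have h1 : Nat.card G = 2510411418381323442585600 :=
    le_antisymm ((Nat.card_congr Φ.toEquiv).symm.le.trans Fi24Pres.finite_card.2) (card_lower hP)
  obtain ⟨hle, hge⟩ := centralizer_ge hP
  have h2 := card_eq_mul hP
  rw [h1] at h2
  have h3 : Nat.card (Subgroup.centralizer ({P.d} : Set G)) = 8178940946586009600 := by omega
  exact ⟨h1, h3, Subgroup.eq_of_le_of_card_ge hle (h3.le.trans hge)⟩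

/-- the perp group of any member is its centraliser -/
theorem perpGroup_eq {P : Pre G D} (hP : Standard P) {a : G} (ha : a ∈ D) :
    perpGroup D a = Subgroup.centralizer ({a} : Set G) := by
  obtain ⟨g, hg⟩ := class_exists_conj P.hDc P.hd ha
  have h1 : (perpGroup D P.d).map (MulAut.conj g).toMonoidHom = perpGroup D a := by
    rw [perpGroup, MonoidHom.map_closure, ← hg]
    exact congrArg Subgroup.closure (image_nbr (class_conjClosed P.hDc) P.d g)
  rw [← h1, (card_eq hP).2.2]
  ext x
  rw [Subgroup.mem_map_equiv, Subgroup.mem_centralizer_singleton_iff,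
    Subgroup.mem_centralizer_singleton_iff, MulAut.conj_symm_apply, ← hg]
  constructor <;> intro h
  · calc x * (g * P.d * g⁻¹) = g * (g⁻¹ * x * g * P.d) * g⁻¹ := by group
      _ = g * (P.d * (g⁻¹ * x * g)) * g⁻¹ := by rw [h]
      _ = g * P.d * g⁻¹ * x := by group
  · calc g⁻¹ * x * g * P.d = g⁻¹ * (x * (g * P.d * g⁻¹)) * g := by group
      _ = g⁻¹ * (g * P.d * g⁻¹ * x) * g := by rw [h]
      _ = P.d * (g⁻¹ * x * g) := by group

/-- at most 24 members commute pairwise -/
theorem clique_le (P : Pre G D) (E : Finset G) (hE : ↑E ⊆ D) (hc : ∀ a ∈ E, ∀ b ∈ E, Commute a b) :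
    E.card ≤ 24 := by
  classical
  rcases E.eq_empty_or_nonempty with rfl | ⟨x, hx⟩
  · simp
  obtain ⟨ψ, hinj, hcomm, hr⟩ := P.exists_view (hE hx)
  have h : ∀ a : E.erase x, ∃ p : Pt, ψ p = a := fun a => by
    have hm : (a : G) ∈ Set.range ψ := hr ▸ ⟨hE (Finset.mem_of_mem_erase a.2), Finset.ne_of_mem_erase a.2,
      hc x hx a (Finset.mem_of_mem_erase a.2)⟩
    exact hm
  choose p hp using h
  have hpinj : Function.Injective p := fun a b e => Subtype.ext (by rw [← hp a, ← hp b, e])
  have htp : Function.Injective fun a => tp (p a) := fun a b e => hpinj (tp_inj e)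
  have hle := M23.clique23_le (Finset.univ.image fun a => tp (p a)) (fun t ht => by
      rw [Finset.coe_image] at ht
      obtain ⟨a, -, rfl⟩ := ht
      exact tp_mem _) (fun s hs t ht => by
      obtain ⟨a, -, rfl⟩ := Finset.mem_image.mp hs
      obtain ⟨b, -, rfl⟩ := Finset.mem_image.mp ht
      rw [← comB_iff, ← hcomm, hp, hp]
      exact hc a (Finset.mem_of_mem_erase a.2) b (Finset.mem_of_mem_erase b.2))
  rw [Finset.card_image_of_injective _ htp, Finset.card_univ, Fintype.card_coe,
    Finset.card_erase_of_mem hx] at hle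
  omega

theorem clique_exists (P : Pre G D) :
    ∃ E : Finset G, ↑E ⊆ D ∧ (∀ a ∈ E, ∀ b ∈ E, Commute a b) ∧ E.card = 24 := by
  classical
  obtain ⟨E, hE, hc, hcard⟩ := M23.clique23_exists
  have h : ∀ t : E, ∃ p : Pt, tp p = t := fun t => exists_tp (hE t.2)
  choose p hp using h
  have hinj : Function.Injective fun t => P.lift (p t) := fun a b e =>
    Subtype.ext (by rw [← hp a, ← hp b, P.lift_inj e])
  refine ⟨insert P.d (Finset.univ.image fun t => P.lift (p t)), ?_, ?_, ?_⟩
  · intro y hy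
    rcases Finset.mem_insert.mp hy with e | hy
    · rw [e]; exact P.hd
    · obtain ⟨t, -, rfl⟩ := Finset.mem_image.mp hy
      exact (P.lift_mem _).1
  · intro y hy z hz
    rcases Finset.mem_insert.mp hy with e | hy <;> rcases Finset.mem_insert.mp hz with e' | hz
    · rw [e, e']
    · obtain ⟨t, -, rfl⟩ := Finset.mem_image.mp hz
      rw [e]; exact (P.lift_mem _).2.2
    · obtain ⟨t, -, rfl⟩ := Finset.mem_image.mp hy
      rw [e']; exact (P.lift_mem _).2.2.symm
    · obtain ⟨a, -, rfl⟩ := Finset.mem_image.mp hy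
      obtain ⟨b, -, rfl⟩ := Finset.mem_image.mp hz
      rw [P.lift_comm, comB_iff, hp, hp]
      exact hc a a.2 b b.2
  · rw [Finset.card_insert_of_notMem, Finset.card_image_of_injective _ hinj, Finset.card_univ,
      Fintype.card_coe, hcard]
    intro h
    obtain ⟨t, -, e⟩ := Finset.mem_image.mp h
    exact (P.lift_mem _).2.1 e

theorem width (P : Pre G D) : Cfsg.commutingWidth D = 24 := by
  have hbound : ∀ n ∈ {n : ℕ | ∃ E : Set G, E ⊆ D ∧ E.Finite ∧ (∀ a ∈ E, ∀ b ∈ E, Commute a b) ∧ E.ncard = n},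
      n ≤ 24 := by
    rintro n ⟨E, hE, hfin, hc, rfl⟩
    rw [Set.ncard_eq_toFinset_card _ hfin]
    exact P.clique_le _ (fun a ha => hE (hfin.mem_toFinset.1 ha))
      fun a ha b hb => hc a (hfin.mem_toFinset.1 ha) b (hfin.mem_toFinset.1 hb)
  refine le_antisymm (csSup_le ⟨0, ∅, Set.empty_subset _, Set.finite_empty, by simp, Set.ncard_empty _⟩
    hbound) (le_csSup ⟨24, hbound⟩ ?_)
  obtain ⟨E, hE, hc, hcard⟩ := P.clique_exists
  exact ⟨↑E, hE, E.finite_toSet, hc, by rw [Set.ncard_coe_finset, hcard]⟩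

/-- a character which is non-trivial on the class -/
theorem exists_sign {P : Pre G D} (hP : Standard P) :
    ∃ σ : G →* Multiplicative (ZMod 2), ∀ a ∈ D, σ a = Multiplicative.ofAdd 1 := by
  obtain ⟨Φ, -, hΦ⟩ := exists_iso hP
  have hrels : ∀ r ∈ coxRelators Fi24.edges ∪ {r | r ∈ Fi24.extra},
      FreeGroup.lift (fun _ => Multiplicative.ofAdd (1 : ZMod 2)) r = 1 := by
    rintro r (⟨x, hx, y, hy, rfl⟩ | hr)
    · rw [map_pow, map_mul, FreeGroup.lift_apply_of, FreeGroup.lift_apply_of]
      refine (congrArg (· ^ coxLabel Fi24.edges x y) (?_ : _ = (1 : Multiplicative (ZMod 2)))).trans (one_pow _)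
      decide
    · simp only [Fi24.extra, List.mem_cons, List.not_mem_nil, or_false, Set.mem_ofPred_eq] at hr
      rcases hr with rfl | rfl <;>
        simp only [map_mul, map_pow, map_inv, Fi24.l, Fi24.k, Fi24.a, Fi24.b, Fi24.c, Fi24.d,
          Fi24.e, Fi24.f, Fi24.g, Fi24.j, Fi24.h, Fi24.i, FreeGroup.lift_apply_of] <;> decide
  refine ⟨(PresentedGroup.toGroup hrels).comp Φ.symm.toMonoidHom, fun a ha => ?_⟩
  rw [← hΦ] at ha
  obtain ⟨z, hz, rfl⟩ := ha
  obtain ⟨g, rfl⟩ := isConj_iff.mp (hz : IsConj _ z)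
  show PresentedGroup.toGroup hrels (Φ.symm (Φ _)) = _
  rw [MulEquiv.symm_apply_apply, map_mul, map_mul, map_inv, mul_right_comm, mul_inv_cancel, one_mul,
    Fi24Pres.gen, presGen, genOf_of_lt (show 10 < Fi24Pres.letters.length by decide)]
  exact PresentedGroup.toGroup.of hrels

theorem layer_index {P : Pre G D} (hP : Standard P) : (Cfsg.layer G).index = 2 := by
  obtain ⟨hL, hQ, -⟩ := layer_structure P.hDc (class_of_primitive P.hD P.hprim).2
    (pCore_two_le_center P.hD P.hprim) (pCore_three_le_center P.hD P.hprim P.hw)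
  haveI : (layer G).Normal := Layer.layer_normal
  have hle := index_le_two_of_connected P.hDc hL (connected_of_primitive P.hD P.hprim P.hw)
  have h0 : (layer G).index ≠ 0 := Subgroup.index_ne_zero_of_finite
  have h1 : (layer G).index ≠ 1 := fun h => by
    rw [Subgroup.index_eq_one] at h
    obtain ⟨σ, hσ⟩ := exists_sign hP
    have hperf : commutator ↥(layer G) = ⊤ := hQ.1.commutator_eq_top
    have hmem : P.d ∈ σ.ker := by
      have hd : P.d ∈ (commutator ↥(layer G)).map (layer G).subtype := by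
        rw [hperf]
        exact ⟨⟨P.d, h.symm ▸ Subgroup.mem_top _⟩, Subgroup.mem_top _, rfl⟩
      refine (?_ : (commutator ↥(layer G)).map (layer G).subtype ≤ σ.ker) hd
      exact Subgroup.map_le_iff_le_comap.mpr (Abelianization.commutator_subset_ker (σ.comp (layer G).subtype))
    rw [MonoidHom.mem_ker, hσ _ P.hd] at hmem
    exact absurd hmem (by decide)
  omega

end Pre

theorem m24_facts {G : Type*} [Group G] [Finite G] {D : Set G} (hD : IsThreeTranspositionGroup D)
    (hprim : IsPrimitiveUnderConj D) (ht : IsOfTypeM24 G D) :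
    (Cfsg.layer G).index = 2 ∧ D.ncard = 306936 ∧ Nat.card G = 2510411418381323442585600 ∧
      Cfsg.commutingWidth D = 24 ∧
      ∀ d ∈ D, Subgroup.closure {y : G | y ∈ D ∧ y ≠ d ∧ Commute d y} = Subgroup.centralizer ({d} : Set G) := by
  obtain ⟨P, hP⟩ := exists_pre hD hprim ht
  exact ⟨Pre.layer_index hP, Pre.D_card hP, (Pre.card_eq hP).1, P.width, fun d hd => Pre.perpGroup_eq hP hd⟩

end CfsgLib.M24
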