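import Cfsg.Agent.Lib.M24.PairChecks
import Cfsg.Agent.Lib.CosetEnum.UpPieces

/-!
Kernel check: three points commute with the eight common neighbours of a pair.
-/

set_option autoImplicit false
set_option Elab.async false

namespace CfsgLib.M24

open CfsgLib.CosetEnum CfsgLib.Fi23Pres

/-- one of the three points, or one not commuting with all of the eight -/
noncomputable def uniqOK (t x : ℕ) : Bool :=
  strict x fun x => pick (ltB x certA.N)
    (Nat.beq x 0 || Nat.beq x 1 || Nat.beq x t || !(pairEight.all fun e => comB e x)) true

theorem far_uniq_0 : allUp (uniqOK (actPt 0 1)) 12 0 = true := by decide +kernel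

theorem far_uniq_1 : allUp (uniqOK (actPt 0 1)) 12 4096 = true := by decide +kernel

theorem far_uniq_2 : allUp (uniqOK (actPt 0 1)) 12 8192 = true := by decide +kernel

theorem far_uniq_3 : allUp (uniqOK (actPt 0 1)) 12 12288 = true := by decide +kernel

theorem far_uniq_4 : allUp (uniqOK (actPt 0 1)) 12 16384 = true := by decide +kernel

theorem far_uniq_5 : allUp (uniqOK (actPt 0 1)) 12 20480 = true := by decide +kernel

theorem far_uniq_6 : allUp (uniqOK (actPt 0 1)) 12 24576 = true := by decide +kernel

theorem far_uniq_7 : allUp (uniqOK (actPt 0 1)) 12 28672 = true := by decide +kernel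

theorem far_uniq : allUp (uniqOK (actPt 0 1)) 15 0 = true :=
  allUp_of_eight (k := 12) fun j hj =>
    match j, hj with
    | 0, _ => far_uniq_0
    | 1, _ => far_uniq_1
    | 2, _ => far_uniq_2
    | 3, _ => far_uniq_3
    | 4, _ => far_uniq_4
    | 5, _ => far_uniq_5
    | 6, _ => far_uniq_6
    | 7, _ => far_uniq_7
    | i + 8, h => absurd h (by omega)

end CfsgLib.M24
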