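import Cfsg.Agent.Lib.M24.Product
import Cfsg.Agent.Lib.M24.PairUniqCheck
import Cfsg.Agent.S0293
import Cfsg.Agent.S0296

/-!
The pair of a group of type M(24): the joint centraliser, and the members commuting with its perp.
-/

set_option autoImplicit false
set_option maxRecDepth 20000
set_option linter.style.haveILetI false

namespace CfsgLib.M24

open Cfsg CfsgLib.ThreeTransp CfsgLib.ThreeTransp.Relations CfsgLib.CosetEnum CfsgLib.Fi23Pres Cfsg.Spor

theorem pair_third {x : ℕ} (hx : x < certA.N) (h : ∀ e ∈ pairEight, comB e x = true) :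
    x = 0 ∨ x = 1 ∨ x = actPt 0 1 := by
  have hs := allUp_spec far_uniq x (Nat.zero_le _) (by
    have e : certA.N = 31671 := rfl
    omega)
  unfold uniqOK at hs
  simp only [strict_eq, ltB_iff.mpr hx, pick_true] at hs
  simp only [Bool.or_eq_true, Bool.not_eq_true', List.all_eq_false] at hs
  rcases hs with ((h' | h') | h') | ⟨e, he, h'⟩
  · exact Or.inl (Nat.eq_of_beq_eq_true h')
  · exact Or.inr (Or.inl (Nat.eq_of_beq_eq_true h'))
  · exact Or.inr (Or.inr (Nat.eq_of_beq_eq_true h'))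
  · exact absurd (h e he) h'

/-- the points commuting with all common neighbours of a non-commuting pair are three -/
theorem common_perp {A B : Pt} (hAB : comB A B = false) :
    ({z : Pt | ∀ y ∈ commonNbr A B, comB y z = true} : Set Pt).ncard ≤ 3 := by
  classical
  have hne : B ≠ A := fun e => by rw [e, comB_self] at hAB; cases hAB
  obtain ⟨g, z, hz, rfl, rfl⟩ := pair_move subMask1_orbit A B
    (fun y hy _ => (far_base y).mp (hy.trans hAB)) hne
  have h8 := eight_ok
  simp only [eightOK, List.all_eq_true, List.mem_range, Bool.and_eq_true, Bool.or_eq_true, Nat.blt_eq,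
    Bool.not_eq_true', beq_iff_eq] at h8
  have hlen : pairEight.length = 8 := by decide +kernel
  let F : Finset Pt := Finset.univ.filter fun w => (w : ℕ) ∈ ({0, 1, actPt 0 1} : Finset ℕ)
  have hF : F.card ≤ 3 := by
    refine (Finset.card_le_card_of_injOn (fun w : Pt => (w : ℕ)) (t := ({0, 1, actPt 0 1} : Finset ℕ))
      (fun w hw => (Finset.mem_filter.mp hw).2) fun u _ v _ e => Fin.ext e).trans Finset.card_le_three
  refine (Set.ncard_le_ncard (t := rho g '' ↑F) ?_ (Set.toFinite _)).trans ?_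
  swap
  · rw [Set.ncard_image_of_injective _ (rho g).injective, Set.ncard_coe_finset]
    exact hF
  intro w hw
  obtain ⟨x, rfl⟩ := (rho g).surjective w
  refine Set.mem_image_of_mem _ (Finset.mem_filter.mpr ⟨Finset.mem_univ _, ?_⟩)
  have hall : ∀ e ∈ pairEight, comB e x = true := by
    intro e he
    obtain ⟨i, hi, rfl⟩ := List.getElem_of_mem he
    rw [hlen] at hi
    obtain ⟨⟨hlt, hfar⟩, -⟩ := h8 i hi
    rw [List.getD_eq_getElem _ _ (hlen.symm ▸ hi)] at hlt hfar
    have hy : (⟨_, hlt⟩ : Pt) ∈ commonNbr setupA.base z := by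
      rw [commonNbr_mask far_mask z hz]
      exact hfar
    have h := hw (rho g ⟨_, hlt⟩) (commonNbr_smul g setupA.base z ▸ Set.mem_image_of_mem _ hy)
    rwa [comB_smul] at h
  rcases pair_third x.2 hall with h | h | h <;> simp [h]

namespace Pre

variable {G : Type*} [Group G] [Finite G] {D : Set G}

/-- the members over the perp of the pair -/
theorem pair_nbr (P : Pre G D) : nbr D P.d ∩ nbr D P.c = P.lift '' {x | P.S x} := by
  ext y
  constructor
  · rintro ⟨h1, h2⟩
    obtain ⟨x, rfl⟩ := P.exists_point h1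
    exact ⟨x, h2.2.2.symm, rfl⟩
  · rintro ⟨x, hx, rfl⟩
    exact ⟨P.lift_mem x, (P.lift_mem x).1, P.lift_ne_c x, hx.symm⟩

/-- each member over the perp of the pair commutes with 351 others -/
theorem pair_nbr_count (P : Pre G D) {u : G} (hu : u ∈ nbr D P.d ∩ nbr D P.c) :
    {y | y ∈ nbr D P.d ∩ nbr D P.c ∧ y ≠ u ∧ Commute u y}.ncard = 351 := by
  rw [P.pair_nbr] at hu ⊢
  obtain ⟨p, hp, rfl⟩ := hu
  have e : {y | y ∈ P.lift '' {x | P.S x} ∧ y ≠ P.lift p ∧ Commute (P.lift p) y} = P.lift '' nbrIn P.S p := by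
    ext y
    constructor
    · rintro ⟨⟨q, hq, rfl⟩, h2, h3⟩
      exact ⟨q, ⟨hq, fun e => h2 (e ▸ rfl), (P.lift_comm p q).mp h3⟩, rfl⟩
    · rintro ⟨q, ⟨h1, h2, h3⟩, rfl⟩
      exact ⟨⟨q, h1, rfl⟩, fun e => h2 (P.lift_inj e), (P.lift_comm p q).mpr h3⟩
  rw [e, Set.ncard_image_of_injective _ (fun x y h => P.lift_inj h), P.perpSet.count p hp]

theorem pair_nbr_card {P : Pre G D} (hP : Standard P) : (nbr D P.d ∩ nbr D P.c).ncard = 3240 := by
  rw [P.pair_nbr, Set.ncard_image_of_injective _ (fun x y h => P.lift_inj h), S_card hP]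

/-- only three members commute with the perp of the pair -/
theorem pair_uniq {P : Pre G D} (hP : Standard P) {f : G} (hf : f ∈ D)
    (hall : ∀ y ∈ nbr D P.d ∩ nbr D P.c, Commute f y) : f = P.d ∨ f = P.c ∨ f = P.d * P.c * P.d := by
  have hall' : ∀ x, P.S x → Commute f (P.lift x) := fun x hx =>
    hall _ (P.pair_nbr ▸ Set.mem_image_of_mem _ hx)
  by_contra! hne
  obtain ⟨hfd, hfc, hft⟩ := hne
  by_cases hdf : Commute P.d f
  · obtain ⟨p, rfl⟩ := P.exists_point (y := f) ⟨hf, hfd, hdf⟩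
    by_cases hp : P.S p
    · have hsub : {x | P.S x} ⊆ insert p (nbrIn P.S p) := fun q hq => by
        rcases eq_or_ne q p with e | e
        · exact Set.mem_insert_iff.mpr (Or.inl e)
        · exact Set.mem_insert_of_mem _ ⟨hq, e, (P.lift_comm p q).mp (hall' q hq)⟩
      have := (Set.ncard_le_ncard hsub (Set.toFinite _)).trans (Set.ncard_insert_le _ _)
      rw [S_card hP, P.perpSet.count p hp] at this
      omega
    · obtain ⟨s, hs, hc⟩ := P.perpSet.no_common (S_card hP) p hp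
      rw [(P.lift_comm p s).mp (hall' s hs)] at hc
      cases hc
  by_cases hcf : Commute P.c f
  · obtain ⟨x, hx, hn⟩ := no_commuting hP hf hfc hcf hdf
    exact hn (hall' x hx).symm
  obtain ⟨p, hp⟩ := P.perpSet.nonempty
  set u := P.lift p
  have hu := P.lift_mem p
  obtain ⟨ψ, hinj, hcomm, hr⟩ := P.exists_view hu.1
  set t := P.d * P.c * P.d
  have hS := P.hD.1
  have htd : ¬ Commute P.d t := fun h => P.hdc (by
    have h' := (commute_conj_iff hS P.hd P.d P.c).mp (by rw [conj_eq_of_commute hS P.hd (Commute.refl P.d)]; exact h)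
    exact h')
  obtain ⟨A, hA⟩ : P.d ∈ Set.range ψ := hr ▸ ⟨P.hd, hu.2.1.symm, hu.2.2.symm⟩
  obtain ⟨B, hB⟩ : P.c ∈ Set.range ψ := hr ▸ ⟨P.hc, (P.lift_ne_c p).symm, hp⟩
  obtain ⟨E, hE⟩ : t ∈ Set.range ψ := hr ▸ ⟨conj_mem hS P.hD.2.1 P.hd P.hc,
    fun e => htd (e ▸ hu.2.2), (hu.2.2.symm.mul_right hp).mul_right hu.2.2.symm⟩
  obtain ⟨X, hX⟩ : f ∈ Set.range ψ := hr ▸ ⟨hf, fun e => hdf (e ▸ hu.2.2), (hall' p hp).symm⟩
  have hAB : comB A B = false := by
    rw [Bool.eq_false_iff]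
    intro h
    exact P.hdc (hA ▸ hB ▸ (hcomm A B).mpr h)
  have hmem : ∀ w : Pt, (∀ y ∈ nbr D P.d ∩ nbr D P.c, Commute y (ψ w)) →
      w ∈ {z : Pt | ∀ y ∈ commonNbr A B, comB y z = true} := fun w hw y hy => by
    obtain ⟨⟨h1, h2⟩, h3, h4⟩ := hy
    rw [← hcomm] at h2 h4 ⊢
    have hym : ψ y ∈ nbr D u := hr ▸ ⟨y, rfl⟩
    exact hw _ ⟨⟨hym.1, fun e => h1 (hinj (e.trans hA.symm)), hA ▸ h2⟩,
      hym.1, fun e => h3 (hinj (e.trans hB.symm)), hB ▸ h4⟩
  have hsub : ({A, B, E, X} : Set Pt) ⊆ {z : Pt | ∀ y ∈ commonNbr A B, comB y z = true} := by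
    rintro w (rfl | rfl | rfl | rfl) <;> refine hmem _ fun y hy => ?_
    · rw [hA]; exact hy.1.2.2.symm
    · rw [hB]; exact hy.2.2.2.symm
    · rw [hE]; exact (hy.1.2.2.symm.mul_right hy.2.2.2.symm).mul_right hy.1.2.2.symm
    · rw [hX]; exact (hall y hy).symm
  have h3 := (Set.ncard_le_ncard hsub (Set.toFinite _)).trans (common_perp hAB)
  have hBA : B ≠ A := fun e => by rw [e, comB_self] at hAB; cases hAB
  have hEA : E ≠ A := fun e => htd (by rw [← hE, e, hA])
  have hEB : E ≠ B := fun e => by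
    have h' : P.d * P.c * P.d = P.c := hE.symm.trans ((congrArg ψ e).trans hB)
    exact P.hdc (commute_of_conj_eq hS P.hd h')
  have hXA : X ≠ A := fun e => hfd (by rw [← hX, e, hA])
  have hXB : X ≠ B := fun e => hfc (by rw [← hX, e, hB])
  have hXE : X ≠ E := fun e => hft (by rw [← hX, e, hE])
  rw [Set.ncard_insert_of_notMem (by simp [hBA.symm, hEA.symm, hXA.symm]) (Set.toFinite _),
    Set.ncard_insert_of_notMem (by simp [hEB.symm, hXB.symm]) (Set.toFinite _),
    Set.ncard_insert_of_notMem (by simp [hXE.symm]) (Set.toFinite _), Set.ncard_singleton] at h3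
  omega

end Pre

theorem pOmega_card : Nat.card (Cfsg.POmega (ZMod 3) (Cfsg.quadFormPlus 4 (ZMod 3))) = 4952179814400 := by
  haveI : Fact (Nat.Prime 3) := ⟨Nat.prime_three⟩
  have h := Cfsg.Agent.S0293.result (ZMod.card 3) 4 le_rfl
  norm_num [Finset.prod_range_succ] at h
  omega

/-- a standard pair with its joint centraliser -/
theorem exists_pre_pair {G : Type*} [Group G] [Finite G] {D : Set G} (hD : IsThreeTranspositionGroup D)
    (hprim : IsPrimitiveUnderConj D) (ht : IsOfTypeM24 G D) :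
    ∃ P : Pre G D, Standard P ∧
      Subgroup.centralizer ({P.d, P.c} : Set G) = Subgroup.closure (nbr D P.d ∩ nbr D P.c) ∧
      Subgroup.center ↥(Subgroup.centralizer ({P.d, P.c} : Set G)) = ⊥ ∧
      ∃ M : Subgroup ↥(Subgroup.centralizer ({P.d, P.c} : Set G)), ∃ _ : M.Normal,
        Nonempty (↥M ≃* Cfsg.POmega (ZMod 3) (Cfsg.quadFormPlus 4 (ZMod 3))) ∧
        Nonempty (↥(Subgroup.centralizer ({P.d, P.c} : Set G)) ⧸ M ≃* Equiv.Perm (Fin 3)) := by
  classical
  obtain ⟨hZ, d, hd, c, hc, hdc, h23, N, hN, ⟨i⟩, ⟨q⟩⟩ := ht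
  obtain ⟨hg, hp, hsep, hw, -⟩ := perp_hyps hD hprim hZ hd h23
  obtain ⟨e, he⟩ := M23.type_m23_fi23 hg hp h23
  let P₀ : Pre G D :=
    { hD := hD, hprim := hprim, hZ := hZ, hsep := hsep, hw := hw, d := d, c := c, hd := hd, hc := hc,
      hdc := hdc, e := e, he := he,
      hsur := ⟨(q.toMonoidHom.comp (QuotientGroup.mk' N)).comp (QuotientGroup.mk' _),
        (q.surjective.comp (QuotientGroup.mk'_surjective N)).comp (QuotientGroup.mk'_surjective _)⟩ }
  obtain ⟨g, h9⟩ := perpSet_nine P₀.perpSet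
  have eS : (P₀.move g).S = fun x => P₀.S (rho g x) := funext fun x => propext (P₀.move_S g x)
  rw [← eS] at h9
  have hP : Standard (P₀.move g) := (shape (P₀.move g).perpSet h9).resolve_left (P₀.move g).not_small
  refine ⟨P₀.move g, hP, ?_⟩
  show Subgroup.centralizer ({d, c} : Set G) = Subgroup.closure (nbr D d ∩ nbr D c) ∧
    Subgroup.center ↥(Subgroup.centralizer ({d, c} : Set G)) = ⊥ ∧
    ∃ M : Subgroup ↥(Subgroup.centralizer ({d, c} : Set G)), ∃ _ : M.Normal,
      Nonempty (↥M ≃* Cfsg.POmega (ZMod 3) (Cfsg.quadFormPlus 4 (ZMod 3))) ∧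
      Nonempty (↥(Subgroup.centralizer ({d, c} : Set G)) ⧸ M ≃* Equiv.Perm (Fin 3))
  set C := Subgroup.centralizer ({d, c} : Set G) with hC
  have hCi : C = Subgroup.centralizer ({d} : Set G) ⊓ Subgroup.centralizer ({c} : Set G) := by
    ext x
    simp only [hC, Subgroup.mem_inf, Subgroup.mem_centralizer_iff, Set.mem_insert_iff,
      Set.mem_singleton_iff, forall_eq_or_imp, forall_eq]
  have hcard : 275264 * Nat.card C = 8178940946586009600 := by
    rw [hCi]
    exact Pre.pair_card hP hc hdc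
  have hle : Subgroup.closure (nbr D d ∩ nbr D c) ≤ C := (Subgroup.closure_le _).mpr fun y hy => by
    rw [SetLike.mem_coe, hC, Subgroup.mem_centralizer_iff]
    rintro z (rfl | rfl)
    exacts [hy.1.2.2.eq, hy.2.2.2.eq]
  set L := Subgroup.closure (nbr D d ∩ nbr D c) with hL
  set Z := Subgroup.center ↥L with hZdef
  have hLdvd := Subgroup.card_dvd_of_le hle
  have h1 := Subgroup.card_eq_card_quotient_mul_card_subgroup N
  rw [Nat.card_congr q.toEquiv, Nat.card_congr i.toEquiv, pOmega_card, Nat.card_perm, Nat.card_fin] at h1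
  have h2 := Subgroup.card_eq_card_quotient_mul_card_subgroup Z
  rw [h1] at h2
  have hle' := Nat.le_of_dvd Nat.card_pos hLdvd
  have h3 : Nat.factorial 3 = 6 := rfl
  rw [h3] at h1 h2
  have hpos := Nat.card_pos (α := Z)
  have hZ1 : Nat.card Z = 1 := by nlinarith
  have heq : L = C := Subgroup.eq_of_le_of_card_ge hle (by rw [h2, hZ1]; omega)
  have hZbot : Z = ⊥ := Subgroup.eq_bot_of_card_eq _ hZ1
  refine ⟨heq.symm, ?_⟩
  rw [← heq]
  refine ⟨hZbot, ?_⟩
  let m : ↥L ≃* ↥L ⧸ Z := MulEquiv.ofBijective (QuotientGroup.mk' Z)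
    ⟨(MonoidHom.ker_eq_bot_iff _).mp (by rw [QuotientGroup.ker_mk', hZbot]),
      QuotientGroup.mk'_surjective _⟩
  haveI hMn : (N.map m.symm.toMonoidHom).Normal := hN.map _ m.symm.surjective
  exact ⟨_, hMn, ⟨(m.symm.subgroupMap N).symm.trans i⟩,
    ⟨(QuotientGroup.congr (N.map m.symm.toMonoidHom) N m (by
      rw [Subgroup.map_map]
      convert Subgroup.map_id N
      ext x
      simp)).trans q⟩⟩

end CfsgLib.M24
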