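import Cfsg.Agent.Lib.M24.Setting

/-!
Counting in a group of type M(24): 306936 transpositions, and the involutions centralising a perp.
-/

set_option autoImplicit false

namespace CfsgLib.M24

open Cfsg CfsgLib.ThreeTransp CfsgLib.ThreeTransp.Relations CfsgLib.CosetEnum CfsgLib.Fi23Pres Cfsg.Spor

/-- a pair in standard position -/
def Standard {G : Type*} [Group G] [Finite G] {D : Set G} (P : Pre G D) : Prop :=
  ∀ x : Pt, P.S x ↔ smallMid.testBit x = true

namespace Pre

variable {G : Type*} [Group G] [Finite G] {D : Set G} (P : Pre G D)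

theorem S_card {P : Pre G D} (hP : Standard P) : {x : Pt | P.S x}.ncard = 3240 := by
  rw [show {x : Pt | P.S x} = {x : Pt | smallMid.testBit x = true} from Set.ext fun x => hP x,
    ← mask_card, shape_size]

/-- the perp of any member on the points -/
theorem exists_view (P : Pre G D) {a : G} (ha : a ∈ D) :
    ∃ ψ : Pt → G, Function.Injective ψ ∧ (∀ x y, Commute (ψ x) (ψ y) ↔ comB x y = true) ∧
      Set.range ψ = nbr D a := by
  obtain ⟨g, hg⟩ := class_exists_conj P.hDc P.hd ha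
  refine ⟨fun x => g * P.lift x * g⁻¹, fun x y h => P.lift_inj (mul_left_cancel (mul_right_cancel h)),
    fun x y => by rw [← P.lift_comm]; exact Commute.conj_iff g, ?_⟩
  rw [← hg, ← image_nbr (class_conjClosed P.hDc) P.d g]
  ext z
  constructor
  · rintro ⟨x, rfl⟩
    exact ⟨_, P.lift_mem x, rfl⟩
  · rintro ⟨y, hy, rfl⟩
    obtain ⟨x, rfl⟩ := P.exists_point hy
    exact ⟨x, rfl⟩

theorem two_card (P : Pre G D) {a b : G} (ha : a ∈ D) (hb : b ∈ nbr D a) :
    {y | y ∈ nbr D a ∧ y ≠ b ∧ Commute b y}.ncard = 3510 := by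
  obtain ⟨ψ, hinj, hcomm, hr⟩ := P.exists_view ha
  obtain ⟨x, rfl⟩ := (hr ▸ hb : b ∈ Set.range ψ)
  have e : {y | y ∈ nbr D a ∧ y ≠ ψ x ∧ Commute (ψ x) y} = ψ '' {y | y ≠ x ∧ comB x y = true} := by
    ext z
    constructor
    · rintro ⟨h1, h2, h3⟩
      obtain ⟨y, rfl⟩ := (hr ▸ h1 : z ∈ Set.range ψ)
      exact ⟨y, ⟨fun e => h2 (e ▸ rfl), (hcomm x y).mp h3⟩, rfl⟩
    · rintro ⟨y, ⟨h1, h2⟩, rfl⟩
      exact ⟨hr ▸ ⟨y, rfl⟩, fun e => h1 (hinj e), (hcomm x y).mpr h2⟩
  rw [e, Set.ncard_image_of_injective _ hinj, near_card]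

theorem three_card (P : Pre G D) {a b b' : G} (ha : a ∈ D) (hb : b ∈ nbr D a) (hb' : b' ∈ nbr D a) (hne : b' ≠ b)
    (h : Commute b b') :
    {y | (y ∈ nbr D a ∧ y ≠ b ∧ Commute b y) ∧ y ≠ b' ∧ Commute b' y}.ncard = 693 := by
  obtain ⟨ψ, hinj, hcomm, hr⟩ := P.exists_view ha
  obtain ⟨x, rfl⟩ := (hr ▸ hb : b ∈ Set.range ψ)
  obtain ⟨x', rfl⟩ := (hr ▸ hb' : b' ∈ Set.range ψ)
  have e : {y | (y ∈ nbr D a ∧ y ≠ ψ x ∧ Commute (ψ x) y) ∧ y ≠ ψ x' ∧ Commute (ψ x') y} =
      ψ '' commonNbr x x' := by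
    ext z
    constructor
    · rintro ⟨⟨h1, h2, h3⟩, h4, h5⟩
      obtain ⟨y, rfl⟩ := (hr ▸ h1 : z ∈ Set.range ψ)
      exact ⟨y, ⟨⟨fun e => h2 (e ▸ rfl), (hcomm x y).mp h3⟩, fun e => h4 (e ▸ rfl),
        (hcomm x' y).mp h5⟩, rfl⟩
    · rintro ⟨y, ⟨⟨h1, h2⟩, h3, h4⟩, rfl⟩
      exact ⟨⟨hr ▸ ⟨y, rfl⟩, fun e => h1 (hinj e), (hcomm x y).mpr h2⟩, fun e => h3 (hinj e),
        (hcomm x' y).mpr h4⟩
  rw [e, Set.ncard_image_of_injective _ hinj,
    common_near (fun e => hne (congrArg ψ e)) ((hcomm x x').mp h)]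

/-- nothing commuting with `c` shares the perp of the pair -/
theorem no_commuting {P : Pre G D} (hP : Standard P) {b : G} (hb : b ∈ D) (hbc : b ≠ P.c)
    (h : Commute P.c b) (hbd : ¬ Commute P.d b) : ∃ x, P.S x ∧ ¬ Commute (P.lift x) b := by
  by_contra! hall
  set X := {y | y ∈ nbr D P.c ∧ y ≠ b ∧ Commute b y}
  have hX : X.ncard = 3510 := P.two_card P.hc ⟨hb, hbc, h⟩
  have hne : ∀ x, P.lift x ≠ b := fun x e => hbd (e ▸ (P.lift_mem x).2.2)
  have hsub : P.lift '' {x | P.S x} ⊆ X := by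
    rintro _ ⟨x, hx, rfl⟩
    exact ⟨⟨(P.lift_mem x).1, P.lift_ne_c x, hx.symm⟩, hne x, (hall x hx).symm⟩
  have hinj : Function.Injective P.lift := fun x y h => P.lift_inj h
  have h1 := Set.ncard_sdiff hsub (Set.toFinite _)
  rw [hX, Set.ncard_image_of_injective _ hinj, S_card hP] at h1
  obtain ⟨p, hp⟩ := P.perpSet.nonempty
  have h3 : {y | y ∈ X ∧ y ≠ P.lift p ∧ Commute (P.lift p) y} ⊆
      P.lift '' nbrIn P.S p ∪ (X \ P.lift '' {x | P.S x}) := by
    rintro y ⟨hy, hyp, hyc⟩
    by_cases hyS : y ∈ P.lift '' {x | P.S x}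
    · obtain ⟨q, hq, rfl⟩ := hyS
      exact Or.inl ⟨q, ⟨hq, fun e => hyp (e ▸ rfl), (P.lift_comm p q).mp hyc⟩, rfl⟩
    · exact Or.inr ⟨hy, hyS⟩
  have h4 := (Set.ncard_le_ncard h3 (Set.toFinite _)).trans (Set.ncard_union_le _ _)
  have h5 : {y | y ∈ X ∧ y ≠ P.lift p ∧ Commute (P.lift p) y}.ncard = 693 :=
    P.three_card P.hc ⟨hb, hbc, h⟩ ⟨(P.lift_mem p).1, P.lift_ne_c p, hp.symm⟩ (hne p) (hall p hp).symm
  rw [h5, Set.ncard_image_of_injective _ hinj, P.perpSet.count p hp, h1] at h4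
  omega

theorem eq_one_of_centralizes (P : Pre G D) {z : G} (hz : ∀ y ∈ nbr D P.d, Commute z y) (hzd : Commute z P.d) {f : G}
    (hf : f ∈ D) (hdf : ¬ Commute P.d f) (h : Commute z f) : z = 1 := by
  have hle : Subgroup.closure {y : G | y ∈ D ∧ Commute P.d y} ≤ Subgroup.centralizer ({z} : Set G) :=
    (Subgroup.closure_le _).mpr fun y hy => by
      refine Subgroup.mem_centralizer_singleton_iff.mpr ?_
      rcases eq_or_ne y P.d with rfl | hne
      · exact hzd.eq.symm
      · exact (hz y ⟨hy.1, hne, hy.2⟩).eq.symm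
  have htop := perp_maximal P.hD P.hprim P.hw P.hd hle hf
    (Subgroup.mem_centralizer_singleton_iff.mpr h.eq.symm) hdf
  rw [← Subgroup.mem_bot, ← P.hZ, Subgroup.mem_center_iff]
  intro g
  have hg : g ∈ Subgroup.centralizer ({z} : Set G) := htop ▸ Subgroup.mem_top g
  exact Subgroup.mem_centralizer_singleton_iff.mp hg

/-- An involution centralising the perp of `d` is `d`. -/
theorem centralizing_involution {P : Pre G D} (hP : Standard P) {z : G} (hz2 : z * z = 1)
    (hz : ∀ y ∈ nbr D P.d, Commute z y) (hzd : Commute z P.d) : z = 1 ∨ z = P.d := by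
  have hS := P.hD.1
  have iz : z⁻¹ = z := inv_eq_of_mul_eq_one_right hz2
  set b := z * P.c * z⁻¹ with hbdef
  by_cases hbc : b = P.c
  · refine Or.inl (P.eq_one_of_centralizes hz hzd P.hc P.hdc ?_)
    rw [hbdef, mul_inv_eq_iff_eq_mul] at hbc
    exact hbc
  right
  have hb : b ∈ D := P.hD.2.1 z _ P.hc
  have hzd' : z * P.d * z⁻¹ = P.d := by rw [hzd.eq, mul_inv_cancel_right]
  have hdb : ¬ Commute P.d b := fun h => P.hdc (by
    rw [← hzd', hbdef] at h
    exact (Commute.conj_iff z).mp h)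
  have hSb : ∀ x, P.S x → Commute (P.lift x) b := fun x hx => by
    have := (Commute.conj_iff z).mpr hx
    rwa [(hz _ (P.lift_mem x)).eq, mul_inv_cancel_right] at this
  by_cases hcb : Commute P.c b
  · obtain ⟨x, hx, hn⟩ := no_commuting hP hb hbc hcb hdb
    exact absurd (hSb x hx) hn
  set e := P.c * b * P.c with hedef
  have he : e ∈ D := conj_mem hS P.hD.2.1 P.hc hb
  have hze : Commute z e := by
    have h1 : z * e * z⁻¹ = e := by
      rw [hedef, show z * (P.c * b * P.c) * z⁻¹ = (z * P.c * z⁻¹) * (z * b * z⁻¹) * (z * P.c * z⁻¹) by group,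
        ← hbdef, show z * b * z⁻¹ = P.c by
          rw [hbdef, iz, show z * (z * P.c * z) * z = (z * z) * P.c * (z * z) by group, hz2, one_mul, mul_one]]
      exact (braid hS P.hc hb hcb).symm
    rw [mul_inv_eq_iff_eq_mul] at h1
    exact h1
  by_cases hde : Commute P.d e
  · rcases eq_or_ne e P.d with hed | hed
    · -- `z d` fixes `c`
      have hb' : b = P.c * P.d * P.c := by
        rw [← hed, hedef]; exact (conj_conj hS P.hc b).symm
      have hzdc : Commute (z * P.d) P.c := by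
        have h1 : z * P.d * P.c * (z * P.d)⁻¹ = P.c := by
          have h2 : b = P.d * P.c * P.d := hb'.trans (braid hS P.hc P.hd fun h => P.hdc h.symm)
          rw [mul_inv_rev, inv_eq_self hS P.hd, show z * P.d * P.c * (P.d * z⁻¹) =
            z * (P.d * P.c * P.d) * z⁻¹ by group, ← h2, hbdef, iz,
            show z * (z * P.c * z) * z = (z * z) * P.c * (z * z) by group, hz2, one_mul, mul_one]
        rw [mul_inv_eq_iff_eq_mul] at h1
        exact h1
      have h := P.eq_one_of_centralizes (z := z * P.d) (fun y hy => (hz y hy).mul_left hy.2.2)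
        (hzd.mul_left (Commute.refl _)) P.hc P.hdc hzdc
      rw [eq_inv_of_mul_eq_one_left h, inv_eq_self hS P.hd]
    · exfalso
      obtain ⟨x, hx⟩ := P.exists_point (y := e) ⟨he, hed, hde⟩
      have hxS : ¬ P.S x := fun h => by
        have h1 : Commute e P.c := hx ▸ h
        refine hcb ?_
        have h2 := (Commute.conj_iff P.c).mpr h1
        rw [mul_inv_cancel_right, inv_eq_self hS P.hc, hedef, conj_conj hS P.hc] at h2
        exact h2.symm
      obtain ⟨s, hs, hn⟩ := P.perpSet.no_common (S_card hP) x hxS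
      rw [← Bool.not_eq_true, ← P.lift_comm, hx] at hn
      exact hn ((hs.mul_right (hSb s hs)).mul_right hs).symm
  · exfalso
    exact hbc (by
      rw [hbdef, P.eq_one_of_centralizes hz hzd he hde hze]
      group)

/-- a kernel involution is `d` -/
theorem eq_d_of_kernel {P : Pre G D} (hP : Standard P) {y : ↥(perpGroup D P.d)} (h : P.π y = 1)
    (h2 : y * y = 1) (hne : y ≠ 1) : (y : G) = P.d :=
  (centralizing_involution hP (congrArg Subtype.val h2) (fun _ hu => (P.π_eq_one h hu).symm)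
    (commute_of_mem_perpGroup y.2)).resolve_left fun e => hne (Subtype.ext e)

/-- the members not commuting with `d` -/
theorem far_count {P : Pre G D} (hP : Standard P) :
    {a | a ∈ D ∧ ¬ Commute P.d a}.ncard = 275264 := by
  classical
  haveI := Fintype.ofFinite G
  set A := {a | a ∈ D ∧ ¬ Commute P.d a}
  have h1 : ∀ a ∈ A, {x : Pt | Commute (P.lift x) a}.ncard = 3240 := by
    intro a ha
    obtain ⟨g, hg, hga⟩ := transitive_not_commute P.hD P.hprim P.hw P.hd P.hc ha.1 P.hdc ha.2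
    have hgd : Commute g P.d := (perp_closure_conj P.hD.1 P.hD.2.1 hg P.hd).1
    have hfix : g * P.d * g⁻¹ = P.d := by rw [hgd.eq, mul_inv_cancel_right]
    have himg : (fun y => g * y * g⁻¹) '' (P.lift '' {x | P.S x}) =
        P.lift '' {x : Pt | Commute (P.lift x) a} := by
      ext z
      constructor
      · rintro ⟨_, ⟨x, hx, rfl⟩, rfl⟩
        obtain ⟨q, hq⟩ := P.exists_point (y := g * P.lift x * g⁻¹) (by
          have := conj_mem_nbr (class_conjClosed P.hDc) hgd (P.lift_mem x)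
          exact this)
        exact ⟨q, show Commute (P.lift q) a by rw [hq, ← hga]; exact (Commute.conj_iff g).mpr hx, hq⟩
      · rintro ⟨q, hq, rfl⟩
        obtain ⟨x, hx⟩ := P.exists_point (y := g⁻¹ * P.lift q * g⁻¹⁻¹)
          (conj_mem_nbr (class_conjClosed P.hDc) hgd.inv_left (P.lift_mem q))
        refine ⟨_, ⟨x, ?_, rfl⟩, by rw [hx]; group⟩
        show Commute (P.lift x) P.c
        rw [hx, show P.c = g⁻¹ * a * g⁻¹⁻¹ by rw [← hga]; group]
        exact (Commute.conj_iff g⁻¹).mpr hq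
    have := congrArg Set.ncard himg
    rwa [Set.ncard_image_of_injective _ (fun x y h => mul_left_cancel (mul_right_cancel h)),
      Set.ncard_image_of_injective _ (fun x y h => P.lift_inj h),
      Set.ncard_image_of_injective _ (fun x y h => P.lift_inj h), S_card hP, eq_comm] at this
  have h2 : ∀ x : Pt, {a | a ∈ A ∧ Commute (P.lift x) a}.ncard = 28160 := by
    intro x
    obtain ⟨ψ, hinj, hcomm, hr⟩ := P.exists_view (P.lift_mem x).1
    obtain ⟨q, hq⟩ := (hr ▸ ⟨P.hd, (P.lift_mem x).2.1.symm, (P.lift_mem x).2.2.symm⟩ : P.d ∈ Set.range ψ)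
    have e : {a | a ∈ A ∧ Commute (P.lift x) a} = ψ '' {y | comB q y = false} := by
      ext z
      constructor
      · rintro ⟨⟨h1, h2⟩, h3⟩
        obtain ⟨y, rfl⟩ := (hr ▸ ⟨h1, fun e => h2 (e ▸ (P.lift_mem x).2.2), h3⟩ : z ∈ Set.range ψ)
        exact ⟨y, by rw [Set.mem_ofPred_eq, ← Bool.not_eq_true, ← hcomm, hq]; exact h2, rfl⟩
      · rintro ⟨y, hy, rfl⟩
        have hmem : ψ y ∈ nbr D (P.lift x) := hr ▸ ⟨y, rfl⟩
        rw [Set.mem_ofPred_eq, ← Bool.not_eq_true, ← hcomm, hq] at hy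
        exact ⟨⟨hmem.1, hy⟩, hmem.2.2⟩
    rw [e, Set.ncard_image_of_injective _ hinj, far_card]
  have hcount := Finset.card_mul_eq_card_mul (s := A.toFinset) (t := (Finset.univ : Finset Pt))
    (fun a x => Commute (P.lift x) a) (m := 3240) (n := 28160)
    (fun a ha => by
      rw [← h1 a (Set.mem_toFinset.mp ha), Set.ncard_eq_toFinset_card']
      refine congrArg Finset.card ?_
      ext x
      simp [Finset.bipartiteAbove])
    (fun x _ => by
      rw [← h2 x, Set.ncard_eq_toFinset_card']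
      refine congrArg Finset.card ?_
      ext a
      simp [Finset.bipartiteBelow])
  rw [← Set.ncard_eq_toFinset_card', Finset.card_univ, ← Nat.card_eq_fintype_card, Nat.card_fin] at hcount
  have hN : certA.N = 31671 := rfl
  rw [hN] at hcount
  omega

/-- the size of the class -/
theorem D_card {P : Pre G D} (hP : Standard P) : D.ncard = 306936 := by
  set A := {a | a ∈ D ∧ ¬ Commute P.d a}
  have hD : D = insert P.d (Set.range P.lift ∪ A) := by
    ext y
    constructor
    · intro hy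
      by_cases h : Commute P.d y
      · rcases eq_or_ne y P.d with rfl | hne
        · exact Set.mem_insert _ _
        · obtain ⟨x, rfl⟩ := P.exists_point ⟨hy, hne, h⟩
          exact Set.mem_insert_of_mem _ (Or.inl ⟨x, rfl⟩)
      · exact Set.mem_insert_of_mem _ (Or.inr ⟨hy, h⟩)
    · rintro (rfl | ⟨x, rfl⟩ | h)
      exacts [P.hd, (P.lift_mem x).1, h.1]
  have hdisj : Disjoint (Set.range P.lift) A :=
    Set.disjoint_left.mpr fun y ⟨x, hx⟩ h => h.2 (hx ▸ (P.lift_mem x).2.2)
  have hnot : P.d ∉ Set.range P.lift ∪ A := by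
    rintro (⟨x, hx⟩ | h)
    · exact (P.lift_mem x).2.1 hx
    · exact h.2 (Commute.refl _)
  rw [hD, Set.ncard_insert_of_notMem hnot (Set.toFinite _), Set.ncard_union_eq hdisj (Set.toFinite _)
    (Set.toFinite _), far_count hP, ← Nat.card_coe_set_eq,
    Nat.card_range_of_injective (fun x y h => P.lift_inj h), Nat.card_fin]
  rfl

/-- the class and the centraliser -/
theorem card_eq_mul {P : Pre G D} (hP : Standard P) :
    Nat.card G = 306936 * Nat.card (Subgroup.centralizer ({P.d} : Set G)) := by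
  have hidx : (Subgroup.centralizer ({P.d} : Set G)).index = D.ncard := by
    set f : G →* ConjAct G := ConjAct.toConjAct.toMonoidHom
    have h : (MulAction.stabilizer (ConjAct G) P.d).comap f = Subgroup.centralizer ({P.d} : Set G) := by
      ext x
      simp only [f, Subgroup.mem_comap, MulAction.mem_stabilizer_iff, MulEquiv.coe_toMonoidHom,
        ConjAct.toConjAct_smul, Subgroup.mem_centralizer_singleton_iff, mul_inv_eq_iff_eq_mul]
    rw [← h, Subgroup.index_comap_of_surjective (f := f) _ ConjAct.toConjAct.surjective,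
      MulAction.index_stabilizer]
    refine congrArg Set.ncard (Set.ext fun y => ?_)
    rw [ConjAct.mem_orbit_conjAct]
    refine ⟨fun hy => ?_, fun hy => ?_⟩
    · obtain ⟨g, rfl⟩ := isConj_iff.mp (IsConj.symm hy)
      exact P.hD.2.1 g _ P.hd
    · obtain ⟨g, rfl⟩ := class_exists_conj P.hDc P.hd hy
      exact (isConj_iff.mpr ⟨g, rfl⟩ : IsConj P.d _).symm
  rw [← (Subgroup.centralizer ({P.d} : Set G)).index_mul_card, hidx, D_card hP]

end Pre

end CfsgLib.M24
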