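import Cfsg.Agent.Lib.M24.Walk
import Cfsg.Agent.Lib.M24.Count

/-!
A group of type M(24) satisfies the relations of the presented Fi24, and is isomorphic to it.
-/

set_option autoImplicit false

namespace CfsgLib.M24

open Cfsg CfsgLib.ThreeTransp CfsgLib.ThreeTransp.Relations CfsgLib.CosetEnum Cfsg.Spor

theorem tau_ok : (Fi24Pres.eqK Fi24Pres.tauW (tauU ++ (tauV ++ [1] ++ tauV.reverse)) && Fi24Pres.rightOK tauU &&
    (tauV.all fun g => Nat.blt g 10) &&
    smallMid.testBit (Fi23Pres.certA.run 8006 tauV.reverse)) = true := by decide +kernel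

namespace Pre

variable {G : Type*} [Group G] [Finite G] {D : Set G} (P : Pre G D)

/-- the lifted letters -/
noncomputable def genH (k : ℕ) : ↥(perpGroup D P.d) := if k < 10 then P.liftH (letterPt k) else 1

/-- the twelve generators -/
noncomputable def genG (k : ℕ) : G :=
  if k < 10 then P.lift (letterPt k) else if k = 10 then P.d else if k = 11 then P.c else 1

theorem genG_small {k : ℕ} (hk : k < 10) : P.genG k = (P.genH k : G) := by
  simp [genG, genH, hk, lift]

theorem π_genH {k : ℕ} (hk : k < 10) : P.π (P.genH k) = Fi23Pres.gen k := by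
  rw [genH, if_pos hk, P.π_lift, (letterPt_spec hk).2]

theorem coe_word {w : List ℕ} (hw : ∀ g ∈ w, g < 10) :
    ((prodW P.genH w : ↥(perpGroup D P.d)) : G) = prodW P.genG w := by
  rw [← Subgroup.coe_subtype, map_prodW]
  exact prodW_congr fun g hg => (P.genG_small (hw g hg)).symm

theorem π_word {w : List ℕ} (hw : ∀ g ∈ w, g < 10) : P.π (prodW P.genH w) = prodW Fi23Pres.gen w := by
  rw [map_prodW]
  exact prodW_congr fun g hg => P.π_genH (hw g hg)

theorem genG_mem (k : ℕ) (hk : k < 12) : P.genG k ∈ D := by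
  unfold genG
  split
  · exact (P.lift_mem _).1
  · split
    · exact P.hd
    · rw [if_pos (by omega)]; exact P.hc

theorem genG_comm {P : Pre G D} (hP : Standard P) {a b : ℕ} (ha : a < 12) (hb : b < 12) (hne : a ≠ b) :
    Commute (P.genG a) (P.genG b) ↔ Fi24Pres.adjB a b = false := by
  have hsmall : ∀ k < 10, P.genG k = P.lift (letterPt k) := fun k hk => if_pos hk
  have hd : P.genG 10 = P.d := rfl
  have hc : P.genG 11 = P.c := rfl
  have h10 : ∀ k < 10, (Commute (P.genG k) (P.genG 10) ↔ Fi24Pres.adjB k 10 = false) := fun k hk => by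
    have hadj : ∀ k < 10, Fi24Pres.adjB k 10 = false := by decide +kernel
    simp only [hadj k hk, iff_true, hsmall k hk, hd]
    exact (P.lift_mem _).2.2.symm
  have h11 : ∀ k < 10, (Commute (P.genG k) (P.genG 11) ↔ Fi24Pres.adjB k 11 = false) := fun k hk => by
    have hbit : ∀ k < 10, smallMid.testBit (tenPts.getD k 0) = !Fi24Pres.adjB k 11 := by decide +kernel
    rw [hsmall k hk, hc]
    show P.S _ ↔ _
    rw [hP, (letterPt_spec hk).1, hbit k hk, Bool.not_eq_true']
  have hsym : ∀ a < 12, ∀ b < 12, Fi24Pres.adjB a b = Fi24Pres.adjB b a := by decide +kernel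
  rcases Nat.lt_or_ge a 10 with a10 | a10 <;> rcases Nat.lt_or_ge b 10 with b10 | b10
  · rw [hsmall a a10, hsmall b b10]
    exact P.letterPt_comm a10 b10 hne
  · rcases (show b = 10 ∨ b = 11 by omega) with rfl | rfl
    exacts [h10 a a10, h11 a a10]
  · rw [hsym a ha b hb]
    refine ⟨fun h => ?_, fun h => ?_⟩ <;> rcases (show a = 10 ∨ a = 11 by omega) with rfl | rfl
    exacts [(h10 b b10).mp h.symm, (h11 b b10).mp h.symm, ((h10 b b10).mpr h).symm, ((h11 b b10).mpr h).symm]
  · rcases (show (a = 10 ∧ b = 11) ∨ (a = 11 ∧ b = 10) by omega) with ⟨rfl, rfl⟩ | ⟨rfl, rfl⟩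
    · simp only [hd, hc, P.hdc, show Fi24Pres.adjB 10 11 = true from rfl, Bool.true_eq_false]
    · simp only [hd, hc, show ¬ Commute P.c P.d from fun h => P.hdc h.symm,
        show Fi24Pres.adjB 11 10 = true from rfl, Bool.true_eq_false]

theorem cox24 {P : Pre G D} (hP : Standard P) : Cox24 P.genG where
  sq g := by
    rcases Nat.lt_or_ge g 12 with h | h
    · exact mul_self_eq_one P.hD.1 (P.genG_mem g h)
    · simp [genG, show ¬ g < 10 by omega, show g ≠ 10 by omega, show g ≠ 11 by omega]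
  cox :=
    { sq := fun a ha => mul_self_eq_one P.hD.1 (P.genG_mem a ha)
      comm := fun a ha b hb h => by
        rcases eq_or_ne a b with rfl | hne
        · exact Commute.refl _
        · exact (genG_comm hP ha hb hne).mpr h
      braid := fun a ha b hb h => by
        have hne : a ≠ b := by
          rintro rfl
          exact absurd h (by revert ha; revert a; decide +kernel)
        refine braid P.hD.1 (P.genG_mem a ha) (P.genG_mem b hb) fun hc => ?_
        rw [genG_comm hP ha hb hne, h] at hc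
        cases hc }

/-- The central word of E7 is `d`. -/
theorem seven_d {P : Pre G D} (hP : Standard P) :
    ((prodW P.genH Fi24Pres.sevenW : ↥(perpGroup D P.d)) : G) = P.d ∧ P.π (prodW P.genH Fi24Pres.sevenW) = 1 := by
  have hlt : ∀ g ∈ Fi24Pres.sevenW, g < 10 := by decide +kernel
  obtain ⟨h1, hZR, hZ, hR, hZK, h3⟩ := (cox24 hP).seven_ident
  set y := prodW P.genH Fi24Pres.sevenW
  have hy : P.π y = 1 := by
    rw [P.π_word hlt, show Fi24Pres.sevenW = M23.wordA from rfl, M23.wordA]
    exact Fi23Pres.modelA.rel _ (by decide +kernel)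
  refine ⟨eq_d_of_kernel hP hy (Subtype.ext ?_) ?_, hy⟩
  · rw [Subgroup.coe_mul, P.coe_word hlt, h1, hZR.symm.mul_mul_mul_comm, hZ, hR, one_mul]
    rfl
  · intro e
    have e' : prodW P.genG Fi24Pres.minusOne * prodW P.genG Fi24Pres.rootEight = 1 := by
      rw [← h1, ← P.coe_word hlt]; exact congrArg Subtype.val e
    set Z := prodW P.genG Fi24Pres.minusOne
    set R := prodW P.genG Fi24Pres.rootEight
    have hRZ : R = Z := by
      rw [eq_inv_of_mul_eq_one_right e', inv_eq_of_mul_eq_one_right hZ]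
    have hc : P.genG 11 * P.genG 11 = 1 := (cox24 hP).sq 11
    have hR11 : R * P.genG 11 = 1 := by
      have h2 : (R * P.genG 11) ^ 2 = 1 := by
        rw [pow_two, (hRZ ▸ hZK : Commute R (P.genG 11)).symm.mul_mul_mul_comm, hR, hc, one_mul]
      rw [← h3, pow_succ, h2, one_mul]
    have hRc : R = P.genG 11 := by
      rw [eq_inv_of_mul_eq_one_left hR11, inv_eq_of_mul_eq_one_right hc]
    have hz0 := Fi23Mult.reduces_prod (cox24 hP).cox
      (show Fi23Mult.reduces Fi24Pres.adjB 12 rootZeroMoves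
        (Fi24Pres.rootEight ++ [0] ++ Fi24Pres.rootEight ++ [0]) = true by decide +kernel)
    simp only [prodW_append, prodW_cons, prodW_nil, mul_one] at hz0
    rw [show prodW P.genG Fi24Pres.rootEight = P.genG 11 from hRc] at hz0
    have hcom : Commute (P.genG 11) (P.genG 0) :=
      Fi24Spider.commute_of_sq hc ((cox24 hP).sq 0) (by rw [pow_two, ← hz0]; simp only [mul_assoc])
    rw [genG_comm hP (by norm_num) (by norm_num) (by norm_num)] at hcom
    exact absurd hcom (by decide)

theorem rel24 {P : Pre G D} (hP : Standard P) : Rel24 P.genG :=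
  { cox24 hP with
    ten := by
      rw [← P.coe_word (w := Fi24Pres.sevenW) (by decide +kernel), (seven_d hP).1]
      rfl }

theorem tau_comm {P : Pre G D} (hP : Standard P) :
    Commute (P.genG 11) (prodW P.genG Fi24Pres.tauW) := by
  have h := tau_ok
  simp only [Bool.and_eq_true, List.all_eq_true, Nat.blt_eq] at h
  obtain ⟨⟨⟨hK, hu⟩, hv⟩, hbit⟩ := h
  have hu11 : ∀ g ∈ tauU, g < 11 := fun g hg => by
    simp only [Fi24Pres.rightOK, List.all_eq_true, Bool.and_eq_true, Nat.blt_eq] at hu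
    have := (hu g hg).1; omega
  rw [(rel24 hP).eq_of_eqK (by decide +kernel) (by
      simp only [List.forall_mem_append, List.mem_reverse, List.mem_singleton]
      exact ⟨hu11, ⟨fun g hg => (hv g hg).trans (by norm_num), fun g hg => by omega⟩,
        fun g hg => (hv g hg).trans (by norm_num)⟩) hK, prodW_append]
  refine (right_comm (rel24 hP) hu).mul_right ?_
  set g := prodW P.genH tauV
  set x := Fi23Pres.rho (P.π g) (letterPt 1)
  have hxv : (x : ℕ) = Fi23Pres.certA.run 8006 tauV.reverse := by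
    rw [show x = Fi23Pres.rho (prodW Fi23Pres.gen tauV) (letterPt 1) by rw [← P.π_word hv],
      Fi23Pres.setupA.rho_prodW hv, Fi24Pres.revInv_eq_reverse hv, (letterPt_spec (by norm_num)).1]
    rfl
  have hx : P.S x := (hP x).mpr (by rw [hxv]; exact hbit)
  have hword : prodW P.genG (tauV ++ [1] ++ tauV.reverse) = P.lift x := by
    rw [prodW_append, prodW_append, (cox24 hP).prodW_rev, P.lift_conj, P.coe_word hv, prodW_cons,
      prodW_nil, mul_one]
    rfl
  rw [hword]
  exact hx.symm

theorem exists_hom {P : Pre G D} (hP : Standard P) :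
    ∃ Φ : Fi24 →* G, ∀ k < 12, Φ (Fi24Pres.gen k) = P.genG k := by
  let φ : Fi24.Gen → G := fun x => P.genG (Fi24Pres.letters.idxOf x)
  have hidx : ∀ x : Fi24.Gen, Fi24Pres.letters.idxOf x < 12 ∧
      Fi24Pres.letters.getD (Fi24Pres.letters.idxOf x) .l = x := by
    intro x; cases x <;> decide
  have hgen : ∀ k < 12, genOf Fi24Pres.letters φ k = P.genG k := fun k hk => by
    rw [genOf_of_lt (show k < Fi24Pres.letters.length from hk)]
    simp only [φ, List.Nodup.idxOf_getElem (by decide) k (show k < Fi24Pres.letters.length from hk)]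
  have hw : ∀ w : List ℕ, (∀ g ∈ w, g < 12) → prodW (genOf Fi24Pres.letters φ) w = prodW P.genG w :=
    fun w hw => prodW_congr fun g hg => hgen g (hw g hg)
  have hsq : ∀ x, φ x * φ x = 1 := fun x => (cox24 hP).sq _
  have hR := rel24 hP
  have hrels : ∀ r ∈ coxRelators Fi24.edges ∪ {r | r ∈ Fi24.extra}, FreeGroup.lift φ r = 1 := by
    rintro r (⟨x, -, y, -, rfl⟩ | hr)
    · simp only [map_pow, map_mul, FreeGroup.lift_apply_of]
      have hlab := Fi24Pres.labels _ (hidx x).1 _ (hidx y).1
      rw [(hidx x).2, (hidx y).2] at hlab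
      show (P.genG _ * P.genG _) ^ _ = 1
      rw [hlab]
      by_cases e : Fi24Pres.letters.idxOf x = Fi24Pres.letters.idxOf y
      · rw [if_pos e, e, pow_one, hR.sq]
      rw [if_neg e]
      cases ha : Fi24Pres.adjB (Fi24Pres.letters.idxOf x) (Fi24Pres.letters.idxOf y)
      · rw [if_neg (by simp), pow_two,
          (hR.cox.comm _ (hidx x).1 _ (hidx y).1 ha).symm.mul_mul_mul_comm, hR.sq, hR.sq, one_mul]
      · rw [if_pos rfl]
        refine mul_pow_three_of_not_commute P.hD.1 (P.genG_mem _ (hidx x).1) (P.genG_mem _ (hidx y).1) ?_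
        rw [genG_comm hP (hidx x).1 (hidx y).1 e, ha]
        simp
    · simp only [Set.mem_ofPred_eq, Fi24.extra, List.mem_cons, List.not_mem_nil, or_false] at hr
      have h7 : ∀ g ∈ Fi24Pres.sevenW, g < 12 := by decide +kernel
      have hz : ∀ g ∈ Fi24Pres.zWord24, g < 12 := by decide +kernel
      rcases hr with rfl | rfl
      · have h1 : prodW (genOf Fi24Pres.letters φ) (10 :: Fi24Pres.sevenW.reverse) = 1 := by
          rw [hw _ (by simpa using h7), prodW_cons, (cox24 hP).prodW_rev, ← hR.ten, mul_inv_cancel]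
        refine Eq.trans ?_ h1
        rw [prodW_cons, show prodW (genOf Fi24Pres.letters φ) Fi24Pres.sevenW.reverse =
            (prodW (genOf Fi24Pres.letters φ) Fi24Pres.sevenW)⁻¹ by
          rw [hw _ (by simpa using h7), (cox24 hP).prodW_rev, hw _ h7],
          Fi24Pres.sevenW, prodW_powWord, map_mul, map_inv, map_pow]
        simp [prodW, genOf, Fi24Pres.letters, Fi24.l, Fi24.a, Fi24.b, Fi24.c, Fi24.d, Fi24.e, Fi24.f,
          Fi24.h, mul_assoc]
      · have h1 : prodW (genOf Fi24Pres.letters φ) Fi24Pres.zWord24 = 1 := by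
          rw [hw _ hz, z_rel hR (tau_comm hP)]
        refine Eq.trans ?_ h1
        rw [map_pow, Fi24Pres.zWord24, prodW_powWord]
        simp [prodW, genOf, Fi24Pres.letters, Fi24.l, Fi24.k, Fi24.a, Fi24.b, Fi24.c, Fi24.d, Fi24.e,
          Fi24.f, Fi24.g, Fi24.j, Fi24.h, Fi24.i, mul_assoc]
  refine ⟨PresentedGroup.toGroup hrels, fun k hk => ?_⟩
  rw [← hgen k hk, Fi24Pres.gen, presGen, genOf_of_lt (show k < Fi24Pres.letters.length from hk),
    genOf_of_lt (show k < Fi24Pres.letters.length from hk)]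
  exact PresentedGroup.toGroup.of hrels

theorem range_top {P : Pre G D} (hP : Standard P) {Φ : Fi24 →* G}
    (h : ∀ k < 12, Φ (Fi24Pres.gen k) = P.genG k) : Φ.range = ⊤ := by
  have hg : ∀ k < 12, P.genG k ∈ Φ.range := fun k hk => ⟨_, h k hk⟩
  refine perp_maximal P.hD P.hprim P.hw P.hd ((Subgroup.closure_le _).mpr fun y hy => ?_) P.hc
    (hg 11 (by norm_num)) P.hdc
  rcases eq_or_ne y P.d with rfl | hne
  · exact hg 10 (by norm_num)
  obtain ⟨x, rfl⟩ := P.exists_point ⟨hy.1, hne, hy.2⟩
  obtain ⟨u, hu⟩ := exists_move (letterPt 1) x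
  have hu' : u ∈ (Subgroup.closure {y : ↥(perpGroup D P.d) | ∃ k < 10, P.genH k = y}).map P.π := by
    rw [MonoidHom.map_closure]
    have hle : Subgroup.closure {x | ∃ j < Fi23Pres.certA.K, Fi23Pres.gen j = x} ≤
        Subgroup.closure (P.π '' {y : ↥(perpGroup D P.d) | ∃ k < 10, P.genH k = y}) :=
      Subgroup.closure_mono fun z ⟨j, hj, e⟩ => ⟨_, ⟨j, hj, rfl⟩, (P.π_genH hj).trans e⟩
    exact hle (Fi23Pres.setupA.gen_top ▸ Subgroup.mem_top u)
  obtain ⟨g, hg', rfl⟩ := hu'
  have hgR : (g : G) ∈ Φ.range := by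
    have hle : Subgroup.closure {y : ↥(perpGroup D P.d) | ∃ k < 10, P.genH k = y} ≤
        Φ.range.comap (perpGroup D P.d).subtype :=
      (Subgroup.closure_le _).mpr fun z ⟨k, hk, e⟩ => by
        rw [← e]
        show (P.genH k : G) ∈ Φ.range
        rw [← P.genG_small hk]
        exact hg k (by omega)
    exact hle hg'
  rw [← hu, P.lift_conj]
  have h1 := hg 1 (by norm_num)
  rw [show P.genG 1 = P.lift (letterPt 1) from rfl] at h1
  exact mul_mem (mul_mem hgR h1) (inv_mem hgR)

theorem centralizer_ge {P : Pre G D} (hP : Standard P) :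
    perpGroup D P.d ≤ Subgroup.centralizer ({P.d} : Set G) ∧
      8178940946586009600 ≤ Nat.card ↥(perpGroup D P.d) := by
  refine ⟨fun g hg => Subgroup.mem_centralizer_singleton_iff.mpr (commute_of_mem_perpGroup hg).eq, ?_⟩
  obtain ⟨hd, h1⟩ := seven_d hP
  have h2 : 2 ≤ Nat.card P.π.ker := by
    rw [show (2 : ℕ) = 1 + 1 from rfl, Nat.add_one_le_iff, Finite.one_lt_card_iff_nontrivial]
    refine ⟨⟨⟨_, h1⟩, 1, fun e => ne_one_of_mem P.hD.1 P.hd ?_⟩⟩
    rw [← hd]
    exact congrArg (fun z : P.π.ker => ((z : ↥(perpGroup D P.d)) : G)) e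
  have h := P.π.ker.card_mul_index
  rw [Subgroup.index_ker, MonoidHom.range_eq_top.mpr P.π_surjective, Subgroup.card_top,
    Fi23Pres.card_faithful.1] at h
  rw [← h]
  exact le_trans (by norm_num) (Nat.mul_le_mul_right _ h2)

theorem card_lower {P : Pre G D} (hP : Standard P) : 2510411418381323442585600 ≤ Nat.card G := by
  obtain ⟨h1, h2⟩ := centralizer_ge hP
  rw [card_eq_mul hP]
  exact le_trans (by norm_num) (Nat.mul_le_mul_left 306936 (h2.trans (Subgroup.card_le_of_le h1)))

/-- The recognition. -/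
theorem exists_iso {P : Pre G D} (hP : Standard P) :
    ∃ Φ : Fi24 ≃* G, (∀ k < 12, Φ (Fi24Pres.gen k) = P.genG k) ∧
      Φ '' conjugatesOf (Fi24Pres.gen 10) = D := by
  obtain ⟨Φ, hΦ⟩ := exists_hom hP
  have hsurj : Function.Surjective Φ := MonoidHom.range_eq_top.mp (range_top hP hΦ)
  haveI := Fi24Pres.finite_card.1
  have hbij : Function.Bijective Φ :=
    hsurj.bijective_of_nat_card_le (Fi24Pres.finite_card.2.trans (card_lower hP))
  refine ⟨MulEquiv.ofBijective Φ hbij, hΦ, Set.ext fun y => ?_⟩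
  have h10 : Φ (Fi24Pres.gen 10) = P.d := hΦ 10 (by norm_num)
  constructor
  · rintro ⟨z, hz, rfl⟩
    obtain ⟨g, rfl⟩ := isConj_iff.mp (hz : IsConj _ z)
    show Φ _ ∈ D
    rw [map_mul, map_mul, map_inv, h10]
    exact P.hD.2.1 _ _ P.hd
  · intro hy
    obtain ⟨g, rfl⟩ := class_exists_conj P.hDc P.hd hy
    obtain ⟨g', rfl⟩ := hsurj g
    refine ⟨g' * Fi24Pres.gen 10 * g'⁻¹, isConj_iff.mpr ⟨g', rfl⟩, ?_⟩
    show Φ _ = _
    rw [map_mul, map_mul, map_inv, h10]

end Pre

/-- A group of type M(24) is the presented Fi24. -/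
theorem type_m24_fi24 {G : Type*} [Group G] [Finite G] {D : Set G} (hD : IsThreeTranspositionGroup D)
    (hprim : IsPrimitiveUnderConj D) (ht : IsOfTypeM24 G D) :
    ∃ Φ : Fi24 ≃* G, Φ '' conjugatesOf (Fi24Pres.gen 10) = D := by
  obtain ⟨P, hP⟩ := exists_pre hD hprim ht
  obtain ⟨Φ, -, hΦ⟩ := Pre.exists_iso (P := P) hP
  exact ⟨Φ, hΦ⟩

end CfsgLib.M24
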