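import Cfsg.Agent.Lib.M24.CertChecks
import Cfsg.Agent.Lib.Fi24Pres.ChkIndex

/-!
Kernel checks for the letters and the three orbits of the nine standard transpositions.
-/

set_option autoImplicit false

namespace CfsgLib.M24

open CfsgLib.CosetEnum CfsgLib.Fi23Pres

/-- the points of the ten letters -/
def tenPts : List ℕ := [11589, 8006, 8005, 8003, 8002, 8001, 8000, 8004, 8007, 7999]

theorem letters_ok : ((List.range 10).all fun k => wordOK (tenPts.getD k 0, [k])) = true := by
  decide +kernel

/-- the perp of a pair in standard position -/
def smallMid : ℕ := Fi24Pres.orbSmallMask ||| Fi24Pres.orbMidMask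

theorem shape_size : popc smallMid certA.N = 3240 := by decide +kernel

/-- the starting point of an orbit -/
noncomputable def startPt (i : ℕ) : ℕ :=
  certA.run Fi24Pres.pointA (Fi24Pres.strip (Fi24Pres.repsTwo.getD i []))

theorem starts_ok : (Nat.beq (startPt 0) 11589 && Fi24Pres.orbSmallMask.testBit 8006 &&
    Nat.blt (startPt 1) certA.N && Nat.blt (startPt 2) certA.N) = true := by decide +kernel

end CfsgLib.M24
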