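import Cfsg.Agent.Lib.M24.CertChecks
import Cfsg.Agent.Lib.M23.Fi23Facts

/-!
A nonempty set of transpositions of Fi23, closed under conjugation by its members, in which every member
commutes with 351 others among them eight forming a diagram, contains conjugates of the nine standard ones.
-/

set_option autoImplicit false

namespace CfsgLib.M24

open CfsgLib.CosetEnum CfsgLib.Fi23Pres Cfsg.Spor

/-- the members other than `p` commuting with `p` -/
def nbrIn (S : Pt → Prop) (p : Pt) : Set Pt := {q | S q ∧ q ≠ p ∧ comB p q = true}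

/-- eight points in the shape of the diagram with arms of lengths three, two, two -/
def Diag (f : ℕ → Pt) : Prop :=
  ∀ i < 8, ∀ j < 8, i ≠ j → f i ≠ f j ∧ comB (f i) (f j) = !M23.adjP i j

/-- the properties of the perp of a non-commuting pair -/
structure PerpSet (S : Pt → Prop) : Prop where
  nonempty : ∃ x, S x
  closed : ∀ x y, S x → S y → S (rho (tp x) y)
  count : ∀ p, S p → (nbrIn S p).ncard = 351
  diag : ∀ p, S p → ∃ f : ℕ → Pt, Diag f ∧ ∀ i < 8, f i ∈ nbrIn S p

theorem PerpSet.smul {S : Pt → Prop} (h : PerpSet S) (g : Fi23) : PerpSet fun x => S (rho g x) := by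
  have hback : ∀ z : Pt, rho g (rho g⁻¹ z) = z := fun z => by
    rw [map_inv, Equiv.Perm.inv_def, Equiv.apply_symm_apply]
  refine ⟨?_, ?_, ?_, ?_⟩
  · obtain ⟨x, hx⟩ := h.nonempty
    exact ⟨rho g⁻¹ x, by rwa [hback]⟩
  · intro x y hx hy
    show S (rho g (rho (tp x) y))
    rw [act_smul]
    exact h.closed _ _ hx hy
  · intro p hp
    have e : nbrIn S (rho g p) = rho g '' nbrIn (fun x => S (rho g x)) p := by
      ext z
      constructor
      · rintro ⟨h1, h2, h3⟩
        refine ⟨rho g⁻¹ z, ⟨by show S _; rwa [hback], fun e => h2 (by rw [← e, hback]), ?_⟩, hback z⟩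
        rw [← comB_smul g, hback]; exact h3
      · rintro ⟨q, ⟨h1, h2, h3⟩, rfl⟩
        exact ⟨h1, fun e => h2 ((rho g).injective e), by rwa [comB_smul]⟩
    rw [← h.count _ hp, e, Set.ncard_image_of_injective _ (rho g).injective]
  · intro p hp
    obtain ⟨f, hf, hmem⟩ := h.diag _ hp
    refine ⟨fun i => rho g⁻¹ (f i), fun i hi j hj hne => ?_, fun i hi => ?_⟩
    · obtain ⟨h1, h2⟩ := hf i hi j hj hne
      exact ⟨fun e => h1 ((rho g⁻¹).injective e), by rw [comB_smul]; exact h2⟩
    · obtain ⟨h1, h2, h3⟩ := hmem i hi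
      refine ⟨by show S _; rwa [hback], fun e => h2 (by rw [← hback (f i)]; exact congrArg (rho g) e), ?_⟩
      rw [← comB_smul g, hback]; exact h3

theorem mem_of_masks {S : Pt → Prop} (h : PerpSet S) {ws : List (ℕ × List ℕ)}
    (hws : ∀ e ∈ ws, wordOK e = true ∧ ∃ q : Pt, (q : ℕ) = e.1 ∧ S q)
    {tree : List (ℕ × ℕ)} {start m : ℕ}
    (hr : reach certA (ws.map Prod.snd) tree start = some m) (P : Pt → Prop)
    (hstart : ∀ y, start.testBit y = true → ∃ q : Pt, (q : ℕ) = y ∧ S q ∧ P q)
    (hP : ∀ t q : Pt, t.val ∈ ws.map Prod.fst → S q → P q → P (rho (tp t) q)) :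
    ∀ y, m.testBit y = true → ∃ q : Pt, (q : ℕ) = y ∧ S q ∧ P q := by
  refine reach_spec ?_ tree _ _ hr hstart
  rintro y i hi ⟨q, rfl, hq, hqP⟩
  rw [List.length_map] at hi
  rw [List.getD_eq_getElem _ _ (by simpa using hi), List.getElem_map]
  obtain ⟨hw, t, ht, hts⟩ := hws _ (List.getElem_mem hi)
  simp only [wordOK, Bool.and_eq_true, List.all_eq_true, Nat.blt_eq] at hw
  obtain ⟨⟨hp, hlt⟩, hb⟩ := hw
  have e : prodW gen (ws[i]).2 = tp t := by
    rw [tp_word, ht]
    exact eq_words hlt (ht ▸ zAt_lt t) hb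
  refine ⟨rho (tp t) q, ?_, h.closed _ _ hts hq, hP t q ?_ hq hqP⟩
  · rw [← e, setupA.rho_prodW hlt]
  · rw [ht]
    exact List.mem_map_of_mem (List.getElem_mem hi)

theorem derive_spec {S : Pt → Prop} (h : PerpSet S) : ∀ {l : List (ℕ × ℕ × ℕ)} {m m' : ℕ},
    derive l m = some m' → (∀ y, m.testBit y = true → ∃ q : Pt, (q : ℕ) = y ∧ S q) →
      ∀ y, m'.testBit y = true → ∃ q : Pt, (q : ℕ) = y ∧ S q
  | [], m, m', e, hm => by simp only [derive, Option.some.injEq] at e; exact e ▸ hm
  | (x, y, z) :: l, m, m', e, hm => by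
    unfold derive at e
    cases hc : (m.testBit x && m.testBit y && Nat.blt x certA.N && Nat.blt y certA.N &&
        Nat.beq (actPt x y) z)
    · simp [hc] at e
    · simp only [hc, cond_true] at e
      simp only [Bool.and_eq_true, Nat.blt_eq] at hc
      refine derive_spec h e fun w hw => ?_
      rw [Nat.testBit_or, Bool.or_eq_true, Nat.testBit_two_pow, decide_eq_true_eq] at hw
      rcases hw with hw | rfl
      · exact hm w hw
      obtain ⟨a, ha, haS⟩ := hm x hc.1.1.1.1
      obtain ⟨b, hb, hbS⟩ := hm y hc.1.1.1.2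
      refine ⟨rho (tp a) b, ?_, h.closed _ _ haS hbS⟩
      rw [actPt_eq, ha, hb]
      exact Nat.eq_of_beq_eq_true hc.2

/-- the point of `b` -/
noncomputable def ptB : Pt := ⟨8006, by decide +kernel⟩

theorem mask_card {m : ℕ} : popc m certA.N = ({y : Pt | m.testBit y = true} : Set Pt).ncard := by
  classical
  rw [popc_eq, Set.ncard_eq_toFinset_card', ← Finset.card_map Fin.valEmbedding]
  refine congrArg Finset.card ?_
  ext y
  simp only [Finset.mem_filter, Finset.mem_range, Finset.mem_map, Set.mem_toFinset,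
    Set.mem_ofPred_eq, Fin.valEmbedding_apply]
  exact ⟨fun ⟨h1, h2⟩ => ⟨⟨y, h1⟩, h2, rfl⟩, fun ⟨z, hz, e⟩ => e ▸ ⟨z.2, hz⟩⟩

theorem size_one : popc subMask1 certA.N = 28160 := by decide +kernel

theorem rank_count :
    ({y : Pt | comB ptB y = false} : Set Pt).ncard = 28160 := by
  classical
  obtain ⟨g, hg⟩ := exists_move setupA.base ptB
  have e : ({y : Pt | comB ptB y = false} : Set Pt) = rho g '' {y : Pt | subMask1.testBit y = true} := by
    have key : ∀ y : Pt, comB setupA.base y = false ↔ subMask1.testBit y = true := fun y => by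
      rw [← base_mask, commMask, Nat.testBit_or]
      have h := Nat.eq_of_beq_eq_true (suborbits.cover y y.2)
      rw [show [subMask0, subMask1].length + 1 = 3 from rfl, show List.range 3 = [0, 1, 2] from rfl] at h
      simp only [List.countP_cons, List.countP_nil, List.getD_cons_zero, List.getD_cons_succ] at h
      cases h1 : (1 : ℕ).testBit (y : ℕ) <;> cases h2 : subMask0.testBit (y : ℕ) <;>
        cases h3 : subMask1.testBit (y : ℕ) <;> simp_all
    ext y
    constructor
    · intro hy
      refine ⟨rho g⁻¹ y, (key _).mp ?_, by rw [map_inv, Equiv.Perm.inv_def, Equiv.apply_symm_apply]⟩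
      rw [← comB_smul g, hg, map_inv, Equiv.Perm.inv_def, Equiv.apply_symm_apply]
      exact hy
    · rintro ⟨x, hx, rfl⟩
      show comB ptB (rho g x) = false
      rw [← hg, comB_smul]
      exact (key x).mpr hx
  rw [e, Set.ncard_image_of_injective _ (rho g).injective, ← mask_card]
  exact size_one

/-- the conclusion: the standard points, and a point outside -/
def HasNine (S : Pt → Prop) : Prop :=
  (∀ k ∈ ninePts, ∃ q : Pt, (q : ℕ) = k ∧ S q) ∧ ∃ z, ¬ S z

theorem orbs_mem : ∀ {os : List OrbCert} {y : ℕ}, (orbsUnion os).testBit y = true →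
    ∃ o ∈ os, o.mask.testBit y = true
  | [], y, h => by simp [orbsUnion] at h
  | o :: os, y, h => by
    rw [orbsUnion, Nat.testBit_or, Bool.or_eq_true] at h
    rcases h with h | h
    · exact ⟨o, List.mem_cons_self, h⟩
    · obtain ⟨o', h1, h2⟩ := orbs_mem h
      exact ⟨o', List.mem_cons_of_mem _ h1, h2⟩

/-- the orbit is a single point -/
def OrbKind.isSingle : OrbKind → Bool
  | .single => true
  | _ => false

theorem single_set : ∀ {os : List OrbCert},
    ({y : Pt | ∃ o ∈ os, o.kind.isSingle = true ∧ (y : ℕ) = o.rep} : Set Pt).ncard ≤ singles os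
  | [] => by simp [singles]
  | ⟨r, t, m, s, k⟩ :: os => by
    have ih := single_set (os := os)
    cases k with
    | single =>
      rw [singles]
      refine le_trans ?_ (Nat.add_le_add_right ih 1)
      by_cases hr : r < certA.N
      · refine le_trans (Set.ncard_le_ncard (t := insert (⟨r, hr⟩ : Pt)
          {y : Pt | ∃ o ∈ os, o.kind.isSingle = true ∧ (y : ℕ) = o.rep}) ?_ (Set.toFinite _))
          (Set.ncard_insert_le _ _)
        rintro y ⟨o, ho, h1, h2⟩
        rcases List.mem_cons.mp ho with rfl | ho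
        · exact Set.mem_insert_iff.mpr (Or.inl (Fin.ext h2))
        · exact Set.mem_insert_of_mem _ ⟨o, ho, h1, h2⟩
      · refine le_trans (Set.ncard_le_ncard ?_ (Set.toFinite _)) (Nat.le_succ _)
        rintro y ⟨o, ho, h1, h2⟩
        rcases List.mem_cons.mp ho with rfl | ho
        · exact absurd (lt_of_eq_of_lt h2.symm y.2) hr
        · exact ⟨o, ho, h1, h2⟩
    | bad z =>
      rw [singles]
      · refine le_trans (Set.ncard_le_ncard ?_ (Set.toFinite _)) ih
        rintro y ⟨o, ho, h1, h2⟩
        rcases List.mem_cons.mp ho with rfl | ho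
        · simp [OrbKind.isSingle] at h1
        · exact ⟨o, ho, h1, h2⟩
      · intro _ _ _ _ h; simp at h
    | good =>
      rw [singles]
      · refine le_trans (Set.ncard_le_ncard ?_ (Set.toFinite _)) ih
        rintro y ⟨o, ho, h1, h2⟩
        rcases List.mem_cons.mp ho with rfl | ho
        · simp [OrbKind.isSingle] at h1
        · exact ⟨o, ho, h1, h2⟩
      · intro _ _ _ _ h; simp at h

theorem case_nine {S : Pt → Prop} (h : PerpSet S) {c : PerpCase} {leaf three : List ℕ}
    (hc : caseOK c leaf three = true)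
    (hS : ∀ x ∈ leaf, ∀ e ∈ bridge, e.1 = x → ∃ q : Pt, (q : ℕ) = e.2.2 ∧ q ∈ nbrIn S setupA.base)
    (h0 : S setupA.base) (hne : leaf ≠ []) : ∃ g : Fi23, HasNine fun x => S (rho g x) := by
  classical
  simp only [caseOK, Bool.and_eq_true, List.all_eq_true, Nat.blt_eq, List.mem_range,
    decide_eq_true_eq] at hc
  obtain ⟨⟨⟨⟨⟨⟨⟨⟨⟨⟨⟨⟨⟨hmv, hb⟩, hlen⟩, height⟩, hleaf⟩, htree⟩, hpop⟩, hgens⟩, horbs⟩, hun⟩, hsing⟩,
    hd⟩, hthree⟩, hnd⟩ := hc
  obtain ⟨γ, hγb⟩ : ∃ γ : Fi23, ∀ y : Pt, (rho γ⁻¹ y : ℕ) = certA.run y c.mv := by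
    refine ⟨prodW gen c.mv, fun y => ?_⟩
    rw [← setupA.model.revInv_eq, setupA.rho_prodW (fun g hg => ?_)]
    · congr 1
      have hinv : ∀ g < 10, certA.inv g = g := by
        intro g hg
        interval_cases g <;> decide +kernel
      simp only [Cert.revInv, List.map_reverse, List.reverse_reverse, List.map_map]
      exact (List.map_congr_left fun g hg => by
        have := hmv g hg
        simp only [Function.comp_apply]
        rw [hinv g this, hinv g this]).trans (List.map_id' _)
    · simp only [Cert.revInv, List.mem_reverse, List.mem_map] at hg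
      obtain ⟨g', hg', rfl⟩ := hg
      exact setupA.complete.inv_lt (hmv g' hg')
  refine ⟨γ, ?_⟩
  have hS' := h.smul γ
  set S' : Pt → Prop := fun x => S (rho γ x) with hS'def
  have hback : ∀ z : Pt, rho γ (rho γ⁻¹ z) = z := fun z => by
    rw [map_inv, Equiv.Perm.inv_def, Equiv.apply_symm_apply]
  have hB : rho γ⁻¹ setupA.base = ptB := Fin.ext (by
    rw [hγb]; exact Nat.eq_of_beq_eq_true hb)
  have hB0 : S' ptB := by
    show S _
    rw [← hB, hback]; exact h0
  -- the eight moved points lie in the perp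
  have h8 : ∀ e ∈ c.eight, wordOK e = true ∧ ∃ q : Pt, (q : ℕ) = e.1 ∧ q ∈ nbrIn S' ptB := by
    intro e he
    refine ⟨height e he, ?_⟩
    obtain ⟨i, hi, rfl⟩ := List.getElem_of_mem he
    have hl := hleaf i (by rw [Nat.eq_of_beq_eq_true hlen]; exact hi)
    simp only [List.any_eq_true, Bool.and_eq_true] at hl
    obtain ⟨u, hu, hu1, hu2⟩ := hl
    have hi' : i < leaf.length := by rw [Nat.eq_of_beq_eq_true hlen]; exact hi
    obtain ⟨q, hq, hq1, hq2, hq3⟩ := hS (leaf.getD i 0) (by
      rw [List.getD_eq_getElem _ _ hi']; exact List.getElem_mem hi') u hu (Nat.eq_of_beq_eq_true hu1)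
    refine ⟨rho γ⁻¹ q, ?_, by show S _; rwa [hback], fun e => hq2 ((rho γ⁻¹).injective (e.trans hB.symm)), ?_⟩
    · rw [hγb, hq, Nat.eq_of_beq_eq_true hu2, List.getD_eq_getElem _ _ hi]
    · rw [← hB, comB_smul]; exact hq3
  -- the perp is the listed mask
  have hsub : ∀ y, c.maskT.testBit y = true → ∃ q : Pt, (q : ℕ) = y ∧ q ∈ nbrIn S' ptB := by
    cases hr : reach certA (c.eight.map Prod.snd) c.treeT (2 ^ (c.eight.headD (0, [])).1) with
    | none => rw [hr] at htree; exact Bool.noConfusion htree
    | some m =>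
      rw [hr] at htree
      obtain rfl := Nat.eq_of_beq_eq_true htree
      intro y hy
      obtain ⟨q, hq, hqS, hqP⟩ := mem_of_masks hS' (fun e he =>
          ⟨(h8 e he).1, (h8 e he).2.choose, (h8 e he).2.choose_spec.1, (h8 e he).2.choose_spec.2.1⟩) hr
        (fun q => q ≠ ptB ∧ comB ptB q = true) (fun z hz => by
          rw [Nat.testBit_two_pow, decide_eq_true_eq] at hz
          cases h8l : c.eight with
          | nil =>
            exfalso
            rw [h8l] at hlen
            exact hne (List.length_eq_zero_iff.mp (Nat.eq_of_beq_eq_true hlen))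
          | cons e l =>
            rw [h8l, List.headD_cons] at hz
            obtain ⟨-, q, hq, hq'⟩ := h8 e (h8l ▸ List.mem_cons_self)
            exact ⟨q, hq.trans hz, hq'.1, hq'.2⟩)
        (fun t q ht _ hq => by
          obtain ⟨e, he, het⟩ := List.mem_map.mp ht
          obtain ⟨-, t', ht', ht''⟩ := h8 e he
          obtain rfl : t' = t := Fin.ext (ht'.trans het)
          have hfix : rho (tp t') ptB = ptB := tp_inj (by
            rw [← tp_smul, ((comB_iff _ _).mp ht''.2.2).symm.eq, mul_inv_cancel_right])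
          refine ⟨fun e => hq.1 ((rho (tp t')).injective (e.trans hfix.symm)), ?_⟩
          rw [← hfix, comB_smul]
          exact hq.2) y hy
      exact ⟨q, hq, hqS, hqP⟩
  have hT : ∀ q : Pt, q ∈ nbrIn S' ptB ↔ c.maskT.testBit q = true := by
    have hle : {q : Pt | c.maskT.testBit q = true} ⊆ nbrIn S' ptB := fun q hq => by
      obtain ⟨q', hq', hm⟩ := hsub q hq
      obtain rfl : q' = q := Fin.ext hq'
      exact hm
    have heq : {q : Pt | c.maskT.testBit q = true} = nbrIn S' ptB :=
      Set.eq_of_subset_of_ncard_le hle (by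
        rw [hS'.count _ hB0, ← mask_card, Nat.eq_of_beq_eq_true hpop]) (Set.toFinite _)
    exact fun q => (Set.ext_iff.mp heq q).symm
  -- the orbits outside
  have hunion : ∀ y : Pt, comB ptB y = false → ∃ o ∈ c.orbs, o.mask.testBit y = true := by
    have hle : {y : Pt | (orbsUnion c.orbs).testBit y = true} ⊆ {y : Pt | comB ptB y = false} := by
      intro y hy
      obtain ⟨o, ho, hoy⟩ := orbs_mem hy
      have ho' := horbs o ho
      simp only [certOrbOK, Bool.and_eq_true, Bool.not_eq_true', Nat.blt_eq] at ho'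
      obtain ⟨⟨⟨⟨hrep, hrn⟩, htr⟩, -⟩, -⟩ := ho'
      cases hr : reach certA (c.gens.map Prod.snd) o.tree (2 ^ o.rep) with
      | none => simp [hr] at htr
      | some m =>
        rw [hr] at htr
        obtain rfl := Nat.eq_of_beq_eq_true htr
        refine reach_spec (P := fun z => ∃ hz : z < certA.N, comB ptB (⟨z, hz⟩ : Pt) = false)
          (fun z i hi ⟨hz, hzc⟩ => ?_) o.tree _ _ hr (fun z hz => ?_) y hoy |>.2
        · rw [List.length_map] at hi
          rw [List.getD_eq_getElem _ _ (by simpa using hi), List.getElem_map]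
          have hg := hgens _ (List.getElem_mem hi)
          simp only [wordOK, Bool.and_eq_true, List.all_eq_true, Nat.blt_eq] at hg
          obtain ⟨⟨⟨hp, hlt⟩, hw⟩, hmem⟩ := hg
          set t : Pt := ⟨_, hp⟩ with ht
          have e : prodW gen (c.gens[i]).2 = tp t := by
            rw [tp_word]; exact eq_words hlt (zAt_lt t) hw
          have ha := setupA.rho_prodW hlt (⟨z, hz⟩ : Pt)
          rw [e] at ha
          have hlt' : certA.run z (certA.revInv (c.gens[i]).2) < certA.N := ha ▸ Fin.isLt _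
          refine ⟨hlt', ?_⟩
          rw [show (⟨_, hlt'⟩ : Pt) = rho (tp t) ⟨z, hz⟩ from Fin.ext ha.symm]
          have hfix : rho (tp t) ptB = ptB := tp_inj (by
            rw [← tp_smul, ((comB_iff _ _).mp ((hT t).mpr hmem).2.2).symm.eq, mul_inv_cancel_right])
          rw [← hfix, comB_smul]
          exact hzc
        · rw [Nat.testBit_two_pow, decide_eq_true_eq] at hz
          subst hz
          exact ⟨hrep, hrn⟩
    have heq := Set.eq_of_subset_of_ncard_le hle (by
      rw [rank_count, ← mask_card, Nat.eq_of_beq_eq_true hun]) (Set.toFinite _)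
    intro y hy
    exact orbs_mem ((Set.ext_iff.mp heq y).mpr hy)
  have hinvT : ∀ t : Pt, c.maskT.testBit t = true → S' t := fun t ht => ((hT t).mpr ht).1
  -- from a member outside the perp
  have houtside : ∀ y : Pt, S' y → comB ptB y = false →
      (∃ o ∈ c.orbs, o.kind.isSingle = true ∧ (y : ℕ) = o.rep) ∨
        ∀ k ∈ ninePts, ∃ q : Pt, (q : ℕ) = k ∧ S' q := by
    intro y hy hyc
    obtain ⟨o, ho, hoy⟩ := hunion y hyc
    have ho' := horbs o ho
    simp only [certOrbOK, Bool.and_eq_true, Nat.blt_eq] at ho'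
    obtain ⟨⟨⟨⟨hrep, -⟩, htr⟩, hone⟩, hder⟩ := ho'
    set r : Pt := ⟨o.rep, hrep⟩ with hr0
    have hrS : S' r := by
      cases hr : reach certA (c.gens.map Prod.snd) o.tree (2 ^ o.rep) with
      | none => simp [hr] at htr
      | some m =>
        rw [hr] at htr
        obtain rfl := Nat.eq_of_beq_eq_true htr
        have key := reach_spec (P := fun z => ∃ hz : z < certA.N, S' ⟨z, hz⟩ → S' r)
          (fun z i hi ⟨hz, hzr⟩ => by
            rw [List.length_map] at hi
            rw [List.getD_eq_getElem _ _ (by simpa using hi), List.getElem_map]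
            have hg := hgens _ (List.getElem_mem hi)
            simp only [wordOK, Bool.and_eq_true, List.all_eq_true, Nat.blt_eq] at hg
            obtain ⟨⟨⟨hp, hlt⟩, hw⟩, hmem⟩ := hg
            set t : Pt := ⟨_, hp⟩ with ht
            have e : prodW gen (c.gens[i]).2 = tp t := by
              rw [tp_word]; exact eq_words hlt (zAt_lt t) hw
            have ha := setupA.rho_prodW hlt (⟨z, hz⟩ : Pt)
            rw [e] at ha
            have hlt' : certA.run z (certA.revInv (c.gens[i]).2) < certA.N := ha ▸ Fin.isLt _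
            refine ⟨hlt', fun h1 => hzr ?_⟩
            rw [show (⟨_, hlt'⟩ : Pt) = rho (tp t) ⟨z, hz⟩ from Fin.ext ha.symm] at h1
            have h2 := hS'.closed t _ (hinvT t hmem) h1
            have hsq : tp t * tp t = 1 := by
              rw [← pow_two, ← transClass_three.1.1 _ (tp_mem t)]
              exact pow_orderOf_eq_one _
            rwa [← Equiv.Perm.mul_apply, ← map_mul, hsq, map_one] at h2)
          o.tree _ _ hr (fun z hz => by
            rw [Nat.testBit_two_pow, decide_eq_true_eq] at hz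
            subst hz
            exact ⟨hrep, id⟩) y hoy
        exact key.2 hy
    cases hd' : derive o.steps (c.maskT ||| 2 ^ 8006 ||| 2 ^ o.rep) with
    | none => simp [hd'] at hder
    | some m =>
      rw [hd'] at hder
      have hm : ∀ z, m.testBit z = true → ∃ q : Pt, (q : ℕ) = z ∧ S' q :=
        derive_spec hS' hd' fun z hz => by
          rw [Nat.testBit_or, Nat.testBit_or, Bool.or_eq_true, Bool.or_eq_true,
            Nat.testBit_two_pow, Nat.testBit_two_pow, decide_eq_true_eq, decide_eq_true_eq] at hz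
          rcases hz with (hz | hz) | hz
          · obtain ⟨q, hq, hm⟩ := hsub z hz
            exact ⟨q, hq, hm.1⟩
          · exact ⟨ptB, hz, hB0⟩
          · exact ⟨r, hz, hrS⟩
      cases hk : o.kind with
      | single =>
        left
        rw [hk] at hone
        rw [Nat.eq_of_beq_eq_true hone, Nat.testBit_two_pow, decide_eq_true_eq] at hoy
        exact ⟨o, ho, by rw [hk]; rfl, hoy.symm⟩
      | bad z =>
        exfalso
        simp only [hk, kindOK, Bool.and_eq_true, Bool.not_eq_true'] at hder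
        obtain ⟨⟨⟨⟨hzm, -⟩, hz6⟩, hzc⟩, hzT⟩ := hder
        obtain ⟨q, hq, hqS⟩ := hm z hzm
        have hqn : q ∈ nbrIn S' ptB := ⟨hqS, fun e => by
          rw [← hq, e] at hz6
          exact absurd hz6 (by decide +kernel), by
          show comB 8006 (q : ℕ) = true
          rw [hq]; exact hzc⟩
        rw [hT, hq, hzT] at hqn
        exact Bool.noConfusion hqn
      | good =>
        right
        simp only [hk, kindOK, List.all_eq_true] at hder
        exact fun k hk => hm k (hder k hk)
  -- not all points are members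
  have hnot : ∃ z, ¬ S' z := by
    by_contra! hall
    have h1 := hS'.count _ hB0
    have h2 : {y : Pt | comB ptB y = false}ᶜ ⊆ insert ptB (nbrIn S' ptB) := fun y hy => by
      rw [Set.mem_compl_iff, Set.mem_ofPred_eq, Bool.not_eq_false] at hy
      rcases eq_or_ne y ptB with rfl | hne
      · exact Set.mem_insert _ _
      · exact Set.mem_insert_of_mem _ ⟨hall y, hne, hy⟩
    have h3 := (Set.ncard_le_ncard h2 (Set.toFinite _)).trans (Set.ncard_insert_le _ _)
    rw [Set.ncard_compl, rank_count, Nat.card_fin, h1, show certA.N = 31671 from rfl] at h3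
    omega
  refine ⟨?_, hnot⟩
  by_contra hno
  -- count the members at the point 8003
  have hq0 : (8003 : ℕ) < certA.N := by decide +kernel
  set q0 : Pt := ⟨8003, hq0⟩
  have hq0T : q0 ∈ nbrIn S' ptB := (hT q0).mpr hd
  let T3 : Finset Pt := Finset.univ.filter fun t : Pt => (t : ℕ) ∈ three
  have hT3 : three.length ≤ T3.card := by
    have e : T3.map Fin.valEmbedding = three.toFinset := by
      ext x
      simp only [T3, Finset.mem_map, Finset.mem_filter, Finset.mem_univ, true_and,
        Fin.valEmbedding_apply, List.mem_toFinset]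
      exact ⟨fun ⟨a, ha, e⟩ => e ▸ ha, fun hx => ⟨⟨x, (hthree x hx).1.1⟩, hx, rfl⟩⟩
    rw [← Finset.card_map Fin.valEmbedding, e, List.toFinset_card_of_nodup hnd]
  let Tq : Set Pt := ((nbrIn S' ptB) \ {q0}) \ T3
  have hTq : Tq.ncard + (T3.card + 1) ≤ 351 := by
    have hsub : (T3 : Set Pt) ⊆ (nbrIn S' ptB) \ {q0} := fun t ht => by
      simp only [T3, Finset.coe_filter, Finset.mem_univ, true_and, Set.mem_ofPred_eq] at ht
      obtain ⟨⟨-, h1⟩, h2⟩ := hthree _ ht
      refine ⟨(hT t).mpr h1, fun e => ?_⟩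
      rw [Set.mem_singleton_iff.mp e, Bool.not_eq_true'] at h2
      have := comB_self q0
      exact absurd (h2.symm.trans this) (by decide)
    have h1 := Set.ncard_sdiff hsub (Set.toFinite _)
    have h2 := Set.ncard_sdiff_singleton_add_one hq0T (Set.toFinite _)
    have h3 := Set.ncard_le_ncard hsub (Set.toFinite _)
    rw [hS'.count _ hB0] at h2
    rw [Set.ncard_coe_finset] at h1 h3
    show ((nbrIn S' ptB \ {q0}) \ ↑T3).ncard + _ ≤ _
    omega
  have hbound : nbrIn S' q0 ⊆
      (insert ptB Tq) ∪ {y : Pt | ∃ o ∈ c.orbs, o.kind.isSingle = true ∧ (y : ℕ) = o.rep} := by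
    rintro y ⟨hyS, hyne, hyc⟩
    by_cases hyb : comB ptB y = true
    · left
      rcases eq_or_ne y ptB with rfl | hne
      · exact Set.mem_insert _ _
      · refine Set.mem_insert_of_mem _ ⟨⟨⟨hyS, hne, hyb⟩, hyne⟩, fun ht => ?_⟩
        simp only [T3, Finset.coe_filter, Finset.mem_univ, true_and, Set.mem_ofPred_eq] at ht
        obtain ⟨-, h2⟩ := hthree _ ht
        rw [Bool.not_eq_true'] at h2
        exact absurd (h2.symm.trans hyc) (by decide)
    · right
      exact (houtside y hyS (by simpa using hyb)).resolve_right hno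
  have h1 := (Set.ncard_le_ncard hbound (Set.toFinite _)).trans
    ((Set.ncard_union_le _ _).trans (Nat.add_le_add (Set.ncard_insert_le _ _) single_set))
  rw [hS'.count _ hq0T.1] at h1
  have := Nat.le_of_ble_eq_true hsing
  omega

theorem Diag.smul {f : ℕ → Pt} (h : Diag f) (g : Fi23) : Diag fun i => rho g (f i) := by
  intro i hi j hj hne
  obtain ⟨h1, h2⟩ := h i hi j hj hne
  exact ⟨fun e => h1 ((rho g).injective e), by rw [comB_smul]; exact h2⟩

theorem perp_tp {q : Pt} (h1 : q ≠ setupA.base) (h2 : comB setupA.base q = true) :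
    tp q ∈ M23.perp transClass coverZ :=
  ⟨tp_mem q, fun e => h1 (tp_inj (e.trans tp_base.symm)), by
    have := (comB_iff setupA.base q).mp h2
    rwa [tp_base] at this⟩

theorem bridge_spec {e : ℕ × List ℕ × ℕ} (he : e ∈ bridge) :
    ∃ (hx : e.1 < 3510) (q : Pt), (q : ℕ) = e.2.2 ∧ ∃ hq : tp q ∈ M23.perp transClass coverZ,
      M23.toFi22 ⟨tp q, M23.perp_mem hq⟩ = M23.tr ⟨e.1, show e.1 < Fi22Pres.certA.N from hx⟩ := by
  have h := bridge_ok
  simp only [List.all_eq_true] at h
  have h1 := h e he
  simp only [bridgeOK, Bool.and_eq_true, List.all_eq_true, Nat.blt_eq, beq_iff_eq] at h1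
  obtain ⟨⟨⟨⟨⟨hx, hq⟩, hbit⟩, hlt⟩, hw⟩, hsame⟩ := h1
  set q : Pt := ⟨e.2.2, hq⟩ with hqd
  have hqb : q ≠ setupA.base := fun e' => by
    have : subMask0.testBit (setupA.base : ℕ) = true := e' ▸ hbit
    revert this; decide +kernel
  have hqc : comB setupA.base q = true := by
    rw [← base_mask, commMask, Nat.testBit_or, Bool.or_eq_true]; exact Or.inr hbit
  refine ⟨hx, q, rfl, perp_tp hqb hqc, ?_⟩
  set W := e.2.1.reverse ++ 0 :: e.2.1 with hW
  have hW9 : ∀ g ∈ W, g < 9 := by
    intro g hg
    simp only [hW, List.mem_append, List.mem_reverse, List.mem_cons] at hg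
    rcases hg with hg | rfl | hg
    exacts [hlt g hg, by norm_num, hlt g hg]
  have e1 : tp q = prodW gen W := by
    rw [tp_word]
    exact (eq_words (fun g hg => (hW9 g hg).trans (show 9 < certA.K by decide +kernel)) (zAt_lt q) hsame).symm
  let G9 : ℕ → subA := fun k => if h : k < 9 then ⟨gen k, gen_mem h⟩ else 1
  have e2 : (⟨tp q, M23.perp_mem (perp_tp hqb hqc)⟩ : subA) = prodW G9 W := by
    refine Subtype.ext ?_
    show tp q = _
    rw [e1, ← Subgroup.coe_subtype, map_prodW]
    exact prodW_congr fun g hg => by simp [G9, hW9 g hg]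
  rw [e2, map_prodW, M23.tr, Fi22Pres.conj_eq (show e.1 < Fi22Pres.certA.N from hx), hw]
  exact prodW_congr fun g hg => by
    simp only [G9, dif_pos (hW9 g hg)]
    exact M23.toFi22_gen (hW9 g hg)

/-- The main classification: the nine standard points, and not everything. -/
theorem perpSet_nine {S : Pt → Prop} (h : PerpSet S) : ∃ g : Fi23, HasNine fun x => S (rho g x) := by
  obtain ⟨p, hp⟩ := h.nonempty
  obtain ⟨g₀, hg₀⟩ := exists_move setupA.base p
  have h1 := h.smul g₀
  have hb : S (rho g₀ setupA.base) := by rwa [hg₀]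
  obtain ⟨f, hf, hmem⟩ := h1.diag _ hb
  have hperp : ∀ i < 8, tp (f i) ∈ M23.perp transClass coverZ := fun i hi =>
    perp_tp (hmem i hi).2.1 (hmem i hi).2.2
  have hex : ∀ i, ∃ x : M23.Pt, ∀ hi : i < 8,
      M23.tr x = M23.toFi22 ⟨tp (f i), M23.perp_mem (hperp i hi)⟩ := by
    intro i
    by_cases hi : i < 8
    · obtain ⟨x, hx⟩ := M23.exists_tr (M23.toFi22_perp (hperp i hi))
      exact ⟨x, fun _ => hx⟩
    · exact ⟨Fi22Pres.setupA.base, fun h => absurd h hi⟩
  choose f22 hf22 using hex
  have hdiag : M23.Diag f22 := by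
    intro i hi j hj hne
    obtain ⟨h2, h3⟩ := hf i hi j hj hne
    have hinj : f22 i ≠ f22 j := fun e => h2 (tp_inj (M23.perp_eq (hperp i hi) (hperp j hj) (by
      rw [← hf22 i hi, ← hf22 j hj, e])))
    refine ⟨hinj, ?_⟩
    rw [← h3, Bool.eq_iff_iff, M23.comB_iff, comB_iff, hf22 i hi, hf22 j hj]
    constructor
    · intro hc
      have hc' := hc.map coverEquiv.toMonoidHom
      simp only [M23.toFi22, MonoidHom.coe_comp, Function.comp_apply, MulEquiv.coe_toMonoidHom,
        MulEquiv.apply_symm_apply, QuotientGroup.mk'_apply] at hc'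
      exact congrArg Subtype.val (M23.commute_of_mk (Z := zKer)
        (M23.perp_short (hperp i hi) (hperp j hj)) (fun e => hinj (M23.tr_inj (by
          rw [hf22 i hi, hf22 j hj]; exact M23.toFi22_mk.2 e))) hc').eq
    · intro hc
      exact (show Commute (⟨tp (f i), M23.perp_mem (hperp i hi)⟩ : subA)
        ⟨tp (f j), M23.perp_mem (hperp j hj)⟩ from Subtype.ext hc.eq).map M23.toFi22
  obtain ⟨u22, L, hL, hu⟩ := M23.orbit_leaf hdiag
  obtain ⟨u, rfl⟩ := M23.toFi22_surjective u22
  have hufix : rho (u : Fi23)⁻¹ setupA.base = setupA.base :=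
    (setupA.mem_iff _).mp (inv_mem u.2)
  have h2 := h1.smul (u : Fi23)⁻¹
  set S2 : Pt → Prop := fun x => S (rho g₀ (rho (u : Fi23)⁻¹ x)) with hS2
  have h20 : S2 setupA.base := by show S _; rw [hufix]; exact hb
  have hleafS : ∀ i < 8, ∀ e ∈ bridge, e.1 = L.1.getD i 0 →
      ∃ q : Pt, (q : ℕ) = e.2.2 ∧ q ∈ nbrIn S2 setupA.base := by
    intro i hi e he hex
    obtain ⟨hx, q, hq, hqp, hqi⟩ := bridge_spec he
    refine ⟨q, hq, ?_⟩
    obtain ⟨-, h3, h4⟩ := hmem i hi
    have hu' : rho (u : Fi23) setupA.base = setupA.base := (setupA.mem_iff _).mp u.2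
    set y := rho (u : Fi23) (f i) with hy
    have hyb : y ≠ setupA.base := fun e' => h3 ((rho (u : Fi23)).injective (e'.trans hu'.symm))
    have hyc : comB setupA.base y = true := by rw [← hu', hy, comB_smul]; exact h4
    have e5 : M23.toFi22 ⟨tp y, M23.perp_mem (perp_tp hyb hyc)⟩ =
        M23.tr (Fi22Pres.rho (M23.toFi22 u) (f22 i)) := by
      rw [← M23.tr_smul, hf22 i hi, ← map_inv, ← map_mul, ← map_mul]
      exact congrArg M23.toFi22 (Subtype.ext (tp_smul (u : Fi23) (f i)).symm)
    have e6 : Fi22Pres.rho (M23.toFi22 u) (f22 i) = ⟨e.1, show e.1 < Fi22Pres.certA.N from hx⟩ :=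
      Fin.ext ((hu i hi).trans hex.symm)
    rw [e6, ← hqi] at e5
    obtain rfl : y = q := tp_inj (M23.perp_eq (perp_tp hyb hyc) hqp e5)
    refine ⟨?_, hyb, hyc⟩
    show S _
    rw [hy, map_inv, Equiv.Perm.inv_def, Equiv.symm_apply_apply]
    exact (hmem i hi).1
  have hlen : L.1.length = 8 := by
    have : ∀ L ∈ M23.leafData, L.1.length = 8 := by decide +kernel
    exact this L hL
  have hfin : ∀ {c : PerpCase} {leaf three : List ℕ}, caseOK c leaf three = true →
      (leaf.all fun x => L.1.contains x) = true → leaf ≠ [] → ∃ g : Fi23, HasNine fun x => S (rho g x) := by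
    intro c leaf three hc hsub hne
    obtain ⟨g, hg⟩ := case_nine h2 hc (fun x hx e he hex => by
      obtain ⟨i, hi, hix⟩ := List.getElem_of_mem
        (List.contains_iff_mem.mp (List.all_eq_true.mp hsub x hx))
      exact hleafS i (hlen ▸ hi) e he (by rw [hex, List.getD_eq_getElem _ _ hi, hix])) h20 hne
    refine ⟨g₀ * ((u : Fi23)⁻¹ * g), ?_⟩
    simp only [map_mul, Equiv.Perm.mul_apply]
    exact hg
  have hl := List.all_eq_true.mp leaves_sets L hL
  rw [Bool.or_eq_true] at hl
  rcases hl with hl | hl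
  · exact hfin caseA_ok hl (by decide)
  · exact hfin caseB_ok hl (by decide)

end CfsgLib.M24
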