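import Cfsg.Agent.Lib.M24.PairChecks
import Cfsg.Agent.Lib.M24.PerpSet

/-!
Pairs of transpositions of Fi23: two orbits, 693 common neighbours for a commuting pair and 351 for the
other ones.
-/

set_option autoImplicit false

namespace CfsgLib.M24

open CfsgLib.CosetEnum CfsgLib.Fi23Pres Cfsg.Spor

theorem far_base (y : Pt) : comB setupA.base y = false ↔ subMask1.testBit y = true := by
  rw [← base_mask, commMask, Nat.testBit_or]
  have h := Nat.eq_of_beq_eq_true (suborbits.cover y y.2)
  rw [show [subMask0, subMask1].length + 1 = 3 from rfl, show List.range 3 = [0, 1, 2] from rfl] at h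
  simp only [List.countP_cons, List.countP_nil, List.getD_cons_zero, List.getD_cons_succ] at h
  cases h1 : (1 : ℕ).testBit (y : ℕ) <;> cases h2 : subMask0.testBit (y : ℕ) <;>
    cases h3 : subMask1.testBit (y : ℕ) <;> simp_all

theorem near_base (y : Pt) :
    subMask0.testBit y = true ↔ y ≠ setupA.base ∧ comB setupA.base y = true := by
  have h := Nat.eq_of_beq_eq_true (suborbits.cover y y.2)
  rw [show [subMask0, subMask1].length + 1 = 3 from rfl, show List.range 3 = [0, 1, 2] from rfl] at h
  simp only [List.countP_cons, List.countP_nil, List.getD_cons_zero, List.getD_cons_succ] at h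
  have e : y ≠ setupA.base ↔ (1 : ℕ).testBit (y : ℕ) = false := by
    rw [Bool.eq_false_iff, ne_eq, ne_eq, Nat.testBit_one_eq_true_iff_self_eq_zero, Fin.ext_iff,
      show (setupA.base : ℕ) = 0 from rfl]
  rw [e, ← base_mask, commMask, Nat.testBit_or]
  cases h1 : (1 : ℕ).testBit (y : ℕ) <;> cases h2 : subMask0.testBit (y : ℕ) <;>
    cases h3 : subMask1.testBit (y : ℕ) <;> simp_all

/-- a pair is moved to the base and the representative of its orbit -/
theorem pair_move {r m : ℕ} (o : Suborbit certA r m) (p q : Pt)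
    (h : ∀ y : Pt, comB setupA.base y = comB p q → y ≠ setupA.base → m.testBit y = true) (hne : q ≠ p) :
    ∃ g : Fi23, ∃ z : Pt, (z : ℕ) = r ∧ rho g setupA.base = p ∧ rho g z = q := by
  obtain ⟨g, hg⟩ := exists_move setupA.base p
  have hback : rho g (rho g⁻¹ q) = q := by
    rw [map_inv, Equiv.Perm.inv_def, Equiv.apply_symm_apply]
  have hm : m.testBit (rho g⁻¹ q : Pt) = true := by
    refine h _ ?_ fun e => hne (by rw [← hback, e, hg])
    rw [← comB_smul g, hg, hback]
  obtain ⟨u, hu, e⟩ := (setupA.orbit_mem_iff o (rho g⁻¹ q)).mpr hm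
  refine ⟨g * u, ⟨r, o.mem.1⟩, rfl, ?_, ?_⟩
  · rw [map_mul, Equiv.Perm.mul_apply, (setupA.mem_iff u).mp hu, hg]
  · rw [map_mul, Equiv.Perm.mul_apply, e, hback]

/-- the common neighbours -/
def commonNbr (p q : Pt) : Set Pt :=
  {y | (y ≠ p ∧ comB p y = true) ∧ (y ≠ q ∧ comB q y = true)}

theorem commonNbr_smul (g : Fi23) (p q : Pt) :
    commonNbr (rho g p) (rho g q) = rho g '' commonNbr p q := by
  ext y
  obtain ⟨x, rfl⟩ := (rho g).surjective y
  rw [(rho g).injective.mem_set_image]
  simp only [commonNbr, Set.mem_ofPred_eq, comB_smul, ne_eq, EmbeddingLike.apply_eq_iff_eq]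

theorem commonNbr_mask {m r : ℕ} (hok : allUp (pairMaskOK m r) 15 0 = true) (z : Pt) (hz : (z : ℕ) = r) :
    commonNbr setupA.base z = {y : Pt | m.testBit y = true} := by
  subst hz
  ext y
  have h := allUp_spec hok y (Nat.zero_le _) (by
    have := y.2
    have e : certA.N = 31671 := rfl
    omega)
  unfold pairMaskOK at h
  simp only [strict_eq, ltB_iff.mpr y.2, pick_true, beq_iff_eq] at h
  simp only [commonNbr, Set.mem_ofPred_eq, h, Bool.and_eq_true, Bool.not_eq_true']
  rw [← near_base]
  refine and_congr_right fun _ => and_congr_left fun _ => ?_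
  rw [Bool.eq_false_iff, ne_eq, ne_eq, Fin.ext_iff]
  exact not_congr ⟨fun e => by rw [e]; exact Nat.beq_refl _, Nat.eq_of_beq_eq_true⟩

theorem common_far {p q : Pt} (h : comB p q = false) :
    (commonNbr p q).ncard = 351 ∧
      ∃ f : ℕ → Pt, Diag f ∧ ∀ i < 8, f i ∈ commonNbr p q := by
  have hne : q ≠ p := fun e => by rw [e, comB_self] at h; cases h
  obtain ⟨g, z, hz, rfl, rfl⟩ := pair_move subMask1_orbit p q
    (fun y hy _ => (far_base y).mp (hy.trans h)) hne
  rw [commonNbr_smul, Set.ncard_image_of_injective _ (rho g).injective, commonNbr_mask far_mask z hz,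
    ← mask_card, far_size]
  refine ⟨rfl, ?_⟩
  have h8 := eight_ok
  simp only [eightOK, List.all_eq_true, List.mem_range, Bool.and_eq_true, Bool.or_eq_true, Nat.blt_eq,
    Bool.not_eq_true', beq_iff_eq] at h8
  refine ⟨fun i => rho g (if hi : i < 8 then ⟨pairEight.getD i 0, (h8 i hi).1.1⟩ else setupA.base),
    fun i hi j hj hij => ?_, fun i hi => Set.mem_image_of_mem _ ?_⟩
  · simp only [dif_pos hi, dif_pos hj]
    rcases (h8 i hi).2 j hj with e | ⟨e1, e2⟩
    · exact absurd (Nat.eq_of_beq_eq_true e) hij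
    · refine ⟨fun e => ?_, by rw [comB_smul]; exact e2⟩
      have := congrArg Fin.val ((rho g).injective e)
      simp only at this
      rw [this, Nat.beq_refl] at e1
      cases e1
  · rw [dif_pos hi]
    exact (h8 i hi).1.2

theorem common_near {p q : Pt} (hne : q ≠ p) (h : comB p q = true) :
    (commonNbr p q).ncard = 693 := by
  obtain ⟨g, z, hz, rfl, rfl⟩ := pair_move subMask0_orbit p q
    (fun y hy hb => (near_base y).mpr ⟨hb, hy.trans h⟩) hne
  rw [commonNbr_smul, Set.ncard_image_of_injective _ (rho g).injective, commonNbr_mask near_mask z hz,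
    ← mask_card, near_size]

theorem near_card (p : Pt) : {y : Pt | y ≠ p ∧ comB p y = true}.ncard = 3510 := by
  obtain ⟨g, rfl⟩ := exists_move setupA.base p
  have e : {y : Pt | y ≠ rho g setupA.base ∧ comB (rho g setupA.base) y = true} =
      rho g '' {y : Pt | subMask0.testBit y = true} := by
    ext y
    obtain ⟨x, rfl⟩ := (rho g).surjective y
    rw [(rho g).injective.mem_set_image]
    simp only [Set.mem_ofPred_eq, comB_smul, ne_eq, EmbeddingLike.apply_eq_iff_eq, near_base]
  rw [e, Set.ncard_image_of_injective _ (rho g).injective, ← mask_card, perp_size]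

theorem far_card (p : Pt) : {y : Pt | comB p y = false}.ncard = 28160 := by
  obtain ⟨g, rfl⟩ := exists_move ptB p
  rw [← rank_count]
  have e : {y : Pt | comB (rho g ptB) y = false} = rho g '' {y : Pt | comB ptB y = false} := by
    ext y
    obtain ⟨x, rfl⟩ := (rho g).surjective y
    rw [(rho g).injective.mem_set_image]
    simp only [Set.mem_ofPred_eq, comB_smul]
  rw [e, Set.ncard_image_of_injective _ (rho g).injective]

/-- A set of 3240 members of a perp set lies in no perp. -/
theorem PerpSet.no_common {S : Pt → Prop} (h : PerpSet S) (hcard : {x : Pt | S x}.ncard = 3240) (x : Pt)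
    (hx : ¬ S x) : ∃ s, S s ∧ comB x s = false := by
  by_contra! hall
  obtain ⟨p, hp⟩ := h.nonempty
  have hpx : p ≠ x := fun e => hx (e ▸ hp)
  have hsub : {y | S y} ⊆ {y : Pt | y ≠ x ∧ comB x y = true} := fun y hy =>
    ⟨fun e => hx (e ▸ hy), by simpa using hall y hy⟩
  have h1 := Set.ncard_sdiff hsub (Set.toFinite _)
  rw [near_card, hcard] at h1
  have h2 : commonNbr x p ⊆ nbrIn S p ∪ ({y : Pt | y ≠ x ∧ comB x y = true} \ {y | S y}) := by
    rintro y ⟨⟨h3, h4⟩, h5, h6⟩
    by_cases hy : S y
    · exact Or.inl ⟨hy, h5, h6⟩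
    · exact Or.inr ⟨⟨h3, h4⟩, hy⟩
  have h3 := (Set.ncard_le_ncard h2 (Set.toFinite _)).trans (Set.ncard_union_le _ _)
  rw [common_near hpx (by simpa using hall p hp), h.count p hp, h1] at h3
  omega

end CfsgLib.M24
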