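import Cfsg.Agent.Lib.M24.OrbitChecks
import Cfsg.Agent.Lib.M24.Pairs

/-!
A perp set containing the nine standard transpositions is the union of their two small orbits, or the
smallest of them.
-/

set_option autoImplicit false

namespace CfsgLib.M24

open CfsgLib.CosetEnum CfsgLib.Fi23Pres Cfsg.Spor

/-- the point of a letter -/
noncomputable def letterPt (k : ℕ) : Pt :=
  if h : tenPts.getD k 0 < certA.N then ⟨tenPts.getD k 0, h⟩ else setupA.base

theorem letterPt_spec {k : ℕ} (hk : k < 10) : (letterPt k : ℕ) = tenPts.getD k 0 ∧ tp (letterPt k) = gen k := by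
  have h := letters_ok
  simp only [List.all_eq_true, List.mem_range] at h
  have h1 := h k hk
  simp only [wordOK, Bool.and_eq_true, List.all_eq_true, Nat.blt_eq] at h1
  obtain ⟨⟨hp, hlt⟩, hw⟩ := h1
  have e : (letterPt k : ℕ) = tenPts.getD k 0 := by rw [letterPt, dif_pos hp]
  refine ⟨e, ?_⟩
  rw [tp_word, ← eq_words hlt (zAt_lt _) (by rw [e]; exact hw), prodW_cons, prodW_nil, mul_one]

theorem nine_letters {S : Pt → Prop} (h : ∀ k ∈ ninePts, ∃ q : Pt, (q : ℕ) = k ∧ S q) {k : ℕ}
    (h1 : 1 ≤ k) (h10 : k < 10) : S (letterPt k) := by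
  obtain ⟨q, hq, hqS⟩ := h (tenPts.getD k 0) (by
    have : ∀ k < 10, 1 ≤ k → tenPts.getD k 0 ∈ ninePts := by decide +kernel
    exact this k h10 h1)
  obtain rfl : q = letterPt k := Fin.ext (hq.trans (letterPt_spec h10).1.symm)
  exact hqS

/-- closed under conjugation by its members -/
def Closed (S : Pt → Prop) : Prop := ∀ x y, S x → S y → S (rho (tp x) y)

theorem Closed.act_iff {S : Pt → Prop} (h : Closed S) {t : Pt} (ht : S t) (y : Pt) :
    S (rho (tp t) y) ↔ S y := by
  refine ⟨fun hy => ?_, h t y ht⟩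
  have h2 := h t _ ht hy
  have hsq : tp t * tp t = 1 := by
    rw [← pow_two, ← transClass_three.1.1 _ (tp_mem t)]
    exact pow_orderOf_eq_one _
  rwa [← Equiv.Perm.mul_apply, ← map_mul, hsq, map_one] at h2

theorem right_words : ∀ {j : ℕ}, j < Fi24Pres.rightGens.length → Fi24Pres.rightGens.getD j [] = [j + 1] := by
  decide +kernel

/-- along an orbit of the nine membership is constant -/
theorem orbit_iff {S : Pt → Prop} (h : Closed S) (h9 : ∀ k, 1 ≤ k → k < 10 → S (letterPt k)) {i : ℕ}
    (hi : i < 3) (y : Pt) (hy : (Fi24Pres.masksTwo.getD i 0).testBit y = true) :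
    ∃ r : Pt, (r : ℕ) = startPt i ∧ (S y ↔ S r) := by
  have h2 := Fi24Pres.two_ok
  simp only [List.all_eq_true, List.mem_range] at h2
  have h3 := h2 i hi
  simp only [Fi24Pres.twoOK, Bool.and_eq_true] at h3
  obtain ⟨-, htree⟩ := h3
  have hN3 : ∀ i < 3, startPt i < certA.N := by decide +kernel
  have hN := hN3 i hi
  set r : Pt := ⟨startPt i, hN⟩ with hr0
  refine ⟨r, rfl, ?_⟩
  cases hreach : reach certA Fi24Pres.rightGens (Fi24Pres.treesTwo.getD i []) (2 ^ startPt i) with
  | none =>
    rw [startPt] at hreach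
    rw [hreach] at htree
    exact Bool.noConfusion htree
  | some m =>
    rw [startPt] at hreach
    rw [hreach] at htree
    obtain rfl := Nat.eq_of_beq_eq_true htree
    obtain ⟨q, hq, hqS⟩ := reach_spec (P := fun z => ∃ q : Pt, (q : ℕ) = z ∧ (S q ↔ S r))
      (fun z j hj ⟨q, hq, hqS⟩ => by
        have hj10 : j + 1 < 10 := by
          have : Fi24Pres.rightGens.length = 9 := rfl
          omega
        refine ⟨rho (tp (letterPt (j + 1))) q, ?_, (h.act_iff (h9 _ (by omega) hj10) q).trans hqS⟩
        rw [(letterPt_spec hj10).2, right_words hj, ← hq,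
          show gen (j + 1) = prodW gen [j + 1] from (mul_one _).symm,
          setupA.rho_prodW (fun g hg => by rw [List.mem_singleton] at hg; subst hg; exact hj10)])
      _ _ _ hreach (fun z hz => by
        rw [Nat.testBit_two_pow, decide_eq_true_eq] at hz
        exact ⟨r, hz, Iff.rfl⟩) _ hy
    obtain rfl : q = y := Fin.ext hq
    exact hqS

theorem all_of_letters {S : Pt → Prop} (h : Closed S) (h10 : ∀ k < 10, S (letterPt k)) (y : Pt) : S y := by
  have key : ∀ g : Fi23, ∀ z, S (rho g z) ↔ S z := by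
    intro g
    have hg : g ∈ Subgroup.closure {x | ∃ j < certA.K, gen j = x} := by
      rw [setupA.gen_top]; trivial
    induction hg using Subgroup.closure_induction with
    | mem x hx =>
      obtain ⟨j, hj, rfl⟩ := hx
      intro z
      rw [← (letterPt_spec hj).2]
      exact h.act_iff (h10 j hj) z
    | one => simp
    | mul a b _ _ ha hb => intro z; rw [map_mul, Equiv.Perm.mul_apply]; exact (ha _).trans (hb z)
    | inv a _ ha =>
      intro z
      have := ha (rho a⁻¹ z)
      rw [← Equiv.Perm.mul_apply, ← map_mul, mul_inv_cancel, map_one] at this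
      exact this.symm
  obtain ⟨g, rfl⟩ := exists_move (letterPt 1) y
  exact (key g _).mpr (h10 1 (by norm_num))

/-- every point lies in one of the orbits -/
theorem mask_cases (y : Pt) : Fi24Pres.orbMask.testBit y = true ∨
    Fi24Pres.orbSmallMask.testBit y = true ∨ Fi24Pres.orbMidMask.testBit y = true := by
  have h := allUp_spec Fi24Pres.two_all y (Nat.zero_le _) (by
    have := y.2
    have e : certA.N = 31671 := rfl
    omega)
  unfold Fi24Pres.someMask at h
  simp only [strict_eq, ltB_iff.mpr y.2, pick_true, Nat.testBit_or, Bool.or_eq_true] at h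
  exact or_assoc.mp h

theorem small_sub {T : Pt → Prop} (h : Closed T) (h9 : ∀ k, 1 ≤ k → k < 10 → T (letterPt k)) (y : Pt)
    (hy : Fi24Pres.orbSmallMask.testBit y = true) : T y := by
  have hs := starts_ok
  simp only [Bool.and_eq_true] at hs
  obtain ⟨r, hr, e⟩ := orbit_iff h h9 (i := 1) (by norm_num) y hy
  obtain ⟨r', hr', e'⟩ := orbit_iff h h9 (i := 1) (by norm_num) (letterPt 1)
    (by rw [(letterPt_spec (by norm_num)).1]; exact hs.1.1.2)
  obtain rfl : r = r' := Fin.ext (hr.trans hr'.symm)
  exact e.mpr (e'.mp (h9 1 le_rfl (by norm_num)))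

/-- The members are the small orbit or both. -/
theorem shape {S : Pt → Prop} (h : PerpSet S) (h9 : HasNine S) :
    (∀ y : Pt, S y ↔ Fi24Pres.orbSmallMask.testBit y = true) ∨
      ∀ y : Pt, S y ↔ smallMid.testBit y = true := by
  obtain ⟨hnine, z, hz⟩ := h9
  have hL : ∀ k, 1 ≤ k → k < 10 → S (letterPt k) := fun k h1 h10 => nine_letters hnine h1 h10
  have hcl : Closed S := h.closed
  have hbig : ∀ y : Pt, Fi24Pres.orbMask.testBit y = true → ¬ S y := by
    intro y hy hyS
    obtain ⟨r, hr, e⟩ := orbit_iff hcl hL (i := 0) (by norm_num) y hy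
    have hs := starts_ok
    simp only [Bool.and_eq_true] at hs
    obtain rfl : r = letterPt 0 := Fin.ext (by
      rw [hr, Nat.eq_of_beq_eq_true hs.1.1.1, (letterPt_spec (by norm_num)).1]
      rfl)
    refine hz (all_of_letters hcl (fun k hk => ?_) z)
    rcases Nat.eq_zero_or_pos k with rfl | hk0
    · exact e.mp hyS
    · exact hL k hk0 hk
  have hsmall := small_sub hcl hL
  by_cases hmid : ∃ y : Pt, Fi24Pres.orbMidMask.testBit y = true ∧ S y
  · right
    obtain ⟨y0, hy0, hy0S⟩ := hmid
    have hall : ∀ y : Pt, Fi24Pres.orbMidMask.testBit y = true → S y := fun y hy => by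
      obtain ⟨r, hr, e⟩ := orbit_iff hcl hL (i := 2) (by norm_num) y hy
      obtain ⟨r', hr', e'⟩ := orbit_iff hcl hL (i := 2) (by norm_num) y0 hy0
      obtain rfl : r = r' := Fin.ext (hr.trans hr'.symm)
      exact e.mpr (e'.mp hy0S)
    intro y
    rw [smallMid, Nat.testBit_or, Bool.or_eq_true]
    refine ⟨fun hy => ?_, fun hy => hy.elim (hsmall y) (hall y)⟩
    exact (mask_cases y).resolve_left fun h => hbig y h hy
  · left
    push Not at hmid
    intro y
    refine ⟨fun hy => ?_, hsmall y⟩
    rcases mask_cases y with h1 | h1 | h1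
    exacts [absurd hy (hbig y h1), h1, absurd hy (hmid y h1)]

end CfsgLib.M24
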