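import Cfsg.Agent.Lib.M24.Facts

/-!
Subgroups of prime order of a group of type M(24) through the centraliser of a transposition.
-/

set_option autoImplicit false

namespace CfsgLib.M24

open Cfsg CfsgLib.ThreeTransp CfsgLib.ThreeTransp.Relations CfsgLib.CosetEnum CfsgLib.Fi23Pres Cfsg.Spor

/-- in a finite group one inclusion is enough -/
theorem mem_normalizer_of_forall {H : Type*} [Group H] [Finite H] {K : Subgroup H} {g : H} :
    g ∈ Subgroup.normalizer (K : Set H) ↔ ∀ x ∈ K, g * x * g⁻¹ ∈ K := by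
  refine ⟨fun h x hx => (Subgroup.mem_normalizer_iff.mp h x).mp hx, fun h => ?_⟩
  have he : K.map (MulAut.conj g).toMonoidHom = K :=
    Subgroup.eq_of_le_of_card_ge (by rintro _ ⟨x, hx, rfl⟩; exact h x hx)
      (by rw [Subgroup.card_map_of_injective (MulAut.conj g).injective])
  refine Subgroup.mem_normalizer_iff.mpr fun x => ⟨h x, fun hx => ?_⟩
  rw [← he] at hx
  obtain ⟨y, hy, e⟩ := hx
  rwa [← (MulAut.conj g).injective e]

namespace Pre

variable {G : Type*} [Group G] [Finite G] {D : Set G}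

/-- the members centralised by a subgroup -/
def fixedSet (D : Set G) (X : Subgroup G) : Set G :=
  D ∩ (Subgroup.centralizer (X : Set G) : Set G)

theorem mem_fixedSet {X : Subgroup G} {a : G} :
    a ∈ fixedSet D X ↔ a ∈ D ∧ ∀ x ∈ X, x * a = a * x :=
  and_congr_right' Subgroup.mem_centralizer_iff

theorem fixedSet_image (hc : IsConjClosed D) (X : Subgroup G) (g : G) :
    (fun a => g * a * g⁻¹) '' fixedSet D X = fixedSet D (X.map (MulAut.conj g).toMonoidHom) := by
  ext z
  constructor
  · rintro ⟨a, ha, rfl⟩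
    obtain ⟨h1, h2⟩ := mem_fixedSet.mp ha
    refine mem_fixedSet.mpr ⟨hc g a h1, ?_⟩
    rintro _ ⟨x, hx, rfl⟩
    exact ((Commute.conj_iff g).mpr (h2 x hx)).eq
  · intro hz
    obtain ⟨h1, h2⟩ := mem_fixedSet.mp hz
    refine ⟨g⁻¹ * z * g⁻¹⁻¹, mem_fixedSet.mpr ⟨hc g⁻¹ z h1, fun x hx => ?_⟩, by group⟩
    have h := (Commute.conj_iff g⁻¹).mpr (h2 _ ⟨x, hx, rfl⟩)
    simp only [MulEquiv.coe_toMonoidHom, MulAut.conj_apply] at h
    rwa [show g⁻¹ * (g * x * g⁻¹) * g⁻¹⁻¹ = x by group] at h

/-- a subgroup of prime order `q` centralises a number of members congruent to the size of the class -/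
theorem fixed_mod (hc : IsConjClosed D) {q : ℕ} [Fact q.Prime] {X : Subgroup G} (hX : Nat.card X = q) :
    D.ncard ≡ (fixedSet D X).ncard [MOD q] := by
  letI : MulAction X D :=
    { smul := fun x a => ⟨x * a * (x : G)⁻¹, hc x a a.2⟩
      one_smul := fun a => Subtype.ext (show (1 : G) * a * (1 : G)⁻¹ = a by group)
      mul_smul := fun x y a => Subtype.ext (show (x * y : G) * a * (x * y : G)⁻¹ =
        x * (y * a * (y : G)⁻¹) * (x : G)⁻¹ by group) }
  have h := (IsPGroup.of_card (n := 1) (by rw [hX, pow_one]) : IsPGroup q X).card_modEq_card_fixedPoints D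
  rw [Nat.card_coe_set_eq] at h
  refine h.trans (congrArg (· % q) ?_)
  rw [← Nat.card_coe_set_eq (fixedSet D X)]
  refine Nat.card_congr
    { toFun := fun a => ⟨(a.1 : G), mem_fixedSet.mpr ⟨a.1.2, fun x hx => ?_⟩⟩
      invFun := fun a => ⟨⟨a.1, a.2.1⟩, fun x => Subtype.ext ?_⟩
      left_inv := fun a => rfl
      right_inv := fun a => rfl }
  · exact mul_inv_eq_iff_eq_mul.mp (congrArg Subtype.val (a.2 ⟨x, hx⟩))
  · exact mul_inv_eq_iff_eq_mul.mpr ((mem_fixedSet.mp a.2).2 x x.2)

theorem exists_fixed {P : Pre G D} (hP : Standard P) {q : ℕ} [Fact q.Prime] (hq : ¬ q ∣ 306936)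
    {X : Subgroup G} (hX : Nat.card X = q) : (fixedSet D X).Nonempty := by
  refine Set.nonempty_of_ncard_ne_zero fun h0 => hq ?_
  have h := fixed_mod (class_conjClosed P.hDc) hX
  rw [D_card hP, h0] at h
  exact Nat.dvd_of_mod_eq_zero h

theorem perp_card {P : Pre G D} (hP : Standard P) :
    Nat.card ↥(perpGroup D P.d) = 8178940946586009600 := by
  rw [(card_eq hP).2.2]; exact (card_eq hP).2.1

theorem d_mem {P : Pre G D} (hP : Standard P) : P.d ∈ perpGroup D P.d := by
  rw [(card_eq hP).2.2]; exact Subgroup.mem_centralizer_singleton_iff.mpr rfl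

theorem mem_perp {P : Pre G D} (hP : Standard P) {g : G} : g ∈ perpGroup D P.d ↔ Commute g P.d := by
  rw [(card_eq hP).2.2]; exact Subgroup.mem_centralizer_singleton_iff

theorem ker_card {P : Pre G D} (hP : Standard P) : Nat.card P.π.ker = 2 := by
  have h := P.π.ker.card_mul_index
  rw [Subgroup.index_ker, perp_card hP, MonoidHom.range_eq_top.mpr P.π_surjective,
    Subgroup.card_top, card_faithful.1] at h
  omega

/-- the kernel of the projection is `{1, d}` -/
theorem ker_mem {P : Pre G D} (hP : Standard P) {y : ↥(perpGroup D P.d)} :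
    P.π y = 1 ↔ (y : G) = 1 ∨ (y : G) = P.d := by
  have hsub : ∀ y : ↥(perpGroup D P.d), P.π y = 1 → (y : G) = 1 ∨ (y : G) = P.d := by
    intro y hy
    rcases eq_or_ne y 1 with rfl | hne
    · exact Or.inl rfl
    · refine Or.inr (eq_d_of_kernel hP hy ?_ hne)
      have h : (⟨y, hy⟩ : P.π.ker) ^ 2 = 1 := by rw [← ker_card hP]; exact pow_card_eq_one'
      simpa [pow_two, Subtype.ext_iff] using h
  refine ⟨hsub y, ?_⟩
  rintro (h | h)
  · rw [Subtype.ext (a2 := (1 : ↥(perpGroup D P.d))) h, map_one]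
  · obtain ⟨z, hz, hz1⟩ : ∃ z ∈ P.π.ker, z ≠ 1 := by
      by_contra! hall
      have := ker_card hP
      rw [(Subgroup.eq_bot_iff_forall _).mpr hall, Subgroup.card_bot] at this
      omega
    rcases hsub z hz with e | e
    · exact absurd (Subtype.ext e) hz1
    · rw [Subtype.ext (h.trans e.symm)]; exact hz

theorem π_d {P : Pre G D} (hP : Standard P) : P.π ⟨P.d, d_mem hP⟩ = 1 := (ker_mem hP).mpr (Or.inr rfl)

/-- the members not commuting with `d` form one orbit of the centraliser -/
theorem pair_card {P : Pre G D} (hP : Standard P) {a : G} (ha : a ∈ D) (hda : ¬ Commute P.d a) :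
    275264 * Nat.card ↥(Subgroup.centralizer ({P.d} : Set G) ⊓ Subgroup.centralizer ({a} : Set G)) =
      8178940946586009600 := by
  set C := Subgroup.centralizer ({P.d} : Set G)
  letI : MulAction C {y // y ∈ D ∧ ¬ Commute P.d y} :=
    { smul := fun g y => ⟨g * y * (g : G)⁻¹, P.hD.2.1 g y y.2.1, fun h => y.2.2 (by
        have hg : Commute (g : G) P.d := Subgroup.mem_centralizer_singleton_iff.mp g.2
        have e : g * P.d * (g : G)⁻¹ = P.d := by rw [hg.eq, mul_inv_cancel_right]
        refine (Commute.conj_iff (g : G)).mp ?_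
        rw [e]
        exact h)⟩
      one_smul := fun y => Subtype.ext (show (1 : G) * y * (1 : G)⁻¹ = y by group)
      mul_smul := fun g k y => Subtype.ext (show (g * k : G) * y * (g * k : G)⁻¹ =
        g * (k * y * (k : G)⁻¹) * (g : G)⁻¹ by group) }
  set a₀ : {y // y ∈ D ∧ ¬ Commute P.d y} := ⟨a, ha, hda⟩
  have horb : MulAction.orbit C a₀ = Set.univ := by
    refine Set.eq_univ_of_forall fun y => ?_
    obtain ⟨g, hg, e⟩ := transitive_not_commute P.hD P.hprim P.hw P.hd ha y.2.1 hda y.2.2
    exact ⟨⟨g, Subgroup.mem_centralizer_singleton_iff.mpr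
      (perp_closure_conj P.hD.1 P.hD.2.1 hg P.hd).1.eq⟩, Subtype.ext e⟩
  have hidx : (MulAction.stabilizer C a₀).index = 275264 := by
    rw [MulAction.index_stabilizer, horb, Set.ncard_univ]
    exact (Nat.card_coe_set_eq _).trans (far_count hP)
  have hstab : MulAction.stabilizer C a₀ = (C ⊓ Subgroup.centralizer ({a} : Set G)).subgroupOf C := by
    ext g
    rw [MulAction.mem_stabilizer_iff, Subgroup.mem_subgroupOf, Subgroup.mem_inf, Subtype.ext_iff]
    show (g : G) * a * (g : G)⁻¹ = a ↔ _
    rw [mul_inv_eq_iff_eq_mul]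
    exact ⟨fun h => ⟨g.2, Subgroup.mem_centralizer_singleton_iff.mpr h⟩,
      fun h => Subgroup.mem_centralizer_singleton_iff.mp h.2⟩
  have h := (MulAction.stabilizer C a₀).index_mul_card
  rw [hidx, hstab, Nat.card_congr (Subgroup.subgroupOfEquivOfLe inf_le_left).toEquiv, (card_eq hP).2.1] at h
  exact h

variable {q : ℕ} [Fact q.Prime]

/-- a subgroup of prime order `q` centralising `d` and no member far from it -/
theorem far_free {P : Pre G D} (hP : Standard P) (h1 : q ∣ 275264) (h2 : ¬ q * q ∣ 8178940946586009600)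
    {X : Subgroup G} (hX : Nat.card X = q) (hd : P.d ∈ fixedSet D X) {a : G} (ha : a ∈ fixedSet D X) :
    Commute P.d a := by
  by_contra hda
  obtain ⟨haD, haX⟩ := mem_fixedSet.mp ha
  obtain ⟨-, hdX⟩ := mem_fixedSet.mp hd
  refine h2 ((Nat.mul_dvd_mul h1 ?_).trans (pair_card hP haD hda).dvd)
  rw [← hX]
  exact Subgroup.card_dvd_of_le fun x hx => ⟨Subgroup.mem_centralizer_singleton_iff.mpr (hdX x hx),
    Subgroup.mem_centralizer_singleton_iff.mpr (haX x hx)⟩

/-- the image in Fi23 -/
noncomputable def image (P : Pre G D) (X : Subgroup G) : Subgroup Fi23 :=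
  (X.subgroupOf (perpGroup D P.d)).map P.π

theorem le_perp {P : Pre G D} (hP : Standard P) {X : Subgroup G} (hd : P.d ∈ fixedSet D X) :
    X ≤ perpGroup D P.d := fun x hx => (mem_perp hP).mpr ((mem_fixedSet.mp hd).2 x hx)

theorem image_card {P : Pre G D} (hP : Standard P) (hq : q ≠ 2) {X : Subgroup G} (hX : Nat.card X = q)
    (hd : P.d ∈ fixedSet D X) : Nat.card (P.image X) = q := by
  set X' := X.subgroupOf (perpGroup D P.d)
  have hX' : Nat.card X' = q := by
    rw [Nat.card_congr (Subgroup.subgroupOfEquivOfLe (le_perp hP hd)).toEquiv, hX]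
  have hdisj : X' ⊓ P.π.ker = ⊥ := (Subgroup.disjoint_of_coprime_natCard (by
    rw [hX', ker_card hP]
    exact (Nat.coprime_primes Fact.out Nat.prime_two).mpr hq)).eq_bot
  have hinj : Function.Injective (P.π.comp X'.subtype) := fun x y e => by
    have hm : ((x⁻¹ * y : X') : ↥(perpGroup D P.d)) ∈ X' ⊓ P.π.ker := ⟨(x⁻¹ * y).2, by
      show P.π ((x⁻¹ * y : X') : ↥(perpGroup D P.d)) = 1
      rw [Subgroup.coe_mul, Subgroup.coe_inv, map_mul, map_inv]
      exact inv_mul_eq_one.mpr e⟩
    rw [hdisj, Subgroup.mem_bot] at hm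
    exact inv_mul_eq_one.mp (Subtype.ext hm)
  rw [show P.image X = (P.π.comp X'.subtype).range by
    rw [MonoidHom.range_comp, Subgroup.range_subtype]; rfl,
    ← Nat.card_congr (MonoidHom.ofInjective hinj).toEquiv, hX']

/-- every member of the perp centralised by `X` gives a transposition centralised by the image -/
theorem image_lift {P : Pre G D} {X : Subgroup G} {p : Pt} (h : P.lift p ∈ fixedSet D X) :
    tp p ∈ Subgroup.centralizer ((P.image X : Subgroup Fi23) : Set Fi23) := by
  refine Subgroup.mem_centralizer_iff.mpr ?_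
  rintro _ ⟨y, hy, rfl⟩
  rw [← P.π_lift p, ← map_mul, ← map_mul]
  exact congrArg P.π (Subtype.ext ((mem_fixedSet.mp h).2 y hy))

/-- If the image is self-centralising then `d` is the only member centralised. -/
theorem fixed_single {P : Pre G D} (hP : Standard P) (h1 : q ∣ 275264) (h2 : ¬ q * q ∣ 8178940946586009600)
    (hq : q ≠ 2) {X : Subgroup G} (hX : Nat.card X = q) (hd : P.d ∈ fixedSet D X)
    (hc : Subgroup.centralizer ((P.image X : Subgroup Fi23) : Set Fi23) = P.image X) :
    fixedSet D X = {P.d} := by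
  refine Set.eq_singleton_iff_unique_mem.mpr ⟨hd, fun a ha => ?_⟩
  by_contra hne
  obtain ⟨p, rfl⟩ := P.exists_point ⟨ha.1, hne, far_free hP h1 h2 hX hd ha⟩
  have hmem := image_lift ha
  rw [hc] at hmem
  have ho : orderOf (tp p) ∣ Nat.card (P.image X) := Subgroup.orderOf_dvd_natCard _ hmem
  rw [image_card hP hq hX hd, transClass_three.1.1 _ (tp_mem p)] at ho
  exact hq ((Nat.prime_dvd_prime_iff_eq Nat.prime_two Fact.out).mp ho).symm

/-- The centraliser and normaliser of a subgroup centralising `d` alone, from its image. -/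
theorem local_of_image {P : Pre G D} (hP : Standard P) (hq : q ≠ 2) {X : Subgroup G} (hX : Nat.card X = q)
    (hd : fixedSet D X = {P.d}) {n : ℕ}
    (hn : Nat.card (Subgroup.normalizer ((P.image X : Subgroup Fi23) : Set Fi23)) = n)
    (hc : Subgroup.centralizer ((P.image X : Subgroup Fi23) : Set Fi23) = P.image X) :
    Nat.card (Subgroup.normalizer (X : Set G)) = 2 * n ∧
      Nat.card (Subgroup.centralizer (X : Set G)) = 2 * q := by
  have hdX : P.d ∈ fixedSet D X := hd ▸ rfl
  set X' := X.subgroupOf (perpGroup D P.d) with hX'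
  have hle := le_perp hP hdX
  have hXmap : X'.map (perpGroup D P.d).subtype = X := Subgroup.map_subgroupOf_eq_of_le hle
  have hNle : Subgroup.normalizer (X : Set G) ≤ perpGroup D P.d := by
    intro g hg
    have himg := fixedSet_image (class_conjClosed P.hDc) X g
    have hmap : X.map (MulAut.conj g).toMonoidHom = X := by
      refine Subgroup.eq_of_le_of_card_ge ?_ (by rw [Subgroup.card_map_of_injective (MulAut.conj g).injective])
      rintro _ ⟨x, hx, rfl⟩
      exact (Subgroup.mem_normalizer_iff.mp hg x).mp hx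
    rw [hmap, hd, Set.image_singleton, Set.singleton_eq_singleton_iff] at himg
    exact (mem_perp hP).mpr (mul_inv_eq_iff_eq_mul.mp himg)
  have hCle : Subgroup.centralizer (X : Set G) ≤ perpGroup D P.d :=
    (Subgroup.centralizer_le_normalizer _).trans hNle
  -- the only subgroup of order `q` over the image
  have key : ∀ y : ↥(perpGroup D P.d), P.π y ∈ P.image X → orderOf y ∣ q → y ∈ X' := by
    rintro y ⟨x, hx, e⟩ ho
    have hxq : orderOf x ∣ q := by
      have h := Subgroup.orderOf_dvd_natCard (x := x) X' hx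
      rwa [Nat.card_congr (Subgroup.subgroupOfEquivOfLe hle).toEquiv, hX] at h
    have hxc : Commute (x : G) P.d := (mem_fixedSet.mp hdX).2 x hx
    rcases (ker_mem hP).mp (show P.π (x⁻¹ * y) = 1 by rw [map_mul, map_inv, e, inv_mul_cancel]) with h | h
    · rw [show y = x from (inv_mul_eq_one.mp (Subtype.ext h)).symm]; exact hx
    · exfalso
      have hy : (y : G) = x * P.d := by
        rw [Subgroup.coe_mul, Subgroup.coe_inv] at h
        exact inv_mul_eq_iff_eq_mul.mp h
      have hyq : (y : G) ^ q = 1 := by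
        rw [← SubgroupClass.coe_pow, orderOf_dvd_iff_pow_eq_one.mp ho]; rfl
      have hxq' : (x : G) ^ q = 1 := by
        rw [← SubgroupClass.coe_pow, orderOf_dvd_iff_pow_eq_one.mp hxq]; rfl
      rw [hy, hxc.mul_pow, hxq', one_mul] at hyq
      have h2 := orderOf_dvd_iff_pow_eq_one.mpr hyq
      rw [P.hD.1.1 _ P.hd] at h2
      exact hq ((Nat.prime_dvd_prime_iff_eq Nat.prime_two Fact.out).mp h2).symm
  have hcard : ∀ K : Subgroup Fi23, Nat.card (K.comap P.π) = 2 * Nat.card K := by
    intro K
    have h1 := (K.comap P.π).index_mul_card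
    rw [Subgroup.index_comap_of_surjective _ P.π_surjective, perp_card hP] at h1
    have h2 := K.index_mul_card
    rw [card_faithful.1] at h2
    refine Nat.eq_of_mul_eq_mul_left (n := K.index) (Nat.pos_of_ne_zero Subgroup.index_ne_zero_of_finite) ?_
    rw [h1, mul_left_comm, h2]
    norm_num
  have hN : (Subgroup.normalizer (X : Set G)).subgroupOf (perpGroup D P.d) =
      (Subgroup.normalizer ((P.image X : Subgroup Fi23) : Set Fi23)).comap P.π := by
    refine le_antisymm (fun y hy => ?_) (fun y hy => ?_)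
    · rw [Subgroup.mem_comap, mem_normalizer_of_forall]
      rintro _ ⟨x, hx, rfl⟩
      refine ⟨y * x * y⁻¹, ?_, by rw [map_mul, map_mul, map_inv]⟩
      exact (Subgroup.mem_normalizer_iff.mp hy (x : G)).mp hx
    · rw [Subgroup.mem_subgroupOf, mem_normalizer_of_forall]
      intro x hx
      refine key (y * ⟨x, hle hx⟩ * y⁻¹) ?_ ?_
      · rw [map_mul, map_mul, map_inv]
        exact (Subgroup.mem_normalizer_iff.mp hy _).mp ⟨_, hx, rfl⟩
      · rw [show y * ⟨x, hle hx⟩ * y⁻¹ = MulAut.conj y ⟨x, hle hx⟩ from rfl, MulEquiv.orderOf_eq,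
          Subgroup.orderOf_mk, ← hX]
        exact Subgroup.orderOf_dvd_natCard _ hx
  have hC : (Subgroup.centralizer (X : Set G)).subgroupOf (perpGroup D P.d) =
      (P.image X).comap P.π := by
    refine le_antisymm (fun y hy => ?_) (fun y hy => ?_)
    · rw [Subgroup.mem_comap, ← hc, Subgroup.mem_centralizer_iff]
      rintro _ ⟨x, hx, rfl⟩
      rw [← map_mul, ← map_mul]
      exact congrArg P.π (Subtype.ext (Subgroup.mem_centralizer_iff.mp hy (x : G) hx))
    · obtain ⟨x, hx, e⟩ := hy
      rw [Subgroup.mem_subgroupOf, Subgroup.mem_centralizer_iff]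
      intro z hz
      obtain ⟨k, hk, hy'⟩ : ∃ k : G, (k = 1 ∨ k = P.d) ∧ (y : G) = x * k := by
        rcases (ker_mem hP).mp (show P.π (x⁻¹ * y) = 1 by rw [map_mul, map_inv, e, inv_mul_cancel]) with h | h
        all_goals rw [Subgroup.coe_mul, Subgroup.coe_inv] at h
        exacts [⟨1, Or.inl rfl, inv_mul_eq_iff_eq_mul.mp h⟩, ⟨P.d, Or.inr rfl, inv_mul_eq_iff_eq_mul.mp h⟩]
      haveI : IsCyclic X := isCyclic_of_prime_card hX
      have hzx : Commute z (x : G) := by
        letI := IsCyclic.commGroup (α := X)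
        exact congrArg Subtype.val (mul_comm (⟨z, hz⟩ : X) ⟨x, hx⟩)
      have hzk : Commute z k := by
        rcases hk with rfl | rfl
        exacts [Commute.one_right _, (mem_fixedSet.mp hdX).2 z hz]
      rw [hy']
      exact hzx.mul_right hzk
  refine ⟨?_, ?_⟩
  · rw [← Nat.card_congr (Subgroup.subgroupOfEquivOfLe hNle).toEquiv, hN, hcard, hn]
  · rw [← Nat.card_congr (Subgroup.subgroupOfEquivOfLe hCle).toEquiv, hC, hcard, image_card hP hq hX hdX]

/-- the derived group is the kernel of the sign -/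
theorem commutator_eq_ker {P : Pre G D} {σ : G →* Multiplicative (ZMod 2)}
    (hσ : ∀ a ∈ D, σ a = Multiplicative.ofAdd 1) : commutator G = σ.ker := by
  refine le_antisymm (Abelianization.commutator_subset_ker σ) fun g hg => ?_
  have hall : ∀ a ∈ D, Abelianization.of a = Abelianization.of P.d := by
    intro a ha
    obtain ⟨k, rfl⟩ := class_exists_conj P.hDc P.hd ha
    rw [map_mul, map_mul, map_inv, mul_right_comm, mul_inv_cancel, one_mul]
  have hd2 : Abelianization.of P.d * Abelianization.of P.d = 1 := by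
    rw [← map_mul, mul_self_eq_one P.hD.1 P.hd, map_one]
  have key : ∀ g : G, (σ g = 1 ∧ Abelianization.of g = 1) ∨
      (σ g = Multiplicative.ofAdd 1 ∧ Abelianization.of g = Abelianization.of P.d) := by
    intro g
    have hg : g ∈ Subgroup.closure D := P.hD.2.2.symm ▸ Subgroup.mem_top g
    induction hg using Subgroup.closure_induction with
    | mem a ha => exact Or.inr ⟨hσ a ha, hall a ha⟩
    | one => exact Or.inl ⟨map_one _, map_one _⟩
    | mul a b _ _ iha ihb =>
      rcases iha with ⟨a1, a2⟩ | ⟨a1, a2⟩ <;> rcases ihb with ⟨b1, b2⟩ | ⟨b1, b2⟩ <;>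
        simp only [map_mul, a1, a2, b1, b2, one_mul, mul_one, hd2, and_true]
      all_goals first | exact Or.inl trivial | exact Or.inr trivial | exact Or.inl (by decide)
    | inv a _ iha =>
      rcases iha with ⟨a1, a2⟩ | ⟨a1, a2⟩
      · exact Or.inl (by simp [a1, a2])
      · refine Or.inr ⟨by rw [map_inv, a1]; decide, ?_⟩
        rw [map_inv, a2]
        exact inv_eq_of_mul_eq_one_right hd2
  rcases key g with ⟨-, h⟩ | ⟨h, -⟩
  · rwa [← MonoidHom.mem_ker, Abelianization.ker_of] at h
  · rw [MonoidHom.mem_ker, h] at hg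
    exact absurd hg (by decide)

/-- half of a subgroup containing `d` lies in the derived group -/
theorem commutator_half {P : Pre G D} (hP : Standard P) (H : Subgroup G) (hd : P.d ∈ H) :
    2 * Nat.card ↥(commutator G ⊓ H) = Nat.card H := by
  obtain ⟨σ, hσ⟩ := exists_sign hP
  set τ := σ.comp H.subtype
  have hker : (commutator G ⊓ H).subgroupOf H = τ.ker := by
    rw [Subgroup.inf_subgroupOf_right, commutator_eq_ker (P := P) hσ]
    rfl
  have hsurj : τ.range = ⊤ := by
    refine eq_top_iff.mpr fun z _ => ?_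
    fin_cases z
    · exact ⟨1, map_one _⟩
    · exact ⟨⟨P.d, hd⟩, hσ _ P.hd⟩
  have h := τ.ker.index_mul_card
  rw [Subgroup.index_ker, hsurj, Subgroup.card_top, ← hker,
    Nat.card_congr (Subgroup.subgroupOfEquivOfLe inf_le_right).toEquiv] at h
  simpa using h

theorem odd_le_commutator {P : Pre G D} (hP : Standard P) {X : Subgroup G} (hX : Nat.card X = q)
    (hq : q ≠ 2) : X ≤ commutator G := by
  obtain ⟨σ, hσ⟩ := exists_sign hP
  rw [commutator_eq_ker (P := P) hσ]
  intro x hx
  have h1 : orderOf (σ x) ∣ q := (orderOf_map_dvd σ x).trans (hX ▸ Subgroup.orderOf_dvd_natCard _ hx)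
  have h2 : orderOf (σ x) ∣ 2 := by
    have := orderOf_dvd_natCard (σ x)
    simpa using this
  rw [MonoidHom.mem_ker, ← orderOf_eq_one_iff]
  exact Nat.eq_one_of_dvd_coprimes ((Nat.coprime_primes Fact.out Nat.prime_two).mpr hq) h1 h2

end Pre

end CfsgLib.M24
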