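import Cfsg.Agent.Lib.Fi24Pres.Defs

/-!
Witnesses for following the long relator exactly.
-/

set_option autoImplicit false
set_option linter.style.longLine false

namespace CfsgLib.M24

/-- part of a witness -/
def walk7St0p0 : List ℕ := []

/-- part of a witness -/
def walk7St1p0 : List ℕ := [8, 2, 4, 5, 12, 6, 4, 5, 12, 8, 6, 4, 5, 3, 7, 2, 3, 4, 2, 3, 2, 7, 3, 5, 4, 6, 8, 12, 5, 4, 6, 12, 5, 6, 12, 9, 6, 12, 5, 12, 8, 3, 7, 8, 12, 5, 3, 4, 2, 3, 5, 7, 12, 8, 9, 12, 5, 4, 7, 3, 2, 3, 8, 6, 9, 4, 5, 12, 6, 4, 5, 12, 8, 6, 4, 5, 3, 7, 2, 3, 4, 2, 3, 2, 7, 3, 5, 4, 6, 8, 12, 5, 4, 6, 12, 5, 6, 12, 9, 6]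

/-- part of a witness -/
def walk7St1p1 : List ℕ := [12, 5, 12, 8, 3, 7, 8, 12, 5, 3, 4, 2, 3, 5, 7, 12, 8, 9, 12, 5, 4, 7, 3, 2, 3, 8, 6, 9, 4, 5, 12, 6, 4, 5, 12, 8, 6, 4, 5, 3, 7, 2, 3, 4, 2, 3, 2, 7, 3, 5, 4, 6, 8, 12, 5, 4, 6, 12, 5, 6, 12, 9, 6, 12, 5, 12, 8, 3, 7, 8, 12, 5, 3, 4, 2, 3, 5, 7, 12, 8, 9, 12, 5, 4, 7, 3, 2, 3, 8, 6, 9, 12, 7, 4, 8, 12, 7, 6, 5, 4]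

/-- part of a witness -/
def walk7St1p2 : List ℕ := [6, 5, 12, 5, 4, 6, 5, 3, 8, 4, 2, 3, 7, 8, 3, 4, 2, 3, 5, 6, 4, 5, 12, 5, 6, 4, 5, 6, 3, 7, 2, 3, 4, 2, 3, 2, 7, 3, 9, 6, 5, 6, 2, 9, 4, 3, 6, 5, 3, 12, 7, 8, 7, 5, 4, 9, 6, 5, 6, 5, 4, 6, 5, 12, 5, 4, 6, 5, 3, 8, 4, 2, 3, 7, 8, 3, 4, 2, 3, 5, 6, 4, 5, 12, 5, 6, 4, 5, 6, 9, 6, 5, 6, 2, 9, 4, 3, 6, 5, 3]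

/-- part of a witness -/
def walk7St1p3 : List ℕ := [12, 7, 8, 7, 5, 4, 9, 6, 5, 4, 5, 12, 6, 4, 5, 12, 8, 6, 4, 5, 3, 7, 2, 3, 4, 2, 3, 2, 7, 3, 5, 4, 6, 8, 12, 5, 4, 6, 12, 5, 6, 12, 9, 6, 12, 5, 12, 8, 3, 7, 8, 12, 5, 3, 4, 2, 3, 5, 7, 12, 8, 9, 12, 5, 4, 7, 3, 2, 3, 8, 6, 9, 3, 4, 5, 7, 3, 4, 8, 7, 3, 2]

/-- witnesses with stabiliser tokens -/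
def walk7X : List Fi24Pres.Wit := [
  ⟨4, [walk7St0p0].flatten, 0, [1, 2, 3, 4, 5, 7, 3, 4, 8, 7, 3, 2, 1]⟩,
  ⟨5, [walk7St1p0, walk7St1p1, walk7St1p2, walk7St1p3].flatten, 0, [1, 2, 3, 4, 5, 7, 3, 2, 4, 3, 7, 8, 7, 3, 2, 1, 4, 3, 5, 4, 7, 3]⟩]

/-- part of a witness -/
def walkHeadSt0p0 : List ℕ := [3, 2, 1, 0]

/-- part of a witness -/
def walkHeadSt1p0 : List ℕ := [1, 3, 7, 4, 3, 7, 8, 5, 6, 9, 1, 2, 1]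

/-- part of a witness -/
def walkHeadSt2p0 : List ℕ := [3, 4, 5, 3, 12, 2, 3, 7, 4, 5, 3, 2, 4, 3, 5, 4, 7, 3, 2, 12, 3, 5, 4, 3, 5, 12, 4, 5, 7, 2, 8, 4, 5, 12, 6, 4, 5, 12, 8, 6, 4, 5, 3, 7, 2, 3, 4, 2, 3, 2, 7, 3, 5, 4, 6, 8, 12, 5, 4, 6, 12, 5, 6, 12, 9, 6, 12, 5, 12, 8, 3, 7, 8, 12, 5, 3, 4, 2, 3, 5, 7, 12, 8, 9, 12, 5, 4, 7, 3, 2, 3, 8, 6, 9, 4, 5, 12, 6, 4, 5]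

/-- part of a witness -/
def walkHeadSt2p1 : List ℕ := [12, 8, 6, 4, 5, 3, 7, 2, 3, 4, 2, 3, 2, 7, 3, 5, 4, 6, 8, 12, 5, 4, 6, 12, 5, 6, 12, 9, 6, 12, 5, 12, 8, 3, 7, 8, 12, 5, 3, 4, 2, 3, 5, 7, 12, 8, 9, 12, 5, 4, 7, 3, 2, 3, 8, 6, 9, 4, 5, 12, 6, 4, 5, 12, 8, 6, 4, 5, 3, 7, 2, 3, 4, 2, 3, 2, 7, 3, 5, 4, 6, 8, 12, 5, 4, 6, 12, 5, 6, 12, 9, 6, 12, 5, 12, 8, 3, 7, 8, 12]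

/-- part of a witness -/
def walkHeadSt2p2 : List ℕ := [5, 3, 4, 2, 3, 5, 7, 12, 8, 9, 12, 5, 4, 7, 3, 2, 3, 8, 6, 9, 3, 7, 2, 3, 4, 2, 3, 2, 7, 3, 7, 3, 4, 5, 6, 9, 7, 3, 8]

/-- part of a witness -/
def walkHeadSt3p0 : List ℕ := [3, 4, 5, 3, 12, 2, 3, 7, 4, 5, 3, 2, 4, 3, 5, 4, 7, 3, 2, 12, 3, 5, 4, 3, 5, 12, 4, 5, 7, 2, 8, 4, 5, 12, 6, 4, 5, 12, 8, 6, 4, 5, 3, 7, 2, 3, 4, 2, 3, 2, 7, 3, 5, 4, 6, 8, 12, 5, 4, 6, 12, 5, 6, 12, 9, 6, 12, 5, 12, 8, 3, 7, 8, 12, 5, 3, 4, 2, 3, 5, 7, 12, 8, 9, 12, 5, 4, 7, 3, 2, 3, 8, 6, 9, 4, 5, 12, 6, 4, 5]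

/-- part of a witness -/
def walkHeadSt3p1 : List ℕ := [12, 8, 6, 4, 5, 3, 7, 2, 3, 4, 2, 3, 2, 7, 3, 5, 4, 6, 8, 12, 5, 4, 6, 12, 5, 6, 12, 9, 6, 12, 5, 12, 8, 3, 7, 8, 12, 5, 3, 4, 2, 3, 5, 7, 12, 8, 9, 12, 5, 4, 7, 3, 2, 3, 8, 6, 9, 4, 5, 12, 6, 4, 5, 12, 8, 6, 4, 5, 3, 7, 2, 3, 4, 2, 3, 2, 7, 3, 5, 4, 6, 8, 12, 5, 4, 6, 12, 5, 6, 12, 9, 6, 12, 5, 12, 8, 3, 7, 8, 12]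

/-- part of a witness -/
def walkHeadSt3p2 : List ℕ := [5, 3, 4, 2, 3, 5, 7, 12, 8, 9, 12, 5, 4, 7, 3, 2, 3, 8, 6, 9, 3, 7, 2, 3, 4, 2, 3, 2, 7, 3, 7, 3, 4, 5, 6, 9, 7, 3, 8]

/-- part of a witness -/
def walkHeadSt4p0 : List ℕ := [3, 4, 5, 3, 12, 2, 3, 7, 4, 5, 3, 2, 4, 3, 5, 4, 7, 3, 2, 12, 3, 5, 4, 3, 5, 12, 4, 5, 7, 2, 4, 5, 12, 6, 4, 5, 12, 8, 6, 4, 5, 3, 7, 2, 3, 4, 2, 3, 2, 7, 3, 5, 4, 6, 8, 12, 5, 4, 6, 12, 5, 6, 12, 9, 6, 12, 5, 12, 8, 3, 7, 8, 12, 5, 3, 4, 2, 3, 5, 7, 12, 8, 9, 12, 5, 4, 7, 3, 2, 3, 8, 6, 9, 4, 5, 12, 6, 4, 5, 12]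

/-- part of a witness -/
def walkHeadSt4p1 : List ℕ := [8, 6, 4, 5, 3, 7, 2, 3, 4, 2, 3, 2, 7, 3, 5, 4, 6, 8, 12, 5, 4, 6, 12, 5, 6, 12, 9, 6, 12, 5, 12, 8, 3, 7, 8, 12, 5, 3, 4, 2, 3, 5, 7, 12, 8, 9, 12, 5, 4, 7, 3, 2, 3, 8, 6, 9, 7, 4, 5, 12, 6, 4, 5, 12, 8, 6, 4, 5, 3, 7, 2, 3, 4, 2, 3, 2, 7, 3, 5, 4, 6, 8, 12, 5, 4, 6, 12, 5, 6, 12, 9, 6, 12, 5, 12, 8, 3, 7, 8, 12]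

/-- part of a witness -/
def walkHeadSt4p2 : List ℕ := [5, 3, 4, 2, 3, 5, 7, 12, 8, 9, 12, 5, 4, 7, 3, 2, 3, 8, 6, 9, 8]

/-- part of a witness -/
def walkHeadSt5p0 : List ℕ := [8, 1, 9, 5, 7, 4, 3, 7, 8, 4, 6, 2, 3, 4, 1, 2, 9, 7, 3, 4, 7, 2, 1, 8, 3, 2, 7, 8, 3, 2, 4, 7, 3, 8, 1, 2, 1, 7, 4, 3, 2, 4, 7, 6, 3, 1, 2, 8, 2, 8, 3, 7, 1, 8, 2, 3, 7]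

/-- part of a witness -/
def walkHeadSt6p0 : List ℕ := [4, 5, 12, 6, 4, 5, 12, 8, 6, 4, 5, 3, 7, 2, 3, 4, 2, 3, 2, 7, 3, 5, 4, 6, 8, 12, 5, 4, 6, 12, 5, 6, 12, 9, 6, 12, 5, 12, 8, 3, 7, 8, 12, 5, 3, 4, 2, 3, 5, 7, 12, 8, 9, 12, 5, 4, 7, 3, 2, 3, 8, 6, 9, 4, 5, 12, 6, 4, 5, 12, 8, 6, 4, 5, 3, 7, 2, 3, 4, 2, 3, 2, 7, 3, 5, 4, 6, 8, 12, 5, 4, 6, 12, 5, 6, 12, 9, 6, 12, 5]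

/-- part of a witness -/
def walkHeadSt6p1 : List ℕ := [12, 8, 3, 7, 8, 12, 5, 3, 4, 2, 3, 5, 7, 12, 8, 9, 12, 5, 4, 7, 3, 2, 3, 8, 6, 9, 4, 5, 12, 6, 4, 5, 12, 8, 6, 4, 5, 3, 7, 2, 3, 4, 2, 3, 2, 7, 3, 5, 4, 6, 8, 12, 5, 4, 6, 12, 5, 6, 12, 9, 6, 12, 5, 12, 8, 3, 7, 8, 12, 5, 3, 4, 2, 3, 5, 7, 12, 8, 9, 12, 5, 4, 7, 3, 2, 3, 8, 6, 9, 4, 5, 12, 6, 4, 5, 12, 8, 6, 4, 5]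

/-- part of a witness -/
def walkHeadSt6p2 : List ℕ := [3, 7, 2, 3, 4, 2, 3, 2, 7, 3, 5, 4, 6, 8, 12, 5, 4, 6, 12, 5, 6, 12, 9, 6, 12, 5, 12, 8, 3, 7, 8, 12, 5, 3, 4, 2, 3, 5, 7, 12, 8, 9, 12, 5, 4, 7, 3, 2, 3, 8, 6, 9, 12, 7, 4, 8, 12, 7, 4, 5, 12, 6, 4, 5, 12, 8, 6, 4, 5, 3, 7, 2, 3, 4, 2, 3, 2, 7, 3, 5, 4, 6, 8, 12, 5, 4, 6, 12, 5, 6, 12, 9, 6, 12, 5, 12, 8, 3, 7, 8]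

/-- part of a witness -/
def walkHeadSt6p3 : List ℕ := [12, 5, 3, 4, 2, 3, 5, 7, 12, 8, 9, 12, 5, 4, 7, 3, 2, 3, 8, 6, 9, 4, 5, 12, 6, 4, 5, 12, 8, 6, 4, 5, 3, 7, 2, 3, 4, 2, 3, 2, 7, 3, 5, 4, 6, 8, 12, 5, 4, 6, 12, 5, 6, 12, 9, 6, 12, 5, 12, 8, 3, 7, 8, 12, 5, 3, 4, 2, 3, 5, 7, 12, 8, 9, 12, 5, 4, 7, 3, 2, 3, 8, 6, 9, 7, 12, 7, 4, 8, 12, 7, 9, 6, 5, 6, 2, 9, 4, 3, 6]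

/-- part of a witness -/
def walkHeadSt6p4 : List ℕ := [5, 3, 12, 7, 8, 7, 5, 4, 9, 6, 5, 9, 6, 5, 6, 2, 9, 4, 3, 6, 5, 3, 12, 7, 8, 7, 5, 4, 9, 6, 5, 12, 8, 2, 5, 3, 12, 6, 2, 5, 4, 3, 7, 3, 2, 4, 3, 5, 12, 6, 5, 8, 12, 4, 5, 12, 6, 4, 5, 12, 8, 6, 4, 5, 3, 7, 2, 3, 4, 2, 3, 2, 7, 3, 5, 4, 6, 8, 12, 5, 4, 6, 12, 5, 6, 12, 9, 6, 12, 5, 12, 8, 3, 7, 8, 12, 5, 3, 4, 2]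

/-- part of a witness -/
def walkHeadSt6p5 : List ℕ := [3, 5, 7, 12, 8, 9, 12, 5, 4, 7, 3, 2, 3, 8, 6, 9, 4, 5, 12, 6, 4, 5, 12, 8, 6, 4, 5, 3, 7, 2, 3, 4, 2, 3, 2, 7, 3, 5, 4, 6, 8, 12, 5, 4, 6, 12, 5, 6, 12, 9, 6, 12, 5, 12, 8, 3, 7, 8, 12, 5, 3, 4, 2, 3, 5, 7, 12, 8, 9, 12, 5, 4, 7, 3, 2, 3, 8, 6, 9, 5, 12, 8, 7, 5, 12, 3, 4, 2, 9, 6, 7, 9, 3, 7, 4, 2, 3, 5, 6, 12]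

/-- part of a witness -/
def walkHeadSt6p6 : List ℕ := [8, 7, 12, 8, 7, 5, 12, 3, 4, 2, 9, 6, 7, 9, 3, 7, 4, 2, 3, 5, 6, 12, 8, 7, 5, 12, 7, 4, 8, 12, 7, 9, 6, 5, 6, 2, 9, 4, 3, 6, 5, 3, 12, 7, 8, 7, 5, 4, 9, 6, 5, 3, 4, 7, 3, 8, 7, 12]

/-- witnesses with stabiliser tokens -/
def walkHeadX : List Fi24Pres.Wit := [
  ⟨0, [walkHeadSt0p0].flatten, 0, []⟩,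
  ⟨4, [walkHeadSt1p0].flatten, 0, []⟩,
  ⟨6, [walkHeadSt2p0, walkHeadSt2p1, walkHeadSt2p2].flatten, 0, []⟩,
  ⟨6, [walkHeadSt3p0, walkHeadSt3p1, walkHeadSt3p2].flatten, 0, [2, 1]⟩,
  ⟨5, [walkHeadSt4p0, walkHeadSt4p1, walkHeadSt4p2].flatten, 0, [1, 2, 3, 4, 5, 6, 7, 3, 8, 9]⟩,
  ⟨4, [walkHeadSt5p0].flatten, 0, [1, 2, 3, 4, 7, 3, 2, 1, 8, 7, 3, 2, 4, 3, 5, 6]⟩,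
  ⟨5, [walkHeadSt6p0, walkHeadSt6p1, walkHeadSt6p2, walkHeadSt6p3, walkHeadSt6p4, walkHeadSt6p5, walkHeadSt6p6].flatten, 0, [1, 2, 3, 4, 5, 6, 7, 3, 2, 1, 4, 3, 2, 8, 7, 3, 2, 1, 4, 3, 2, 5, 7, 3, 9]⟩]

/-- part of a witness -/
def walkTailSt0p0 : List ℕ := [8, 7, 3, 9, 6, 5, 4, 3, 10]

/-- part of a witness -/
def walkTailSt1p0 : List ℕ := [8, 9, 6, 5, 7]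

/-- part of a witness -/
def walkTailSt2p0 : List ℕ := [2, 12, 7, 4, 8, 12, 7, 4, 5, 12, 6, 4, 5, 12, 8, 6, 4, 5, 3, 7, 2, 3, 4, 2, 3, 2, 7, 3, 5, 4, 6, 8, 12, 5, 4, 6, 12, 5, 6, 12, 9, 6, 12, 5, 12, 8, 3, 7, 8, 12, 5, 3, 4, 2, 3, 5, 7, 12, 8, 9, 12, 5, 4, 7, 3, 2, 3, 8, 6, 9, 4, 5, 12, 6, 4, 5, 12, 8, 6, 4, 5, 3, 7, 2, 3, 4, 2, 3, 2, 7, 3, 5, 4, 6, 8, 12, 5, 4, 6, 12]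

/-- part of a witness -/
def walkTailSt2p1 : List ℕ := [5, 6, 12, 9, 6, 12, 5, 12, 8, 3, 7, 8, 12, 5, 3, 4, 2, 3, 5, 7, 12, 8, 9, 12, 5, 4, 7, 3, 2, 3, 8, 6, 9, 6, 5, 4, 6, 5, 12, 5, 4, 6, 5, 3, 8, 4, 2, 3, 7, 8, 3, 4, 2, 3, 5, 6, 4, 5, 12, 5, 6, 4, 5, 4, 5, 12, 6, 4, 5, 12, 8, 6, 4, 5, 3, 7, 2, 3, 4, 2, 3, 2, 7, 3, 5, 4, 6, 8, 12, 5, 4, 6, 12, 5, 6, 12, 9, 6, 12, 5]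

/-- part of a witness -/
def walkTailSt2p2 : List ℕ := [12, 8, 3, 7, 8, 12, 5, 3, 4, 2, 3, 5, 7, 12, 8, 9, 12, 5, 4, 7, 3, 2, 3, 8, 6, 9, 3, 7, 2, 3, 4, 2, 3, 2, 7, 3, 4, 5, 12, 6, 4, 5, 12, 8, 6, 4, 5, 3, 7, 2, 3, 4, 2, 3, 2, 7, 3, 5, 4, 6, 8, 12, 5, 4, 6, 12, 5, 6, 12, 9, 6, 12, 5, 12, 8, 3, 7, 8, 12, 5, 3, 4, 2, 3, 5, 7, 12, 8, 9, 12, 5, 4, 7, 3, 2, 3, 8, 6, 9, 3]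

/-- part of a witness -/
def walkTailSt2p3 : List ℕ := [7, 2, 3, 4, 2, 3, 2, 7, 3, 9, 6, 5, 6, 2, 9, 4, 3, 6, 5, 3, 12, 7, 8, 7, 5, 4, 9, 6, 5, 3, 7, 2, 3, 4, 2, 3, 2, 7, 3, 6, 5, 4, 6, 5, 12, 5, 4, 6, 5, 3, 8, 4, 2, 3, 7, 8, 3, 4, 2, 3, 5, 6, 4, 5, 12, 5, 6, 4, 12, 8, 7, 5, 12, 3, 4, 2, 9, 6, 7, 9, 3, 7, 4, 2, 3, 5, 6, 12, 8, 7, 5, 6, 5, 4, 6, 5, 12, 5, 4, 6]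

/-- part of a witness -/
def walkTailSt2p4 : List ℕ := [5, 3, 8, 4, 2, 3, 7, 8, 3, 4, 2, 3, 5, 6, 4, 5, 12, 5, 6, 4, 5, 9, 6, 5, 6, 2, 9, 4, 3, 6, 5, 3, 12, 7, 8, 7, 5, 4, 9, 6, 5, 3, 7, 2, 3, 4, 2, 3, 2, 7, 3, 12, 8, 2, 5, 3, 12, 6, 2, 5, 4, 3, 7, 3, 2, 4, 3, 5, 12, 6, 5, 8, 12, 10]

/-- part of a witness -/
def walkTailSt3p0 : List ℕ := [8, 4, 5, 12, 6, 4, 5, 12, 8, 6, 4, 5, 3, 7, 2, 3, 4, 2, 3, 2, 7, 3, 5, 4, 6, 8, 12, 5, 4, 6, 12, 5, 6, 12, 9, 6, 12, 5, 12, 8, 3, 7, 8, 12, 5, 3, 4, 2, 3, 5, 7, 12, 8, 9, 12, 5, 4, 7, 3, 2, 3, 8, 6, 9, 4, 5, 12, 6, 4, 5, 12, 8, 6, 4, 5, 3, 7, 2, 3, 4, 2, 3, 2, 7, 3, 5, 4, 6, 8, 12, 5, 4, 6, 12, 5, 6, 12, 9, 6, 12]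

/-- part of a witness -/
def walkTailSt3p1 : List ℕ := [5, 12, 8, 3, 7, 8, 12, 5, 3, 4, 2, 3, 5, 7, 12, 8, 9, 12, 5, 4, 7, 3, 2, 3, 8, 6, 9, 4, 5, 12, 6, 4, 5, 12, 8, 6, 4, 5, 3, 7, 2, 3, 4, 2, 3, 2, 7, 3, 5, 4, 6, 8, 12, 5, 4, 6, 12, 5, 6, 12, 9, 6, 12, 5, 12, 8, 3, 7, 8, 12, 5, 3, 4, 2, 3, 5, 7, 12, 8, 9, 12, 5, 4, 7, 3, 2, 3, 8, 6, 9, 4, 5, 12, 6, 4, 5, 12, 8, 6, 4]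

/-- part of a witness -/
def walkTailSt3p2 : List ℕ := [5, 3, 7, 2, 3, 4, 2, 3, 2, 7, 3, 5, 4, 6, 8, 12, 5, 4, 6, 12, 5, 6, 12, 9, 6, 12, 5, 12, 8, 3, 7, 8, 12, 5, 3, 4, 2, 3, 5, 7, 12, 8, 9, 12, 5, 4, 7, 3, 2, 3, 8, 6, 9, 12, 7, 4, 8, 12, 7, 4, 5, 12, 6, 4, 5, 12, 8, 6, 4, 5, 3, 7, 2, 3, 4, 2, 3, 2, 7, 3, 5, 4, 6, 8, 12, 5, 4, 6, 12, 5, 6, 12, 9, 6, 12, 5, 12, 8, 3, 7]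

/-- part of a witness -/
def walkTailSt3p3 : List ℕ := [8, 12, 5, 3, 4, 2, 3, 5, 7, 12, 8, 9, 12, 5, 4, 7, 3, 2, 3, 8, 6, 9, 6, 3, 7, 2, 3, 4, 2, 3, 2, 7, 3, 7, 4, 5, 12, 6, 4, 5, 12, 8, 6, 4, 5, 3, 7, 2, 3, 4, 2, 3, 2, 7, 3, 5, 4, 6, 8, 12, 5, 4, 6, 12, 5, 6, 12, 9, 6, 12, 5, 12, 8, 3, 7, 8, 12, 5, 3, 4, 2, 3, 5, 7, 12, 8, 9, 12, 5, 4, 7, 3, 2, 3, 8, 5, 6, 2, 9, 4]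

/-- part of a witness -/
def walkTailSt3p4 : List ℕ := [3, 6, 5, 3, 12, 7, 8, 7, 5, 4, 9, 6, 5, 3, 7, 2, 3, 4, 2, 3, 2, 7, 3, 6, 5, 4, 6, 5, 12, 5, 4, 6, 5, 3, 8, 4, 2, 3, 7, 8, 3, 4, 2, 3, 5, 6, 4, 5, 12, 5, 6, 4, 5, 10]

/-- part of a witness -/
def walkTailSt4p0 : List ℕ := [2, 4, 5, 12, 6, 4, 5, 12, 8, 6, 4, 5, 3, 7, 2, 3, 4, 2, 3, 2, 7, 3, 5, 4, 6, 8, 12, 5, 4, 6, 12, 5, 6, 12, 9, 6, 12, 5, 12, 8, 3, 7, 8, 12, 5, 3, 4, 2, 3, 5, 7, 12, 8, 9, 12, 5, 4, 7, 3, 2, 3, 8, 6, 9, 4, 5, 12, 6, 4, 5, 12, 8, 6, 4, 5, 3, 7, 2, 3, 4, 2, 3, 2, 7, 3, 5, 4, 6, 8, 12, 5, 4, 6, 12, 5, 6, 12, 9, 6, 12]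

/-- part of a witness -/
def walkTailSt4p1 : List ℕ := [5, 12, 8, 3, 7, 8, 12, 5, 3, 4, 2, 3, 5, 7, 12, 8, 9, 12, 5, 4, 7, 3, 2, 3, 8, 6, 9, 12, 7, 4, 8, 12, 7, 4, 5, 12, 6, 4, 5, 12, 8, 6, 4, 5, 3, 7, 2, 3, 4, 2, 3, 2, 7, 3, 5, 4, 6, 8, 12, 5, 4, 6, 12, 5, 6, 12, 9, 6, 12, 5, 12, 8, 3, 7, 8, 12, 5, 3, 4, 2, 3, 5, 7, 12, 8, 9, 12, 5, 4, 7, 3, 2, 3, 8, 6, 9, 4, 5, 12, 6]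

/-- part of a witness -/
def walkTailSt4p2 : List ℕ := [4, 5, 12, 8, 6, 4, 5, 3, 7, 2, 3, 4, 2, 3, 2, 7, 3, 5, 4, 6, 8, 12, 5, 4, 6, 12, 5, 6, 12, 9, 6, 12, 5, 12, 8, 3, 7, 8, 12, 5, 3, 4, 2, 3, 5, 7, 12, 8, 9, 12, 5, 4, 7, 3, 2, 3, 8, 6, 9, 6, 5, 4, 6, 5, 12, 5, 4, 6, 5, 3, 8, 4, 2, 3, 7, 8, 3, 4, 2, 3, 5, 6, 4, 5, 12, 5, 6, 4, 5, 12, 8, 2, 5, 3, 12, 6, 2, 5, 4, 3]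

/-- part of a witness -/
def walkTailSt4p3 : List ℕ := [7, 3, 2, 4, 3, 5, 12, 6, 5, 8, 12, 4, 5, 12, 6, 4, 5, 12, 8, 6, 4, 5, 3, 7, 2, 3, 4, 2, 3, 2, 7, 3, 5, 4, 6, 8, 12, 5, 4, 6, 12, 5, 6, 12, 9, 6, 12, 5, 12, 8, 3, 7, 8, 12, 5, 3, 4, 2, 3, 5, 7, 12, 8, 9, 12, 5, 4, 7, 3, 2, 3, 8, 6, 9, 12, 8, 2, 5, 3, 12, 6, 2, 5, 4, 3, 7, 3, 2, 4, 3, 5, 12, 6, 5, 8, 12, 7, 6, 5, 4]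

/-- part of a witness -/
def walkTailSt4p4 : List ℕ := [6, 5, 12, 5, 4, 6, 5, 3, 8, 4, 2, 3, 7, 8, 3, 4, 2, 3, 5, 6, 4, 5, 12, 5, 6, 4, 5, 4, 5, 12, 6, 4, 5, 12, 8, 6, 4, 5, 3, 7, 2, 3, 4, 2, 3, 2, 7, 3, 5, 4, 6, 8, 12, 5, 4, 6, 12, 5, 6, 12, 9, 6, 12, 5, 12, 8, 3, 7, 8, 12, 5, 3, 4, 2, 3, 5, 7, 12, 8, 9, 12, 5, 4, 7, 3, 2, 3, 8, 6, 9, 3, 7, 2, 3, 4, 2, 3, 2, 7, 3]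

/-- part of a witness -/
def walkTailSt4p5 : List ℕ := [9, 6, 5, 6, 2, 9, 4, 3, 6, 5, 3, 12, 7, 8, 7, 5, 4, 9, 6, 5, 3, 7, 2, 3, 4, 2, 3, 2, 7, 3, 6, 5, 4, 6, 5, 12, 5, 4, 6, 5, 3, 8, 4, 2, 3, 7, 8, 3, 4, 2, 3, 5, 6, 4, 5, 12, 5, 6, 4, 5, 10]

/-- part of a witness -/
def walkTailSt5p0 : List ℕ := [1, 7, 4, 8, 3, 7, 8, 4, 5, 4, 6, 3, 4, 7, 6, 9, 2, 3, 4, 1, 2, 9, 7, 3, 4, 7, 2, 1, 8, 1, 7, 5, 4, 3, 2, 1, 3, 7, 4, 3, 2, 3, 6, 5, 2, 3, 4, 7, 3, 1, 2, 3, 7, 4, 1, 3, 2, 7, 4, 3, 4, 7, 5, 6, 4, 5, 6, 3, 4, 3, 5, 9, 2, 3, 7, 8, 2, 1, 3, 6, 7, 4, 2, 3, 8, 7, 8, 4, 3, 2, 1, 3, 2, 6, 5, 4, 9, 3, 6, 5]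

/-- part of a witness -/
def walkTailSt5p1 : List ℕ := [4, 9, 2, 3, 5, 7, 1, 9, 8, 3, 4, 7, 3, 2, 6, 1, 3, 2, 8, 7, 8, 4, 3, 2, 7, 2, 3, 4, 5, 1, 8, 2, 3, 4]

/-- part of a witness -/
def walkTailSt6p0 : List ℕ := [2, 4, 5, 12, 6, 4, 5, 12, 8, 6, 4, 5, 3, 7, 2, 3, 4, 2, 3, 2, 7, 3, 5, 4, 6, 8, 12, 5, 4, 6, 12, 5, 6, 12, 9, 6, 12, 5, 12, 8, 3, 7, 8, 12, 5, 3, 4, 2, 3, 5, 7, 12, 8, 9, 12, 5, 4, 7, 3, 2, 3, 8, 6, 9, 12, 7, 4, 8, 12, 7, 4, 5, 12, 6, 4, 5, 12, 8, 6, 4, 5, 3, 7, 2, 3, 4, 2, 3, 2, 7, 3, 5, 4, 6, 8, 12, 5, 4, 6, 12]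

/-- part of a witness -/
def walkTailSt6p1 : List ℕ := [5, 6, 12, 9, 6, 12, 5, 12, 8, 3, 7, 8, 12, 5, 3, 4, 2, 3, 5, 7, 12, 8, 9, 12, 5, 4, 7, 3, 2, 3, 8, 6, 9, 4, 5, 12, 6, 4, 5, 12, 8, 6, 4, 5, 3, 7, 2, 3, 4, 2, 3, 2, 7, 3, 5, 4, 6, 8, 12, 5, 4, 6, 12, 5, 6, 12, 9, 6, 12, 5, 12, 8, 3, 7, 8, 12, 5, 3, 4, 2, 3, 5, 7, 12, 8, 9, 12, 5, 4, 7, 3, 2, 3, 8, 6, 9, 12, 8, 2, 5]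

/-- part of a witness -/
def walkTailSt6p2 : List ℕ := [3, 12, 6, 2, 5, 4, 3, 7, 3, 2, 4, 3, 5, 12, 6, 5, 8, 12, 4, 5, 12, 6, 4, 5, 12, 8, 6, 4, 5, 3, 7, 2, 3, 4, 2, 3, 2, 7, 3, 5, 4, 6, 8, 12, 5, 4, 6, 12, 5, 6, 12, 9, 6, 12, 5, 12, 8, 3, 7, 8, 12, 5, 3, 4, 2, 3, 5, 7, 12, 8, 9, 12, 5, 4, 7, 3, 2, 3, 8, 6, 9, 4, 5, 12, 6, 4, 5, 12, 8, 6, 4, 5, 3, 7, 2, 3, 4, 2, 3, 2]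

/-- part of a witness -/
def walkTailSt6p3 : List ℕ := [7, 3, 5, 4, 6, 8, 12, 5, 4, 6, 12, 5, 6, 12, 9, 6, 12, 5, 12, 8, 3, 7, 8, 12, 5, 3, 4, 2, 3, 5, 7, 12, 8, 9, 12, 5, 4, 7, 3, 2, 3, 8, 6, 9, 3, 7, 2, 3, 4, 2, 3, 2, 7, 3, 4, 5, 12, 6, 4, 5, 12, 8, 6, 4, 5, 3, 7, 2, 3, 4, 2, 3, 2, 7, 3, 5, 4, 6, 8, 12, 5, 4, 6, 12, 5, 6, 12, 9, 6, 12, 5, 12, 8, 3, 7, 8, 12, 5, 3, 4]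

/-- part of a witness -/
def walkTailSt6p4 : List ℕ := [2, 3, 5, 7, 12, 8, 9, 12, 5, 4, 7, 3, 2, 3, 8, 6, 9, 3, 7, 2, 3, 4, 2, 3, 2, 7, 3, 9, 6, 5, 6, 2, 9, 4, 3, 6, 5, 3, 12, 7, 8, 7, 5, 4, 9, 6, 5, 3, 7, 2, 3, 4, 2, 3, 2, 7, 3, 4, 5, 12, 6, 4, 5, 12, 8, 6, 4, 5, 3, 7, 2, 3, 4, 2, 3, 2, 7, 3, 5, 4, 6, 8, 12, 5, 4, 6, 12, 5, 6, 12, 9, 6, 12, 5, 12, 8, 3, 7, 8, 12]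

/-- part of a witness -/
def walkTailSt6p5 : List ℕ := [5, 3, 4, 2, 3, 5, 7, 12, 8, 9, 12, 5, 4, 7, 3, 2, 3, 8, 6, 9, 12, 8, 2, 5, 3, 12, 6, 2, 5, 4, 3, 7, 3, 2, 4, 3, 5, 12, 6, 5, 8, 12, 9, 6, 5, 6, 2, 9, 4, 3, 6, 5, 3, 12, 7, 8, 7, 5, 4, 9, 6, 12, 8, 7, 5, 12, 3, 4, 2, 9, 6, 7, 9, 3, 7, 4, 2, 3, 5, 6, 12, 8, 7, 5, 3, 7, 2, 3, 4, 2, 3, 2, 7, 3, 4, 5, 12, 6, 4, 5]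

/-- part of a witness -/
def walkTailSt6p6 : List ℕ := [12, 8, 6, 4, 5, 3, 7, 2, 3, 4, 2, 3, 2, 7, 3, 5, 4, 6, 8, 12, 5, 4, 6, 12, 5, 6, 12, 9, 6, 12, 5, 12, 8, 3, 7, 8, 12, 5, 3, 4, 2, 3, 5, 7, 12, 8, 9, 12, 5, 4, 7, 3, 2, 3, 8, 6, 9, 12, 7, 4, 8, 12, 7, 3, 2, 4, 5, 6, 9, 12, 5, 4, 6, 5, 12, 8, 10]

/-- part of a witness -/
def walkTailSt7p0 : List ℕ := [8, 1, 9, 3, 2, 3, 4, 1, 2, 9, 7, 3, 4, 7, 2, 1, 8, 3, 2, 7, 4, 3, 7, 8, 4, 2, 3, 2, 7, 1, 5, 4, 3, 2, 1, 3, 7, 4, 3, 2, 4, 8, 7, 3, 8, 3, 7, 8, 4, 5, 7, 2, 3, 4, 7, 3, 1, 2, 3, 4, 5, 7, 1, 3, 2, 7, 8, 3, 7, 2, 8, 3, 7, 1, 8, 2, 3, 7]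

/-- part of a witness -/
def walkTailSt8p0 : List ℕ := [8, 9, 7, 4, 8, 3, 7, 8, 4, 5, 4, 6, 3, 4, 7, 6, 9, 2, 3, 4, 1, 2, 9, 7, 3, 4, 7, 2, 1, 8, 1, 7, 5, 4, 3, 2, 1, 3, 7, 4, 3, 2, 5, 2, 7, 3, 7, 1, 2, 6, 3, 4, 5, 4, 3, 2, 1, 7, 3, 7, 2, 6, 4, 5, 6, 9, 1, 2, 6, 3, 4, 5, 2, 3, 4, 7, 3, 1, 2, 1, 7, 5, 3, 2, 4, 7, 3, 2, 5, 4, 9, 3, 6, 5, 4, 9, 6, 2, 3, 1]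

/-- part of a witness -/
def walkTailSt8p1 : List ℕ := [5, 4, 7, 6, 3, 2, 1, 3, 7, 4, 3, 2, 9, 2, 3, 4, 1, 2, 9, 7, 3, 4, 7, 2, 1, 8, 3, 2, 6, 5, 9, 6, 9, 4, 3, 5, 7, 2, 1, 3, 2, 4, 6, 8, 2, 3, 4, 7, 2, 5, 3, 8, 6, 4, 3, 2, 8, 1, 7, 3, 8, 2, 7, 3, 5, 4, 6, 5, 6, 3, 4, 2, 3, 4, 7, 3, 1, 2, 3, 4, 5, 7, 1, 3, 2, 4, 2, 3, 6, 7, 4, 5, 2, 8, 3, 7, 1, 8]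

/-- part of a witness -/
def walkTailSt9p0 : List ℕ := [8, 1, 5, 3, 7, 3, 4, 5, 3, 7, 2, 3, 4, 7, 3, 1, 2, 3, 7, 4, 1, 3, 2, 7, 3, 5, 4, 3, 7, 4, 5, 2, 6, 3, 4, 5, 2, 3, 4, 7, 3, 1, 2, 1, 7, 5, 3, 2, 4, 7, 3, 2, 5, 7, 3, 6, 4, 5, 3, 4, 5, 2, 3, 4, 7, 3, 1, 2, 3, 7, 4, 1, 3, 2, 6, 5, 6, 7, 4, 3, 7, 8, 4, 2, 3, 4, 7, 3, 1, 2, 3, 6, 7, 4, 5, 1, 3, 2, 4, 7]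

/-- part of a witness -/
def walkTailSt9p1 : List ℕ := [5, 6, 2, 6, 3, 4, 7, 8, 2, 3, 5, 4, 3, 2, 3, 4, 2, 8, 5, 6, 7, 8, 9, 2, 3, 5, 7, 9, 4, 3, 8, 2]

/-- witnesses with stabiliser tokens -/
def walkTailX : List Fi24Pres.Wit := [
  ⟨0, [walkTailSt0p0].flatten, 0, []⟩,
  ⟨4, [walkTailSt1p0].flatten, 0, [1, 2, 3, 4, 7, 3]⟩,
  ⟨6, [walkTailSt2p0, walkTailSt2p1, walkTailSt2p2, walkTailSt2p3, walkTailSt2p4].flatten, 0, [2, 1, 3, 4, 5, 7, 3, 4, 8]⟩,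
  ⟨6, [walkTailSt3p0, walkTailSt3p1, walkTailSt3p2, walkTailSt3p3, walkTailSt3p4].flatten, 0, [2, 3, 4, 5, 6, 7, 3, 2, 4, 3, 5, 4, 7, 3]⟩,
  ⟨5, [walkTailSt4p0, walkTailSt4p1, walkTailSt4p2, walkTailSt4p3, walkTailSt4p4, walkTailSt4p5].flatten, 0, [1, 2, 3, 4, 5, 6, 7, 3, 2, 1, 4, 3, 5, 4, 7, 8, 7, 3, 9, 6, 5, 4]⟩,
  ⟨4, [walkTailSt5p0, walkTailSt5p1].flatten, 0, [1, 2, 3, 4, 5, 6, 7, 3, 2, 1, 4, 3, 2, 5, 4, 7, 8, 7, 3, 2, 4, 3, 7, 9, 6, 5, 4, 3, 7]⟩,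
  ⟨5, [walkTailSt6p0, walkTailSt6p1, walkTailSt6p2, walkTailSt6p3, walkTailSt6p4, walkTailSt6p5, walkTailSt6p6].flatten, 0, [1, 2, 3, 4, 5, 6, 7, 3, 2, 1, 4, 3, 5, 8, 7, 3, 2, 1, 4, 3, 2, 5, 4, 7, 3, 2, 4, 9, 6, 5, 4, 3, 2]⟩,
  ⟨7, [walkTailSt7p0].flatten, 0, [3, 2, 1, 4, 6, 5, 4, 3, 2, 7, 3, 2, 1, 4, 3, 2, 5, 4, 3, 8, 9, 6, 5, 4, 3, 2, 1, 7, 3, 4]⟩,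
  ⟨7, [walkTailSt8p0, walkTailSt8p1].flatten, 0, [3, 2, 4, 3, 6, 5, 4, 3, 2, 7, 3, 2, 1, 4, 3, 2, 5, 4, 6, 7, 3, 8, 7, 3, 9, 6, 5, 4, 3, 2, 7, 8]⟩,
  ⟨7, [walkTailSt9p0, walkTailSt9p1].flatten, 0, [3, 2, 4, 6, 5, 4, 3, 2, 1, 7, 3, 2, 1, 4, 3, 2, 5, 6, 7, 8, 7, 3, 4, 9, 6, 5, 4, 3, 2, 1, 7, 3]⟩]

/-- the part of the third stabiliser element in the letters one to nine -/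
def tauU : List ℕ := [8, 1, 9, 7, 4, 8, 3, 7, 8, 4, 5, 4, 6, 3, 4, 7, 6, 9, 2, 3, 4, 1, 2, 9, 7, 3, 4, 7, 2, 1, 8, 1, 7, 5, 4, 3, 2, 1, 3, 7, 4, 3, 2, 5, 2, 3, 4, 1, 2, 9, 7, 3, 4, 7, 2, 1, 8, 3, 2, 7, 4, 3, 7, 8, 4, 2, 3, 2, 7, 1, 5, 4, 3, 2, 1, 3, 7, 4, 3, 2, 4, 8, 7, 3, 4, 7, 6, 5, 9, 2, 3, 4, 1, 2, 9, 7, 3, 4, 7, 2] ++
  [1, 8, 3, 2, 5, 6, 4, 5, 2, 6, 3, 4, 5, 2, 3, 4, 7, 3, 1, 2, 1, 7, 5, 3, 2, 4, 7, 3, 2, 5, 7, 3, 6, 4, 5, 3, 4, 6, 2, 3, 4, 7, 3, 1, 2, 3, 4, 5, 7, 1, 3, 2, 7, 8, 3, 2, 4, 7, 3, 8, 1, 2, 1, 7, 4, 3, 2, 4, 7, 6, 3, 1, 2, 8, 2, 7, 3, 7, 1, 2, 3, 4]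

/-- a word moving the point of `b` to a member of the perp of the pair -/
def tauV : List ℕ := [0, 1, 2, 3, 4, 5, 6, 9, 7, 8, 3, 7, 4, 5, 2, 3, 4, 1, 2, 3, 7, 8, 5, 3, 4, 1, 2, 3, 7, 6, 5, 4, 3, 2, 0]

end CfsgLib.M24
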