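import Cfsg.Agent.Lib.M24.Rel
import Cfsg.Agent.Lib.M24.DataWalkX

/-!
The long relator follows exactly from the diagram relations, the relation for `l`, and the commuting of the
third stabiliser element with `k`.
-/

set_option autoImplicit false

namespace CfsgLib.M24

open CfsgLib.CosetEnum CfsgLib.Fi24Pres Fi23Mult Cfsg.Spor

/-- a token on the right of the third state -/
def tokR (k : ℕ) : List ℕ := if k = 12 then rootSeven else [k]

/-- the token moved to the left -/
def tokL (k : ℕ) : List ℕ := if k = 12 then rootX else if k = 10 then [0] else [k]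

/-- the tokens allowed -/
def tokOK (k : ℕ) : Bool := (Nat.ble 2 k && Nat.blt k 11) || Nat.beq k 12

/-- an edge with its left factor -/
structure XFact where
  /-- the edge -/
  f : Fact
  /-- the left factor -/
  eta : List ℕ

/-- an edge holds exactly -/
def XFact.Holds {Γ : Type*} [Group Γ] (f : ℕ → Γ) (x : XFact) : Prop :=
  (∀ g ∈ x.eta, g < 11) ∧
    prodW f (stW x.f.s ++ x.f.rho ++ [11]) = prodW f (x.eta ++ stW x.f.t ++ x.f.sigma)

/-- the stabiliser part on the right -/
def xRight (s : ℕ) (st : List ℕ) : List ℕ := if s = 2 then (st.map tokR).flatten else st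

/-- the stabiliser part on the left -/
def xLeft (s : ℕ) (st : List ℕ) : List ℕ := if s = 2 then (st.map tokL).flatten else st

/-- the check of a stabiliser part -/
noncomputable def xStabOK (s : ℕ) (st : List ℕ) : Bool :=
  if s = 0 then ltAll 11 st else if s = 1 then rightOK st else if s = 2 then st.all tokOK else false

/-- follow a word, keeping the left factor -/
noncomputable def xWalk (fs : List XFact) :
    List ℕ → List ℕ → ℕ → List ℕ → List Wit → Option (List ℕ × ℕ × List ℕ)
  | [], L, s, h, _ => some (L, s, h)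
  | g :: Q, L, s, h, ws =>
    if Nat.blt g 11 then xWalk fs Q L s (h ++ [g]) ws
    else if Nat.beq g 11 then
      match ws with
      | [] => none
      | w :: ws =>
        match fs[w.id]? with
        | none => none
        | some x =>
          if Nat.beq x.f.s s && xStabOK s w.st && rightOK w.u && ltAll 11 x.f.rho && ltAll 11 x.f.sigma &&
              eqK h (xRight s w.st ++ (x.f.rho ++ w.u)) then
            xWalk fs Q (L ++ (xLeft s w.st ++ x.eta)) x.f.t (x.f.sigma ++ w.u) ws
          else none
    else none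

section

variable {Γ : Type*} [Group Γ] {f : ℕ → Γ} (hf : Rel24 f)
include hf

theorem right_comm {w : List ℕ} (h : rightOK w = true) : Commute (f 11) (prodW f w) := by
  refine Fi24Spider.commute_word fun g hg => ?_
  simp only [rightOK, List.all_eq_true, Bool.and_eq_true, Bool.not_eq_true', Nat.blt_eq] at h
  obtain ⟨h10, h0⟩ := h g hg
  have hadj : ∀ g < 10, Nat.beq g 0 = false → adjB 11 g = false := by decide +kernel
  exact hf.cox.comm 11 (by norm_num) g (by omega) (hadj g h10 h0)

theorem tok_move {k : ℕ} (hk : tokOK k = true) :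
    prodW f (stW 2 ++ tokR k) = prodW f (tokL k ++ stW 2) := by
  simp only [tokOK, Bool.or_eq_true, Bool.and_eq_true, Nat.ble_eq, Nat.blt_eq] at hk
  rcases hk with ⟨h2, h11⟩ | h
  · have h12 : k ≠ 12 := by omega
    rcases eq_or_ne k 10 with rfl | h10
    · rw [tokR, if_neg h12, tokL, if_neg h12, if_pos rfl]
      have h := reduces_prod hf.cox ten_red
      rwa [prodW_append, hf.toCox24.prodW_rev, mul_inv_eq_one] at h
    · rw [tokR, if_neg h12, tokL, if_neg h12, if_neg h10, prodW_append, prodW_append]
      have hadj : ∀ g < 10, 2 ≤ g → ∀ x ∈ stW 2, adjB g x = false ∧ x < 12 := by decide +kernel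
      have hc : Commute (f k) (prodW f (stW 2)) := Fi24Spider.commute_word fun x hx =>
        hf.cox.comm k (by omega) x (hadj k (by omega) h2 x hx).2 (hadj k (by omega) h2 x hx).1
      simpa [prodW_cons] using hc.eq.symm
  · obtain rfl := Nat.eq_of_beq_eq_true h
    rw [tokR, if_pos rfl, tokL, if_pos rfl]
    have h := reduces_prod hf.cox r7_red
    simp only [prodW_append, prodW_cons, prodW_nil, mul_one, hf.toCox24.prodW_rev, ← hf.ten_root.2] at h
    rw [mul_inv_eq_one] at h
    rw [prodW_append, prodW_append, show prodW f (stW 2) = f 11 * f 10 * (f 0 * f 11) by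
      simp [stW, prodW_cons, mul_assoc], ← h]
    simp [mul_assoc]

theorem toks_move : ∀ {l : List ℕ}, (l.all tokOK) = true →
    prodW f (stW 2 ++ (l.map tokR).flatten) = prodW f ((l.map tokL).flatten ++ stW 2)
  | [], _ => by simp
  | k :: l, h => by
    rw [List.all_cons, Bool.and_eq_true] at h
    have h1 := tok_move hf h.1
    have h2 := toks_move h.2
    simp only [List.map_cons, List.flatten_cons, prodW_append] at h1 h2 ⊢
    rw [← mul_assoc, h1, mul_assoc, h2, mul_assoc]

theorem stab_move {s : ℕ} {st : List ℕ} (h : xStabOK s st = true) :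
    (∀ g ∈ xRight s st, g < 11) ∧ (∀ g ∈ xLeft s st, g < 11) ∧
      prodW f (stW s ++ xRight s st) = prodW f (xLeft s st ++ stW s) := by
  match s, h with
  | 0, h =>
    simp only [xStabOK, if_true] at h
    have h2 := ltAll_iff.mp h
    refine ⟨by simpa [xRight] using h2, by simpa [xLeft] using h2, ?_⟩
    simp [xRight, xLeft, stW]
  | 1, h =>
    simp only [xStabOK, if_true, Nat.one_ne_zero, if_false] at h
    have h2 : ∀ g ∈ st, g < 11 := fun g hg => by
      simp only [rightOK, List.all_eq_true, Bool.and_eq_true, Nat.blt_eq] at h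
      have := (h g hg).1; omega
    refine ⟨by simpa [xRight] using h2, by simpa [xLeft] using h2, ?_⟩
    simp only [xRight, xLeft, show ¬ (1 : ℕ) = 2 by norm_num, if_false]
    rw [prodW_append, prodW_append, show prodW f (stW 1) = f 11 by simp [stW, prodW_cons]]
    exact (right_comm hf h).eq
  | 2, h =>
    simp only [xStabOK, if_true, show ¬ (2 : ℕ) = 0 by norm_num, show ¬ (2 : ℕ) = 1 by norm_num,
      if_false] at h
    refine ⟨fun g hg => ?_, fun g hg => ?_, by simpa [xRight, xLeft] using toks_move hf h⟩
    · simp only [xRight, if_true, List.mem_flatten, List.mem_map] at hg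
      obtain ⟨_, ⟨k, hk, rfl⟩, hg⟩ := hg
      have hk' := List.all_eq_true.mp h k hk
      have : ∀ k < 13, tokOK k = true → ∀ g ∈ tokR k, g < 11 := by decide +kernel
      exact this k (by simp only [tokOK, Bool.or_eq_true, Bool.and_eq_true, Nat.blt_eq] at hk'; rcases hk' with ⟨-, h⟩ | h
                       · omega
                       · have := Nat.eq_of_beq_eq_true h; omega) hk' g hg
    · simp only [xLeft, if_true, List.mem_flatten, List.mem_map] at hg
      obtain ⟨_, ⟨k, hk, rfl⟩, hg⟩ := hg
      have hk' := List.all_eq_true.mp h k hk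
      have : ∀ k < 13, tokOK k = true → ∀ g ∈ tokL k, g < 11 := by decide +kernel
      exact this k (by simp only [tokOK, Bool.or_eq_true, Bool.and_eq_true, Nat.blt_eq] at hk'; rcases hk' with ⟨-, h⟩ | h
                       · omega
                       · have := Nat.eq_of_beq_eq_true h; omega) hk' g hg
  | n + 3, h => simp [xStabOK] at h

theorem xWalk_spec {fs : List XFact} (hfs : ∀ x ∈ fs, x.Holds f) :
    ∀ {Q L : List ℕ} {s : ℕ} {h : List ℕ} {ws : List Wit} {L' : List ℕ} {t : ℕ} {h' : List ℕ},
      (∀ g ∈ L, g < 11) → (∀ g ∈ h, g < 11) → xWalk fs Q L s h ws = some (L', t, h') →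
      (∀ g ∈ L', g < 11) ∧ (∀ g ∈ h', g < 11) ∧
        prodW f (L ++ stW s ++ h ++ Q) = prodW f (L' ++ stW t ++ h')
  | [], L, s, h, ws, L', t, h', hL, hh, e => by
    simp only [xWalk, Option.some.injEq, Prod.mk.injEq] at e
    obtain ⟨rfl, rfl, rfl⟩ := e
    exact ⟨hL, hh, by rw [List.append_nil]⟩
  | g :: Q, L, s, h, ws, L', t, h', hL, hh, e => by
    rw [xWalk.eq_def] at e
    dsimp only at e
    split at e
    · rename_i hg
      rw [Nat.blt_eq] at hg
      obtain ⟨a, b, c⟩ := xWalk_spec hfs hL (fun x hx => (List.mem_append.mp hx).elim (hh x)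
        (fun hx => by rw [List.mem_singleton] at hx; omega)) e
      exact ⟨a, b, by simpa [List.append_assoc] using c⟩
    · split at e
      · rename_i hg
        obtain rfl := Nat.eq_of_beq_eq_true hg
        cases ws with
        | nil => simp at e
        | cons w ws =>
          dsimp only at e
          cases hx : fs[w.id]? with
          | none => simp [hx] at e
          | some x =>
            simp only [hx] at e
            split at e
            · rename_i hc
              simp only [Bool.and_eq_true] at hc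
              obtain ⟨⟨⟨⟨⟨hs, hst⟩, hu⟩, hr⟩, hsg⟩, heq⟩ := hc
              obtain rfl := Nat.eq_of_beq_eq_true hs
              obtain ⟨hR, hLf, hmove⟩ := stab_move hf hst
              obtain ⟨heta, hfact⟩ := hfs x (List.mem_of_getElem? hx)
              have hu' : ∀ g ∈ w.u, g < 11 := fun g hg => by
                simp only [rightOK, List.all_eq_true, Bool.and_eq_true, Nat.blt_eq] at hu
                have := (hu g hg).1; omega
              have hr' := ltAll_iff.mp hr
              have hsg' := ltAll_iff.mp hsg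
              obtain ⟨a, b, c⟩ := xWalk_spec hfs
                (by simp only [List.forall_mem_append]; exact ⟨hL, hLf, heta⟩)
                (by simp only [List.forall_mem_append]; exact ⟨hsg', hu'⟩) e
              refine ⟨a, b, Eq.trans ?_ c⟩
              have heq' := hf.eq_of_eqK hh
                (by simp only [List.forall_mem_append]; exact ⟨hR, hr', hu'⟩) heq
              have hc11 := (right_comm hf hu).eq
              simp only [prodW_append, prodW_cons, prodW_nil, mul_one] at heq' hfact hmove ⊢
              calc prodW f L * prodW f (stW x.f.s) * prodW f h * (f 11 * prodW f Q)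
                  = prodW f L * (prodW f (stW x.f.s) * prodW f (xRight x.f.s w.st)) *
                      (prodW f x.f.rho * (prodW f w.u * f 11) * prodW f Q) := by
                    rw [heq']; simp only [mul_assoc]
                _ = prodW f L * prodW f (xLeft x.f.s w.st) *
                      (prodW f (stW x.f.s) * prodW f x.f.rho * f 11) * prodW f w.u * prodW f Q := by
                    rw [hmove, ← hc11]; simp only [mul_assoc]
                _ = _ := by rw [hfact]; simp only [mul_assoc]
            · simp at e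
      · simp at e

end

/-- the basic edges -/
def xBase : List XFact := (List.range baseFacts.length).map fun i =>
  ⟨baseFacts.getD i ⟨0, [], 0, []⟩, etas.getD i []⟩

theorem xBase_holds {Γ : Type*} [Group Γ] {f : ℕ → Γ} (hf : Rel24 f) : ∀ x ∈ xBase, x.Holds f := by
  intro x hx
  obtain ⟨i, hi, rfl⟩ := List.mem_map.mp hx
  rw [List.mem_range] at hi
  have h := base_checked
  simp only [List.all_eq_true, List.mem_range] at h
  have h1 := h i hi
  rw [baseOK, List.getElem?_eq_getElem hi] at h1
  dsimp only at h1
  simp only [Bool.and_eq_true] at h1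
  have h2 := reduces_prod hf.cox h1.2
  rw [prodW_append, hf.toCox24.prodW_rev, mul_inv_eq_one] at h2
  refine ⟨ltAll_iff.mp h1.1, ?_⟩
  show prodW f (stW _ ++ _ ++ [11]) = prodW f (etas.getD i [] ++ stW _ ++ _)
  rw [List.getD_eq_getElem _ _ hi, List.append_assoc (etas.getD i [])]
  exact h2

/-- the end of a walk -/
noncomputable def xEnd (fs : List XFact) (Q : List ℕ) (s : ℕ) (h : List ℕ) (ws : List Wit) :
    List ℕ × ℕ × List ℕ :=
  (xWalk fs Q [] s h ws).getD ([], 3, [])

/-- the derived edge -/
noncomputable def xFact7 : XFact := ⟨fact7, (xEnd xBase [0, 11, 0, 11, 0] 1 rho5 walk7X).1⟩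

/-- all the edges -/
noncomputable def xFacts : List XFact := xBase ++ [xFact7]

/-- the check of the walks and of the final word -/
noncomputable def zOK : Bool :=
  let e7 := xEnd xBase [0, 11, 0, 11, 0] 1 rho5 walk7X
  let a := xEnd xFacts zHead 0 [] walkHeadX
  let b := xEnd xFacts zTail 0 [] walkTailX
  Nat.beq e7.2.1 1 && (e7.2.2 == sigma7) && Nat.beq a.2.1 1 && Nat.beq b.2.1 1 &&
    (a.2.2 ++ b.2.2.reverse == tauW) && eqK (a.1 ++ tauW ++ b.1.reverse) []

theorem z_ok : zOK = true := by decide +kernel

theorem xEnd_spec {Γ : Type*} [Group Γ] {f : ℕ → Γ} (hf : Rel24 f) {fs : List XFact}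
    (hfs : ∀ x ∈ fs, x.Holds f) {Q : List ℕ} {s : ℕ} {h : List ℕ} {ws : List Wit} (hh : ∀ g ∈ h, g < 11)
    (hne : Nat.beq (xEnd fs Q s h ws).2.1 1 = true) :
    (∀ g ∈ (xEnd fs Q s h ws).1, g < 11) ∧ (∀ g ∈ (xEnd fs Q s h ws).2.2, g < 11) ∧
      prodW f (stW s ++ h ++ Q) =
        prodW f ((xEnd fs Q s h ws).1 ++ stW 1 ++ (xEnd fs Q s h ws).2.2) := by
  cases e : xWalk fs Q [] s h ws with
  | none =>
    rw [xEnd, e] at hne
    simp at hne
  | some r =>
    obtain ⟨L', t, h'⟩ := r
    rw [xEnd, e] at hne ⊢
    simp only [Option.getD_some] at hne ⊢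
    obtain rfl := Nat.eq_of_beq_eq_true hne
    obtain ⟨a, b, c⟩ := xWalk_spec hf hfs (L := []) (by simp) hh e
    exact ⟨a, b, by simpa using c⟩

/-- The long relator holds as soon as the third stabiliser element commutes with `k`. -/
theorem z_rel {Γ : Type*} [Group Γ] {f : ℕ → Γ} (hf : Rel24 f) (htau : Commute (f 11) (prodW f tauW)) :
    prodW f zWord24 = 1 := by
  have h := z_ok
  simp only [zOK, Bool.and_eq_true, beq_iff_eq] at h
  obtain ⟨⟨⟨⟨⟨h7, h7'⟩, ha⟩, hb⟩, hab⟩, hK⟩ := h
  have hrho : ∀ g ∈ rho5, g < 11 := by decide +kernel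
  obtain ⟨l7, -, e7⟩ := xEnd_spec hf (xBase_holds hf) hrho h7
  rw [h7'] at e7
  have hk : prodW f [0, 11, 0, 11, 0] = f 11 := by
    have hbr := hf.cox.braid 11 (by norm_num) 0 (by norm_num) rfl
    simp only [prodW_cons, prodW_nil, mul_one]
    calc f 0 * (f 11 * (f 0 * (f 11 * f 0))) = f 0 * ((f 11 * f 0 * f 11) * f 0) := by
          simp only [mul_assoc]
      _ = f 0 * ((f 0 * f 11 * f 0) * f 0) := by rw [hbr]
      _ = (f 0 * f 0) * f 11 * (f 0 * f 0) := by simp only [mul_assoc]
      _ = f 11 := by rw [hf.sq, one_mul, mul_one]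
  have hfs : ∀ x ∈ xFacts, x.Holds f := by
    intro x hx
    rcases List.mem_append.mp hx with hx | hx
    · exact xBase_holds hf x hx
    · rw [List.mem_singleton.mp hx, xFact7]
      generalize xEnd xBase [0, 11, 0, 11, 0] 1 rho5 walk7X = E7 at l7 e7 ⊢
      refine ⟨l7, ?_⟩
      show prodW f (stW 1 ++ rho5 ++ [11]) = _
      rw [show prodW f (stW 1 ++ rho5 ++ [11]) = prodW f (stW 1 ++ rho5 ++ [0, 11, 0, 11, 0]) by
        rw [prodW_append, prodW_append _ (stW 1 ++ rho5) [0, 11, 0, 11, 0], hk, prodW_cons, prodW_nil, mul_one]]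
      exact e7
  obtain ⟨la, la', ea⟩ := xEnd_spec hf hfs (h := []) (by simp) ha
  obtain ⟨lb, lb', eb⟩ := xEnd_spec hf hfs (h := []) (by simp) hb
  have htauLt : ∀ g ∈ tauW, g < 11 := by decide +kernel
  have hK' := hf.eq_of_eqK (by
    simp only [List.forall_mem_append, List.mem_reverse]; exact ⟨⟨la, htauLt⟩, lb⟩) (by simp) hK
  have hz : zHead ++ zTail.reverse = zWord24 := eq_of_beq checkSplit
  rw [show stW 0 = [] from rfl, List.nil_append, List.nil_append] at ea eb
  rw [← hz, prodW_append, hf.toCox24.prodW_rev, ea, eb]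
  set A := (xEnd xFacts zHead 0 [] walkHeadX).1
  set B := (xEnd xFacts zTail 0 [] walkTailX).1
  set a := (xEnd xFacts zHead 0 [] walkHeadX).2.2
  set b := (xEnd xFacts zTail 0 [] walkTailX).2.2
  have hT : prodW f tauW = prodW f a * (prodW f b)⁻¹ := by rw [← hab, prodW_append, hf.toCox24.prodW_rev]
  simp only [prodW_append, hf.toCox24.prodW_rev, show stW 1 = [11] from rfl, prodW_cons, prodW_nil,
    mul_one] at hK' ⊢
  rw [mul_inv_rev, mul_inv_rev]
  calc prodW f A * f 11 * prodW f a * ((prodW f b)⁻¹ * ((f 11)⁻¹ * (prodW f B)⁻¹))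
      = prodW f A * (f 11 * prodW f tauW) * (f 11)⁻¹ * (prodW f B)⁻¹ := by
        rw [hT]; simp only [mul_assoc]
    _ = prodW f A * prodW f tauW * (prodW f B)⁻¹ := by rw [htau.eq]; group
    _ = 1 := hK'

end CfsgLib.M24
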