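import Cfsg.Agent.Lib.Fi23Pres.TransClass

/-!
The graph of commuting transpositions of the presented group Fi23, on coset numbers.
-/

set_option autoImplicit false

namespace CfsgLib.M24

open CfsgLib.CosetEnum CfsgLib.Fi23Pres Cfsg.Spor

/-- points -/
abbrev Pt : Type := Fin certA.N

/-- the transposition of a point -/
noncomputable def tp (x : Pt) : Fi23 := conjAt certA gen central x

theorem tp_smul (g : Fi23) (x : Pt) : g * tp x * g⁻¹ = tp (rho g x) :=
  setupA.conjAt_smul comm_central g x

theorem tp_inj {x y : Pt} (h : tp x = tp y) : x = y := graph.injective h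

theorem tp_mem (x : Pt) : tp x ∈ transClass := mem_transClass.mpr ⟨x, rfl⟩

theorem exists_tp {d : Fi23} (h : d ∈ transClass) : ∃ x : Pt, tp x = d := mem_transClass.mp h

theorem tp_base : tp setupA.base = central := setupA.conjAt_base central

theorem tp_word (x : Pt) : tp x = prodW gen (zAt x) := Fi23Pres.conj_eq x

theorem to_base (x : Pt) : ∃ g : Fi23, rho g x = setupA.base := by
  refine ⟨coreRep certA gen x, ?_⟩
  have h := congrArg (rho (coreRep certA gen x)) (setupA.rho_rep_inv x)
  rw [← Equiv.Perm.mul_apply, ← map_mul, mul_inv_cancel, map_one] at h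
  exact h.symm

theorem exists_move (x y : Pt) : ∃ g : Fi23, rho g x = y := by
  obtain ⟨g, hg⟩ := to_base x
  obtain ⟨h, hh⟩ := to_base y
  refine ⟨h⁻¹ * g, ?_⟩
  rw [map_mul, Equiv.Perm.mul_apply, hg, ← hh, map_inv, Equiv.Perm.inv_def, Equiv.symm_apply_apply]

/-- two points commute -/
noncomputable def comB (x y : ℕ) : Bool := certA.relB commMask x y

theorem comB_iff (x y : Pt) : comB x y = true ↔ Commute (tp x) (tp y) := by
  set c := coreRep certA gen x with hc
  rw [comB, Cert.relB, ← setupA.seenFrom_eq repWords, graph.mask]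
  have e1 : c * tp x * c⁻¹ = central := by simp [tp, conjAt, hc, mul_assoc]
  rw [show conjAt certA gen central (rho c y : ℕ) = tp (rho c y) from rfl, ← tp_smul, ← e1,
    Commute.conj_iff]

theorem comB_smul (g : Fi23) (x y : Pt) : comB (rho g x) (rho g y) = comB x y := by
  rw [Bool.eq_iff_iff, comB_iff, comB_iff, ← tp_smul, ← tp_smul, Commute.conj_iff]

theorem comB_symm (x y : Pt) : comB x y = comB y x := by
  rw [Bool.eq_iff_iff, comB_iff, comB_iff]
  exact ⟨Commute.symm, Commute.symm⟩

theorem comB_self (x : Pt) : comB x x = true := (comB_iff x x).mpr (Commute.refl _)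

/-- the image of a point under the transposition of another -/
noncomputable def actPt (z y : ℕ) : ℕ := certA.run y (certA.revInv (zAt z))

theorem actPt_eq (z y : Pt) : (rho (tp z) y : ℕ) = actPt z y := by
  rw [tp_word, setupA.rho_prodW (zAt_lt z)]
  rfl

theorem act_smul (g : Fi23) (z y : Pt) : rho g (rho (tp z) y) = rho (tp (rho g z)) (rho g y) := by
  rw [← tp_smul, map_mul, map_mul, map_inv, Equiv.Perm.mul_apply, Equiv.Perm.mul_apply,
    Equiv.Perm.inv_def, Equiv.symm_apply_apply]

theorem base_mask (y : Pt) : commMask.testBit y = comB setupA.base y := by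
  rw [Bool.eq_iff_iff, comB_iff, tp_base]
  exact graph.mask y

theorem mask_smul_iff (g : Fi23) (x y : Pt) :
    Commute (tp (rho g x)) (tp (rho g y)) ↔ Commute (tp x) (tp y) := by
  rw [← tp_smul, ← tp_smul, Commute.conj_iff]

end CfsgLib.M24
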