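import Cfsg.Agent.Lib.Fi22Three.GenTable
import Cfsg.Agent.Lib.CosetEnum.Basic

/-!
Permutations packed into numbers, straight-line programs and lower bounds for orders from orbit trees.
-/

set_option autoImplicit false

namespace CfsgLib.M24.PackChain

open CfsgLib.CosetEnum

/-- an entry of a packed permutation -/
noncomputable def pk (p i : ℕ) : ℕ :=
  Nat.mod (Nat.shiftRight p (Nat.mul (nat_lit 10) i)) (nat_lit 1024)

/-- one point of a composition -/
noncomputable def compAt (n P A B x : ℕ) : Bool :=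
  strict x fun x => pick (ltB x n) (Nat.beq (pk P x) (pk A (pk B x))) true

/-- the values of a program -/
def vals (base : List ℕ) (prog : List (ℕ × ℕ × ℕ)) : List ℕ := base ++ prog.map fun t => t.2.2

/-- the check of a program -/
noncomputable def progOK (n : ℕ) : List ℕ → List (ℕ × ℕ × ℕ) → Bool
  | _, [] => true
  | vs, (i, j, P) :: r =>
    Nat.blt i vs.length && Nat.blt j vs.length && allUp (compAt n P (nth vs i 0) (nth vs j 0)) 10 0 &&
      progOK n (vs ++ [P]) r

/-- the parities along a program -/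
def parities : List ℕ → List (ℕ × ℕ × ℕ) → List ℕ
  | ps, [] => ps
  | ps, (i, j, _) :: r => parities (ps ++ [(ps.getD i 0 + ps.getD j 0) % 2]) r

/-- a packed permutation is the image of an element of the given parity -/
def Good {H : Type*} [Group H] {n : ℕ} (φ : H →* Equiv.Perm (Fin n))
    (χ : H →* Multiplicative (ZMod 2)) (P e : ℕ) : Prop :=
  ∃ g : H, (∀ x : Fin n, (φ g x : ℕ) = pk P x) ∧ χ g = Multiplicative.ofAdd (e : ZMod 2)

theorem parities_length : ∀ (ps : List ℕ) (r : List (ℕ × ℕ × ℕ)), (parities ps r).length = ps.length + r.length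
  | ps, [] => rfl
  | ps, (i, j, P) :: r => by
    rw [parities, parities_length, List.length_append, List.length_cons, List.length_nil, List.length_cons]
    omega

theorem prog_good {H : Type*} [Group H] {n : ℕ} (hn : n ≤ 1024) {φ : H →* Equiv.Perm (Fin n)}
    {χ : H →* Multiplicative (ZMod 2)} : ∀ (r : List (ℕ × ℕ × ℕ)) (vs ps : List ℕ), vs.length = ps.length →
      progOK n vs r = true → (∀ i < vs.length, Good φ χ (nth vs i 0) (ps.getD i 0)) →
      ∀ i < (vals vs r).length, Good φ χ (nth (vals vs r) i 0) ((parities ps r).getD i 0)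
  | [], vs, ps, _, _, h => by simpa [vals, parities] using h
  | (i, j, P) :: r, vs, ps, hl, hok, h => by
    simp only [progOK, Bool.and_eq_true, Nat.blt_eq] at hok
    obtain ⟨⟨⟨hi, hj⟩, hP⟩, hr⟩ := hok
    have he : vals vs ((i, j, P) :: r) = vals (vs ++ [P]) r := by simp [vals]
    rw [he, parities]
    refine prog_good hn r (vs ++ [P]) _ (by simp [hl]) hr fun k hk => ?_
    rw [List.length_append, List.length_singleton] at hk
    rcases Nat.lt_or_ge k vs.length with hk' | hk'
    · rw [nth_eq, List.getD_append _ _ _ _ hk', List.getD_append _ _ _ _ (hl ▸ hk'), ← nth_eq]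
      exact h k hk'
    · obtain rfl : k = vs.length := by omega
      obtain ⟨g, hg, hg'⟩ := h i hi
      obtain ⟨g', hh, hh'⟩ := h j hj
      refine ⟨g * g', fun x => ?_, ?_⟩
      · rw [map_mul, Equiv.Perm.mul_apply, hg, hh]
        have hx := allUp_spec hP x (Nat.zero_le _) (by have := x.2; omega)
        simp only [compAt, strict_eq, show ltB x n = true from ltB_iff.mpr x.2, pick_true] at hx
        rw [← Nat.eq_of_beq_eq_true hx, nth_eq, List.getD_append_right _ _ _ _ le_rfl, Nat.sub_self]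
        rfl
      · rw [map_mul, hg', hh', ← ofAdd_add, ← Nat.cast_add, hl, List.getD_append_right _ _ _ _ le_rfl,
          Nat.sub_self, List.getD_cons_zero, ZMod.natCast_mod]

/-- the growth of an orbit along a tree -/
noncomputable def growOK (n : ℕ) (vs : List ℕ) : ℕ → List (ℕ × ℕ) → Bool
  | _, [] => true
  | m, (x, g) :: r =>
    Nat.blt g vs.length && Nat.blt x n && Nat.testBit m x &&
      strict (pk (nth vs g 0) x) fun y => !Nat.testBit m y && growOK n vs (m ||| Nat.pow (nat_lit 2) y) r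

/-- the check of levels -/
noncomputable def levelsOK (n : ℕ) (vs : List ℕ) : List ℕ → List (ℕ × List (ℕ × ℕ)) → Bool
  | _, [] => true
  | prev, (b, t) :: r =>
    Nat.blt b n && growOK n vs (Nat.pow (nat_lit 2) b) t &&
      (t.all fun e => prev.all fun p => Nat.beq (pk (nth vs e.2 0) p) p) && levelsOK n vs (b :: prev) r

/-- the product of the orbit sizes -/
def levProd (ls : List (ℕ × List (ℕ × ℕ))) : ℕ := (ls.map fun l => l.2.length + 1).prod

/-- the base points -/
def levBases : List ℕ → List (ℕ × List (ℕ × ℕ)) → List ℕ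
  | prev, [] => prev
  | prev, (b, _) :: r => levBases (b :: prev) r

/-- the permutations fixing some points -/
def fixPts (n : ℕ) (bs : List ℕ) : Subgroup (Equiv.Perm (Fin n)) where
  carrier := {σ | ∀ x : Fin n, (x : ℕ) ∈ bs → σ x = x}
  one_mem' _ _ := rfl
  mul_mem' {σ τ} h h' x hx := by rw [Equiv.Perm.mul_apply, h' x hx, h x hx]
  inv_mem' {σ} h x hx := Equiv.Perm.inv_eq_iff_eq.mpr (h x hx).symm

theorem grow_spec {n : ℕ} {vs : List ℕ} {K : Subgroup (Equiv.Perm (Fin n))} {b : Fin n} :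
    ∀ (t : List (ℕ × ℕ)) (m : ℕ) (O : Finset (Fin n)), growOK n vs m t = true →
      (∀ e ∈ t, ∃ σ ∈ K, ∀ x : Fin n, (σ x : ℕ) = pk (nth vs e.2 0) x) →
      (∀ x : Fin n, m.testBit x = true ↔ x ∈ O) → (∀ y ∈ O, ∃ h ∈ K, h b = y) →
      ∃ O' : Finset (Fin n), O'.card = O.card + t.length ∧ ∀ y ∈ O', ∃ h ∈ K, h b = y
  | [], m, O, _, _, _, hO => ⟨O, rfl, hO⟩
  | (x, g) :: r, m, O, hok, hK, hm, hO => by
    simp only [growOK, strict_eq, Bool.and_eq_true, Nat.blt_eq, Bool.not_eq_true'] at hok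
    obtain ⟨⟨⟨-, hxn⟩, hx⟩, hy, hr⟩ := hok
    obtain ⟨σ, hσ, e⟩ := hK _ List.mem_cons_self
    set y : Fin n := σ ⟨x, hxn⟩
    have hy' : pk (nth vs g 0) x = (y : ℕ) := (e ⟨x, hxn⟩).symm
    rw [hy'] at hy hr
    have hnot : y ∉ O := fun h => by rw [(hm y).mpr h] at hy; exact Bool.noConfusion hy
    obtain ⟨O', h1, h2⟩ := grow_spec r _ (insert y O) hr (fun e' he' => hK e' (List.mem_cons_of_mem _ he'))
      (fun z => by
        rw [Nat.testBit_or, Bool.or_eq_true, show Nat.pow 2 (y : ℕ) = 2 ^ (y : ℕ) from rfl,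
          Nat.testBit_two_pow, decide_eq_true_iff, Finset.mem_insert, hm, eq_comm, Fin.val_inj]
        exact or_comm)
      (fun z hz => by
        rcases Finset.mem_insert.mp hz with rfl | hz
        · obtain ⟨h, hh, e'⟩ := hO ⟨x, hxn⟩ ((hm ⟨x, hxn⟩).mp hx)
          exact ⟨σ * h, mul_mem hσ hh, by rw [Equiv.Perm.mul_apply, e']⟩
        · exact hO z hz)
    exact ⟨O', by rw [h1, Finset.card_insert_of_notMem hnot, List.length_cons]; omega, h2⟩

/-- the bound from checked levels -/
theorem levels_le {n : ℕ} {vs : List ℕ} {H : Subgroup (Equiv.Perm (Fin n))} :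
    ∀ (ls : List (ℕ × List (ℕ × ℕ))) (prev : List ℕ), levelsOK n vs prev ls = true →
      (∀ l ∈ ls, ∀ e ∈ l.2, ∃ σ ∈ H, ∀ x : Fin n, (σ x : ℕ) = pk (nth vs e.2 0) x) →
      levProd ls * Nat.card ↥(H ⊓ fixPts n (levBases prev ls)) ≤ Nat.card ↥(H ⊓ fixPts n prev)
  | [], prev, _, _ => by simp [levProd, levBases]
  | (b, t) :: r, prev, hok, hH => by
    simp only [levelsOK, Bool.and_eq_true, List.all_eq_true, Nat.blt_eq, Nat.beq_eq] at hok
    obtain ⟨⟨⟨hb, hg⟩, hfix⟩, hr⟩ := hok
    set K := H ⊓ fixPts n prev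
    obtain ⟨O, hO, hO'⟩ := grow_spec (K := K) (b := ⟨b, hb⟩) t _ {⟨b, hb⟩} hg (fun e he => by
        obtain ⟨σ, hσ, e'⟩ := hH _ List.mem_cons_self e he
        exact ⟨σ, ⟨hσ, fun x hx => Fin.ext ((e' x).trans (hfix e he x hx))⟩, e'⟩)
      (fun x => by
        rw [show Nat.pow 2 b = 2 ^ b from rfl, Nat.testBit_two_pow, decide_eq_true_iff, Finset.mem_singleton,
          Fin.ext_iff, eq_comm])
      (fun y hy => ⟨1, one_mem _, by rw [Finset.mem_singleton] at hy; rw [hy]; rfl⟩)
    have h1 := Fi22Three.card_mul_le K ⟨b, hb⟩ O hO'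
    have hle : H ⊓ fixPts n (b :: prev) ≤ K ⊓ MulAction.stabilizer (Equiv.Perm (Fin n)) (⟨b, hb⟩ : Fin n) :=
      fun σ ⟨h, h'⟩ => ⟨⟨h, fun x hx => h' x (List.mem_cons_of_mem _ hx)⟩, h' ⟨b, hb⟩ List.mem_cons_self⟩
    have h2 := levels_le r (b :: prev) hr fun l hl => hH l (List.mem_cons_of_mem _ hl)
    rw [Finset.card_singleton] at hO
    rw [levProd, List.map_cons, List.prod_cons, levBases, mul_assoc]
    refine le_trans (Nat.mul_le_mul (le_of_eq ?_) (h2.trans (Subgroup.card_le_of_le hle))) h1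
    rw [hO]; exact add_comm _ _

end CfsgLib.M24.PackChain
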