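import Cfsg.Agent.Lib.M24.CertData
import Cfsg.Agent.Lib.M23.Orbits
import Cfsg.Agent.Lib.CosetEnum.Chunks

/-!
Kernel checks of the certificates for sets of transpositions of Fi23.
-/

set_option autoImplicit false
set_option Elab.async false

namespace CfsgLib.M24

open CfsgLib.CosetEnum CfsgLib.Fi23Pres

/-- the standard points of `b … j` -/
def ninePts : List ℕ := [8006, 8005, 8003, 8002, 8001, 8000, 8004, 8007, 7999]

/-- a point with a word for its transposition -/
noncomputable def wordOK (e : ℕ × List ℕ) : Bool :=
  Nat.blt e.1 certA.N && (e.2.all fun g => Nat.blt g certA.K) &&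
    sameBases certA levels e.2 (zAt e.1)

/-- one entry of the bridge from Fi22 -/
noncomputable def bridgeOK (e : ℕ × List ℕ × ℕ) : Bool :=
  Nat.blt e.1 3510 && Nat.blt e.2.2 certA.N && subMask0.testBit e.2.2 &&
    (e.2.1.all fun g => Nat.blt g 9) &&
    (Fi22Pres.certA.conjWord 0 e.1 == e.2.1.reverse ++ 0 :: e.2.1) &&
    sameBases certA levels (e.2.1.reverse ++ 0 :: e.2.1) (zAt e.2.2)

/-- run a derivation -/
noncomputable def derive : List (ℕ × ℕ × ℕ) → ℕ → Option ℕ
  | [], m => some m
  | (x, y, z) :: l, m =>
    bif m.testBit x && m.testBit y && Nat.blt x certA.N && Nat.blt y certA.N &&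
        Nat.beq (actPt x y) z then
      derive l (m ||| 2 ^ z)
    else none

/-- the check of the end of a derivation -/
noncomputable def kindOK (maskT : ℕ) : OrbKind → ℕ → Bool
  | .single, _ => true
  | .bad z, m => m.testBit z && Nat.blt z certA.N && !Nat.beq z 8006 && comB 8006 z &&
      !maskT.testBit z
  | .good, m => ninePts.all fun p => m.testBit p

/-- the check of one orbit -/
noncomputable def certOrbOK (maskT : ℕ) (gens : List (List ℕ)) (o : OrbCert) : Bool :=
  Nat.blt o.rep certA.N && !comB 8006 o.rep &&
    (match reach certA gens o.tree (2 ^ o.rep) with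
      | some m => Nat.beq m o.mask
      | none => false) &&
    (match o.kind with
      | .single => Nat.beq o.mask (2 ^ o.rep)
      | _ => true) &&
    (match derive o.steps (maskT ||| 2 ^ 8006 ||| 2 ^ o.rep) with
      | some m => kindOK maskT o.kind m
      | none => false)

/-- the union of the orbits -/
def orbsUnion : List OrbCert → ℕ
  | [] => 0
  | o :: os => o.mask ||| orbsUnion os

/-- the single orbits -/
def singles : List OrbCert → ℕ
  | [] => 0
  | ⟨_, _, _, _, .single⟩ :: os => singles os + 1
  | _ :: os => singles os

/-- the check of a case: the leaf of eight points of Fi22, the three points for counting -/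
noncomputable def caseOK (c : PerpCase) (leaf three : List ℕ) : Bool :=
  (c.mv.all fun g => Nat.blt g certA.K) && Nat.beq (certA.run 0 c.mv) 8006 &&
    Nat.beq leaf.length c.eight.length && c.eight.all wordOK &&
    ((List.range leaf.length).all fun i => bridge.any fun e =>
      Nat.beq e.1 (leaf.getD i 0) && Nat.beq (certA.run e.2.2 c.mv) (c.eight.getD i (0, [])).1) &&
    (match reach certA (c.eight.map Prod.snd) c.treeT (2 ^ (c.eight.headD (0, [])).1) with
      | some m => Nat.beq m c.maskT
      | none => false) &&
    Nat.beq (popc c.maskT certA.N) 351 &&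
    (c.gens.all fun e => wordOK e && c.maskT.testBit e.1) &&
    (c.orbs.all fun o => certOrbOK c.maskT (c.gens.map Prod.snd) o) &&
    Nat.beq (popc (orbsUnion c.orbs) certA.N) 28160 &&
    Nat.ble (singles c.orbs + 1) three.length &&
    c.maskT.testBit 8003 &&
    (three.all fun t => Nat.blt t certA.N && c.maskT.testBit t && !comB 8003 t) &&
    decide three.Nodup

/-- the points of the first leaf -/
def leafA : List ℕ := [0, 1, 7, 8, 9, 85, 32, 60]

/-- the points of the second leaf -/
def leafB : List ℕ := [0, 1, 7, 8, 9, 85, 340, 60]

theorem bridge_ok : bridge.all bridgeOK = true := by decide +kernel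

theorem caseA_ok : caseOK caseA leafA [4, 5, 166] = true := by decide +kernel

theorem caseB_ok : caseOK caseB leafB [4, 5, 31] = true := by decide +kernel

theorem leaves_sets : (M23.leafData.all fun L =>
    (leafA.all fun x => L.1.contains x) || (leafB.all fun x => L.1.contains x)) = true := by
  decide +kernel

theorem rank_sizes : (Nat.beq (popc subMask1 certA.N) 28160 && Nat.beq (popc subMask0 certA.N) 3510) = true := by
  decide +kernel

end CfsgLib.M24
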