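import Cfsg.Agent.Lib.M24.Points

/-!
Certificates for sets of transpositions of Fi23 closed under conjugation in which every member commutes
with 351 others.
-/

set_option autoImplicit false

namespace CfsgLib.M24

open CfsgLib.CosetEnum CfsgLib.Fi23Pres

/-- the nature of an orbit outside the perp -/
inductive OrbKind where
  /-- a single point -/
  | single
  /-- the listed derivation leads to the given further member of the perp -/
  | bad (z : ℕ)
  /-- the listed derivation leads to the nine standard points -/
  | good

/-- an orbit outside the perp -/
structure OrbCert where
  /-- representative -/
  rep : ℕ
  /-- spanning tree -/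
  tree : List (ℕ × ℕ)
  /-- orbit -/
  mask : ℕ
  /-- derivation: two points and the image of the second under the first -/
  steps : List (ℕ × ℕ × ℕ)
  /-- nature -/
  kind : OrbKind

/-- one possible perp -/
structure PerpCase where
  /-- the moving word -/
  mv : List ℕ
  /-- eight moved points with words for their transpositions -/
  eight : List (ℕ × List ℕ)
  /-- spanning tree of the perp -/
  treeT : List (ℕ × ℕ)
  /-- the perp -/
  maskT : ℕ
  /-- generators of the stabiliser: points of the perp with words -/
  gens : List (ℕ × List ℕ)
  /-- orbits outside -/
  orbs : List OrbCert

end CfsgLib.M24
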