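import Cfsg.Agent.Lib.M24.Facts
import Cfsg.Agent.Lib.Fi23Inv.ClassUnique

/-!
In a group of type M(24) the transpositions are the only class of three-transpositions.
-/

set_option autoImplicit false

namespace CfsgLib.M24

open Cfsg CfsgLib.ThreeTransp CfsgLib.ThreeTransp.Relations CfsgLib.CosetEnum CfsgLib.Fi23Pres Cfsg.Spor

/-- A product of two or three commuting transpositions of Fi23 is not a three-transposition. -/
theorem frame_not_three {l : List Fi23} (hl : Fi23Inv.Frame transClass l) (h2 : 2 ≤ l.length) :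
    ∃ g : Fi23, (l.prod * (g * l.prod * g⁻¹)) ^ 2 ≠ 1 ∧ (l.prod * (g * l.prod * g⁻¹)) ^ 3 ≠ 1 := by
  have s1 : Fi23Inv.tr 11589 = gen 0 := Fi23Inv.tr_letter (i := 0) (by norm_num)
  have s2 : Fi23Inv.tr 8005 = gen 2 := Fi23Inv.tr_letter (i := 2) (by norm_num)
  have s3 : Fi23Inv.tr 8002 = gen 4 := Fi23Inv.tr_letter (i := 4) (by norm_num)
  suffices H : ∀ (l₀ : List Fi23), Fi23Inv.Frame transClass l₀ → l₀.length = l.length →
      (∃ g : Fi23, (l₀.prod * (g * l₀.prod * g⁻¹)) ^ 2 ≠ 1 ∧ (l₀.prod * (g * l₀.prod * g⁻¹)) ^ 3 ≠ 1) →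
      ∃ g : Fi23, (l.prod * (g * l.prod * g⁻¹)) ^ 2 ≠ 1 ∧ (l.prod * (g * l.prod * g⁻¹)) ^ 3 ≠ 1 by
    rcases (show l.length = 2 ∨ l.length = 3 by have := hl.le; omega) with hlen | hlen
    · refine H ([11589, 8005].map Fi23Inv.tr)
        (Fi23Inv.frame_of_good Fi23Inv.standard2_ok (by simp) (by simp)) (by simp [hlen]) ?_
      rw [show ([11589, 8005].map Fi23Inv.tr).prod = prodW gen [0, 2] by simp [s1, s2]]
      exact Fi23Inv.sep_gen Fi23Inv.pair_moves.1 Fi23Inv.pair_moves.2
    · refine H ([11589, 8005, 8002].map Fi23Inv.tr)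
        (Fi23Inv.frame_of_good Fi23Inv.standard3_ok (by simp) (by simp)) (by simp [hlen]) ?_
      rw [show ([11589, 8005, 8002].map Fi23Inv.tr).prod = prodW gen [0, 2, 4] by simp [s1, s2, s3]]
      exact Fi23Inv.sep_gen Fi23Inv.triple_moves.1 Fi23Inv.triple_moves.2
  rintro l₀ h₀ hlen ⟨g, g2, g3⟩
  obtain ⟨b, hb⟩ := Fi23Inv.frame_conj hl h₀ hlen.symm
  rw [← hb, ← map_list_prod] at g2 g3
  simp only [MulAut.conj_apply] at g2 g3
  refine ⟨b⁻¹ * g * b, fun e => g2 ?_, fun e => g3 ?_⟩
  all_goals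
    rw [show b * l.prod * b⁻¹ * (g * (b * l.prod * b⁻¹) * g⁻¹) =
      b * (l.prod * ((b⁻¹ * g * b) * l.prod * (b⁻¹ * g * b)⁻¹)) * b⁻¹ by group, conj_pow, e]
    group

namespace Pre

variable {G : Type*} [Group G] [Finite G] {D D' : Set G}

/-- The image in Fi23 of a member of a class of three-transpositions is not a longer frame. -/
theorem no_frame (P : Pre G D) (hD' : IsThreeTranspositionClass D') {y : ↥(perpGroup D P.d)}
    (hy : (y : G) ∈ D') {l : List Fi23} (hl : Fi23Inv.Frame transClass l) (h2 : 2 ≤ l.length)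
    (e : P.π y = l.prod) : False := by
  obtain ⟨g, g2, g3⟩ := frame_not_three hl h2
  obtain ⟨h, rfl⟩ := P.π_surjective g
  have hmem : ((h * y * h⁻¹ : ↥(perpGroup D P.d)) : G) ∈ D' := class_conjClosed hD' (h : G) (y : G) hy
  rcases hD'.1.2 _ hy _ hmem with hn | hn <;>
    rw [← Subgroup.coe_mul, ← SubgroupClass.coe_pow, OneMemClass.coe_eq_one] at hn <;>
    replace hn := congrArg P.π hn <;>
    simp only [map_pow, map_mul, map_inv, map_one, e] at hn
  · exact g2 hn
  · exact g3 hn

/-- No product of two commuting members is a member of another class of three-transpositions. -/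
theorem no_pair (P : Pre G D) (hD' : IsThreeTranspositionClass D') {a b : G} (ha : a ∈ D) (hb : b ∈ D)
    (hne : a ≠ b) (hab : Commute a b) : a * b ∉ D' := by
  intro hmem
  obtain ⟨e, ⟨⟨he, hea, hae⟩, heb, hbe⟩⟩ :=
    Set.nonempty_of_ncard_ne_zero (s := {y | y ∈ nbr D a ∧ y ≠ b ∧ Commute b y})
      (by rw [P.two_card ha ⟨hb, hne.symm, hab⟩]; norm_num)
  obtain ⟨g, hg⟩ := class_exists_conj P.hDc he P.hd
  have key : ∀ z ∈ D, z ≠ e → Commute z e → g * z * g⁻¹ ∈ nbr D P.d := fun z hz hze hc =>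
    ⟨P.hD.2.1 g z hz, fun h => hze (mul_left_cancel (mul_right_cancel (h.trans hg.symm))),
      by rw [← hg]; exact (Commute.conj_iff g).mpr hc.symm⟩
  obtain ⟨p, hp⟩ := P.exists_point (key a ha hea.symm hae)
  obtain ⟨q, hq⟩ := P.exists_point (key b hb heb.symm hbe)
  have hpq : p ≠ q := fun h => hne (mul_left_cancel (mul_right_cancel (hp.symm.trans (h ▸ hq))))
  have hc : Commute (tp p) (tp q) := by
    rw [← comB_iff, ← P.lift_comm, hp, hq]
    exact (Commute.conj_iff g).mpr hab
  refine P.no_frame hD' (y := P.liftH p * P.liftH q) ?_ (l := [tp p, tp q]) ?_ le_rfl ?_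
  · show P.lift p * P.lift q ∈ D'
    rw [hp, hq, show g * a * g⁻¹ * (g * b * g⁻¹) = g * (a * b) * g⁻¹ by group]
    exact class_conjClosed hD' g _ hmem
  · constructor
    · simpa using fun h => hpq (tp_inj h)
    · simp
    · simp
    · intro z hz
      simp only [List.mem_cons, List.not_mem_nil, or_false] at hz
      rcases hz with rfl | rfl <;> exact tp_mem _
    · intro z hz w hw
      simp only [List.mem_cons, List.not_mem_nil, or_false] at hz hw
      rcases hz with rfl | rfl <;> rcases hw with rfl | rfl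
      exacts [Commute.refl _, hc, hc.symm, Commute.refl _]
  · rw [map_mul, P.π_lift, P.π_lift, List.prod_cons, List.prod_cons, List.prod_nil, mul_one]

/-- A member of another class which fixes `d` is a transposition. -/
theorem mem_of_commute {P : Pre G D} (hP : Standard P) (hD' : IsThreeTranspositionClass D') {x : G}
    (hx : x ∈ D') (h : Commute x P.d) : x ∈ D := by
  obtain ⟨y, rfl⟩ : ∃ y : ↥(perpGroup D P.d), (y : G) = x :=
    ⟨⟨x, by rw [(card_eq hP).2.2]; exact Subgroup.mem_centralizer_singleton_iff.mpr h.eq⟩, rfl⟩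
  have hy2 : y * y = 1 := Subtype.ext (mul_self_eq_one hD'.1 hx)
  have hy1 : y ≠ 1 := fun e => ne_one_of_mem hD'.1 hx (e ▸ rfl)
  by_cases hπ : P.π y = 1
  · rw [eq_d_of_kernel hP hπ hy2 hy1]; exact P.hd
  have ho : orderOf (P.π y) = 2 := by
    have : Fact (Nat.Prime 2) := ⟨Nat.prime_two⟩
    exact orderOf_eq_prime (by rw [pow_two, ← map_mul, hy2, map_one]) hπ
  obtain ⟨l, hl, hprod⟩ := Fi23Inv.involution_frame ho
  rcases Nat.lt_or_ge l.length 2 with hlt | hge
  swap
  · exact (P.no_frame hD' hx hl hge hprod.symm).elim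
  obtain ⟨t, rfl⟩ := List.length_eq_one_iff.mp (show l.length = 1 by have := hl.pos; omega)
  rw [List.prod_singleton] at hprod
  obtain ⟨p, rfl⟩ := exists_tp (hl.mem t List.mem_cons_self)
  have hfix : y * P.liftH p * y⁻¹ = P.liftH p := by
    have hn : ((y * P.liftH p * y⁻¹ : ↥(perpGroup D P.d)) : G) ∈ nbr D P.d :=
      conj_mem_nbr (class_conjClosed P.hDc) h (P.lift_mem p)
    refine P.π_injOn hn (P.lift_mem p) ?_
    rw [map_mul, map_mul, map_inv, P.π_lift, ← hprod, mul_inv_cancel_right]
  have hc : Commute y (P.liftH p) := mul_inv_eq_iff_eq_mul.mp hfix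
  have hl2 : P.liftH p * P.liftH p = 1 := Subtype.ext (mul_self_eq_one P.hD.1 (P.lift_mem p).1)
  rcases eq_or_ne (y * P.liftH p) 1 with e | e
  · rw [eq_inv_of_mul_eq_one_left e, Subgroup.coe_inv]
    show (P.lift p)⁻¹ ∈ D
    rw [inv_eq_self P.hD.1 (P.lift_mem p).1]
    exact (P.lift_mem p).1
  exfalso
  have hd := eq_d_of_kernel hP (y := y * P.liftH p)
    (by rw [map_mul, P.π_lift, ← hprod,
          show tp p * tp p = P.π (P.liftH p * P.liftH p) by rw [map_mul, P.π_lift], hl2, map_one])
    (by rw [hc.symm.mul_mul_mul_comm, hy2, hl2, one_mul]) e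
  rw [Subgroup.coe_mul] at hd
  refine P.no_pair hD' P.hd (P.lift_mem p).1 (P.lift_mem p).2.1.symm (P.lift_mem p).2.2 ?_
  rw [← hd]
  show (y : G) * P.lift p * P.lift p ∈ D'
  rwa [mul_self_cancel_right P.hD.1 (P.lift_mem p).1]

/-- A member of another class commutes with some transposition. -/
theorem exists_commute (P : Pre G D) (hsep' : Sep D') (hD' : IsThreeTranspositionClass D') {x : G}
    (hx : x ∈ D') : ∃ a ∈ D, Commute x a := by
  by_contra! hno
  have hS := P.hD.1
  have hx2 : x * x = 1 := mul_self_eq_one hD'.1 hx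
  have ix : x⁻¹ = x := inv_eq_self hD'.1 hx
  have hconj : ∀ a ∈ D, x * a * x ∈ D := fun a ha => by
    have := P.hD.2.1 x a ha
    rwa [ix] at this
  have hcc : ∀ a ∈ D, Commute a (x * a * x) := by
    intro a ha
    by_contra hn
    refine hno _ (conj_mem hS P.hD.2.1 ha (hconj a ha)) ?_
    have e : x * (a * (x * a * x) * a) * x = a * (x * a * x) * a := by
      calc x * (a * (x * a * x) * a) * x = x * (x * a * x * a * (x * a * x)) * x := by
            rw [braid hS ha (hconj a ha) hn]
        _ = (x * x) * a * x * a * x * a * (x * x) := by group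
        _ = a * (x * a * x) * a := by rw [hx2]; group
    calc x * (a * (x * a * x) * a) = x * (a * (x * a * x) * a) * x * x := by rw [mul_assoc _ x x, hx2, mul_one]
      _ = a * (x * a * x) * a * x := by rw [e]
  have hne : ∀ a ∈ D, x * a * x ≠ a := fun a ha e => hno a ha (by
    calc x * a = x * a * x * x := by rw [mul_assoc _ x x, hx2, mul_one]
      _ = a * x := by rw [e])
  obtain ⟨a, ha, -⟩ := P.hw
  set b := x * a * x with hbdef
  have hb : b ∈ D := hconj a ha
  have hab : Commute a b := hcc a ha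
  obtain ⟨e, ⟨⟨he, hea, hae⟩, heb, hbe⟩⟩ :=
    Set.nonempty_of_ncard_ne_zero (s := {y | y ∈ nbr D a ∧ y ≠ b ∧ Commute b y})
      (by rw [P.two_card ha ⟨hb, hne a ha, hab⟩]; norm_num)
  set f := x * e * x with hfdef
  have hf : f ∈ D := hconj e he
  have hef : Commute e f := hcc e he
  have hxb : x * b * x = a := by
    rw [hbdef, show x * (x * a * x) * x = (x * x) * a * (x * x) by group, hx2, one_mul, mul_one]
  have haf : Commute a f := by
    have := (Commute.conj_iff x).mpr hbe
    rwa [ix, hxb, ← hfdef] at this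
  have hbf : Commute b f := by
    have := (Commute.conj_iff x).mpr hae
    rwa [ix, ← hbdef, ← hfdef] at this
  have hinj : ∀ u v : G, x * u * x = x * v * x → u = v := fun u v h => mul_left_cancel (mul_right_cancel h)
  have hfa : f ≠ a := fun h => heb (hinj e b (by rw [← hfdef, hxb, h]))
  have hfb : f ≠ b := fun h => hea (hinj e a h)
  have h4 : a * b * e * f ≠ 1 := mul_four_ne_one hS P.hsep ha hb he hf (hne a ha).symm hea.symm hfa.symm
    heb.symm hfb.symm (hne e he).symm hab hae haf hbe hbf hef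
  have p2 : a * b * (a * b) = 1 := by
    rw [hab.symm.mul_mul_mul_comm, mul_self_eq_one hS ha, mul_self_eq_one hS hb, one_mul]
  have q2 : e * f * (e * f) = 1 := by
    rw [hef.symm.mul_mul_mul_comm, mul_self_eq_one hS he, mul_self_eq_one hS hf, one_mul]
  have cpq : Commute (a * b) (e * f) := (hae.mul_right haf).mul_left (hbe.mul_right hbf)
  have cxp : Commute x (a * b) := by
    show x * (a * b) = a * b * x
    calc x * (a * b) = x * a * (x * x) * b * (x * x) := by rw [hx2, mul_one, mul_one, mul_assoc]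
      _ = x * a * x * (x * b * x) * x := by group
      _ = b * a * x := by rw [← hbdef, hxb]
      _ = a * b * x := by rw [hab.eq]
  have cxq : Commute x (e * f) := by
    have hxf : x * f * x = e := by
      rw [hfdef, show x * (x * e * x) * x = (x * x) * e * (x * x) by group, hx2, one_mul, mul_one]
    show x * (e * f) = e * f * x
    calc x * (e * f) = x * e * (x * x) * f * (x * x) := by rw [hx2, mul_one, mul_one, mul_assoc]
      _ = x * e * x * (x * f * x) * x := by group
      _ = f * e * x := by rw [← hfdef, hxf]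
      _ = e * f * x := by rw [hef.eq]
  have m1 : x * (a * b) ∈ D' := by
    have e1 : a * x * a⁻¹ = x * (a * b) := by
      rw [inv_eq_self hS ha, cxp.eq]
      calc a * x * a = a * (x * a * x) * x := by
            rw [show a * (x * a * x) * x = a * x * a * (x * x) by group, hx2, mul_one]
        _ = a * b * x := rfl
    rw [← e1]; exact class_conjClosed hD' a x hx
  have m2 : ∀ u ∈ D', Commute u (a * b) → x * (e * f) = e * x * e⁻¹ := fun _ _ _ => by
    rw [inv_eq_self hS he, cxq.eq, hfdef,
      show e * (x * e * x) * x = e * x * e * (x * x) by group, hx2, mul_one]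
  have m3 : x * (e * f) ∈ D' := by
    rw [m2 x hx cxp]; exact class_conjClosed hD' e x hx
  have m4 : x * (a * b) * (e * f) ∈ D' := by
    have e1 : e * (x * (a * b)) * e⁻¹ = x * (a * b) * (e * f) := by
      have hce : Commute e (a * b) := hae.symm.mul_right hbe.symm
      have hr : x * (a * b) * (e * f) = e * x * e⁻¹ * (a * b) := by
        rw [← m2 x hx cxp, mul_assoc x (a * b) (e * f), cpq.eq, ← mul_assoc x (e * f) (a * b)]
      rw [hr]
      calc e * (x * (a * b)) * e⁻¹ = e * x * ((a * b) * e⁻¹) := by group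
        _ = e * x * (e⁻¹ * (a * b)) := by rw [hce.inv_left.eq]
        _ = e * x * e⁻¹ * (a * b) := by group
    rw [← e1]; exact class_conjClosed hD' e _ m1
  have d12 : x ≠ x * (a * b) := fun h => (hne a ha).symm
    ((eq_inv_of_mul_eq_one_left (mul_eq_left.mp h.symm)).trans (inv_eq_self hS hb))
  have d13 : x ≠ x * (e * f) := fun h => (hne e he).symm
    ((eq_inv_of_mul_eq_one_left (mul_eq_left.mp h.symm)).trans (inv_eq_self hS hf))
  have d14 : x ≠ x * (a * b) * (e * f) := fun h => h4 (by
    rw [mul_assoc x] at h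
    rw [← mul_eq_left.mp h.symm]; group)
  have d23 : x * (a * b) ≠ x * (e * f) := fun h => h4 (by
    rw [mul_assoc (a * b) e f, mul_left_cancel h, q2])
  have d24 : x * (a * b) ≠ x * (a * b) * (e * f) := fun h => d13 (by rw [mul_eq_left.mp h.symm, mul_one])
  have d34 : x * (e * f) ≠ x * (a * b) * (e * f) := fun h => d12 (mul_right_cancel h)
  refine mul_four_ne_one hD'.1 hsep' hx m1 m3 m4 d12 d13 d14 d23 d24 d34
    ((Commute.refl x).mul_right cxp) ((Commute.refl x).mul_right cxq)
    (((Commute.refl x).mul_right cxp).mul_right cxq)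
    (((Commute.refl x).mul_right cxq).mul_left (cxp.symm.mul_right cpq))
    ((((Commute.refl x).mul_right cxp).mul_right cxq).mul_left
      ((cxp.symm.mul_right (Commute.refl _)).mul_right cpq))
    ((((Commute.refl x).mul_right cxp).mul_right cxq).mul_left
      ((cxq.symm.mul_right cpq.symm).mul_right (Commute.refl _))) ?_
  calc x * (x * (a * b)) * (x * (e * f)) * (x * (a * b) * (e * f))
      = (x * x) * ((a * b) * x) * (e * f) * x * (a * b) * (e * f) := by group
    _ = x * ((a * b) * (e * f)) * x * ((a * b) * (e * f)) := by rw [hx2, one_mul, ← cxp.eq]; group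
    _ = x * x * (((a * b) * (e * f)) * ((a * b) * (e * f))) := by
      rw [mul_assoc x _ x, ← (cxp.mul_right cxq).eq]; group
    _ = 1 := by rw [hx2, cpq.symm.mul_mul_mul_comm, p2, q2, mul_one, mul_one]

end Pre

/-- The transpositions are the only class of three-transpositions. -/
theorem class_unique {G : Type*} [Group G] [Finite G] {D : Set G} (hD : IsThreeTranspositionGroup D)
    (hprim : IsPrimitiveUnderConj D) (ht : IsOfTypeM24 G D) (D' : Set G)
    (hD' : IsThreeTranspositionClass D') : D' = D := by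
  obtain ⟨P, hP⟩ := exists_pre hD hprim ht
  have h2 : Cfsg.pCore 2 G = ⊥ := le_bot_iff.mp (P.hZ ▸ pCore_two_le_center hD hprim)
  obtain ⟨x, hx, hcl⟩ := hD'.2.1
  obtain ⟨a, ha, hxa⟩ := P.exists_commute (sep_of_pCore hD'.1 (class_conjClosed hD') h2) hD' hx
  obtain ⟨g, hg⟩ := class_exists_conj P.hDc ha P.hd
  have hxg : g * x * g⁻¹ ∈ D :=
    Pre.mem_of_commute hP hD' (class_conjClosed hD' g x hx) (hg ▸ (Commute.conj_iff g).mpr hxa)
  have hxD : x ∈ D := by
    have := hD.2.1 g⁻¹ _ hxg
    simpa [mul_assoc] using this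
  rw [hcl]
  ext y
  refine ⟨fun hy => ?_, fun hy => ?_⟩
  · obtain ⟨k, rfl⟩ := isConj_iff.mp (hy : IsConj x y)
    exact hD.2.1 k x hxD
  · obtain ⟨k, rfl⟩ := class_exists_conj P.hDc hxD hy
    exact isConj_iff.mpr ⟨k, rfl⟩

end CfsgLib.M24
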