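import Cfsg.Agent.Lib.M24.Local

/-!
Lifting centralisers and normalisers of subgroups of odd prime order from Fi23 to the centraliser of a transposition.
-/

set_option autoImplicit false

namespace CfsgLib.M24

open Cfsg CfsgLib.ThreeTransp CfsgLib.ThreeTransp.Relations CfsgLib.CosetEnum CfsgLib.Fi23Pres Cfsg.Spor

namespace Pre

variable {G : Type*} [Group G] [Finite G] {D : Set G} {P : Pre G D} {q : ℕ} [Fact q.Prime] {X : Subgroup G}

omit [Fact q.Prime] in
theorem pow_card_mem (hX : Nat.card X = q) {x : G} (hx : x ∈ X) : x ^ q = 1 := by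
  rw [← orderOf_dvd_iff_pow_eq_one, ← hX]
  exact Subgroup.orderOf_dvd_natCard _ hx

/-- two elements of order dividing `q` of the centraliser with the same image are equal -/
theorem eq_of_image (hP : Standard P) (hq : q ≠ 2) {y z : ↥(perpGroup D P.d)} (hy : (y : G) ^ q = 1)
    (hz : (z : G) ^ q = 1) (h : P.π y = P.π z) : y = z := by
  rcases (ker_mem hP).mp (show P.π (z⁻¹ * y) = 1 by rw [map_mul, map_inv, h, inv_mul_cancel]) with e | e <;>
    rw [Subgroup.coe_mul, Subgroup.coe_inv, inv_mul_eq_iff_eq_mul] at e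
  · rw [mul_one] at e
    exact Subtype.ext e
  · exfalso
    have hc : Commute (z : G) P.d := (mem_perp hP).mp z.2
    rw [e, hc.mul_pow, hz, one_mul] at hy
    have h2 := orderOf_dvd_iff_pow_eq_one.mpr hy
    rw [P.hD.1.1 _ P.hd] at h2
    exact hq ((Nat.prime_dvd_prime_iff_eq Nat.prime_two Fact.out).mp h2).symm

theorem mem_normalizer_image (hP : Standard P) (hq : q ≠ 2) (hX : Nat.card X = q) (hd : P.d ∈ fixedSet D X)
    (y : ↥(perpGroup D P.d)) :
    (y : G) ∈ Subgroup.normalizer (X : Set G) ↔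
      P.π y ∈ Subgroup.normalizer ((P.image X : Subgroup Fi23) : Set Fi23) := by
  have hle := le_perp hP hd
  refine ⟨fun h => mem_normalizer_of_forall.mpr ?_, fun h => mem_normalizer_of_forall.mpr fun x hx => ?_⟩
  · rintro _ ⟨x, hx, rfl⟩
    refine ⟨y * x * y⁻¹, ?_, by rw [map_mul, map_mul, map_inv]⟩
    exact (Subgroup.mem_normalizer_iff.mp h (x : G)).mp hx
  · obtain ⟨z, hz, e⟩ := (mem_normalizer_of_forall.mp h) (P.π ⟨x, hle hx⟩) ⟨_, hx, rfl⟩
    have he : y * ⟨x, hle hx⟩ * y⁻¹ = z := eq_of_image hP hq (by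
      rw [Subgroup.coe_mul, Subgroup.coe_mul, Subgroup.coe_inv, conj_pow]
      simp [pow_card_mem hX hx]) (pow_card_mem hX hz) (by rw [map_mul, map_mul, map_inv, e])
    have := congrArg Subtype.val he
    simp only [Subgroup.coe_mul, Subgroup.coe_inv] at this
    rw [this]
    exact hz

theorem mem_centralizer_image (hP : Standard P) (hq : q ≠ 2) (hX : Nat.card X = q) (hd : P.d ∈ fixedSet D X)
    (y : ↥(perpGroup D P.d)) :
    (y : G) ∈ Subgroup.centralizer (X : Set G) ↔
      P.π y ∈ Subgroup.centralizer ((P.image X : Subgroup Fi23) : Set Fi23) := by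
  have hle := le_perp hP hd
  rw [Subgroup.mem_centralizer_iff, Subgroup.mem_centralizer_iff]
  constructor
  · rintro h _ ⟨x, hx, rfl⟩
    rw [← map_mul, ← map_mul]
    exact congrArg P.π (Subtype.ext (h (x : G) hx))
  · intro h x hx
    have hx' := h (P.π ⟨x, hle hx⟩) ⟨_, hx, rfl⟩
    have he : y * ⟨x, hle hx⟩ * y⁻¹ = ⟨x, hle hx⟩ := eq_of_image hP hq (by
      rw [Subgroup.coe_mul, Subgroup.coe_mul, Subgroup.coe_inv, conj_pow]
      simp [pow_card_mem hX hx]) (pow_card_mem hX hx)
      (by rw [map_mul, map_mul, map_inv, ← hx', mul_inv_cancel_right])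
    exact (congrArg Subtype.val (mul_inv_eq_iff_eq_mul.mp he)).symm

theorem lift_fixed (hP : Standard P) (hq : q ≠ 2) (hX : Nat.card X = q) (hd : P.d ∈ fixedSet D X) (p : Pt) :
    P.lift p ∈ fixedSet D X ↔
      tp p ∈ Subgroup.centralizer ((P.image X : Subgroup Fi23) : Set Fi23) :=
  ⟨image_lift, fun h => ⟨(P.lift_mem p).1,
    (mem_centralizer_image hP hq hX hd (P.liftH p)).mpr (by rwa [P.π_lift])⟩⟩

/-- the preimage of a subgroup of Fi23 -/
theorem comap_card (hP : Standard P) (K : Subgroup Fi23) : Nat.card (K.comap P.π) = 2 * Nat.card K := by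
  have h1 := (K.comap P.π).index_mul_card
  rw [Subgroup.index_comap_of_surjective _ P.π_surjective, perp_card hP] at h1
  have h2 := K.index_mul_card
  rw [card_faithful.1] at h2
  refine Nat.eq_of_mul_eq_mul_left (n := K.index) (Nat.pos_of_ne_zero Subgroup.index_ne_zero_of_finite) ?_
  rw [h1, mul_left_comm, h2]
  norm_num

theorem image_of_map (H : Subgroup ↥(perpGroup D P.d)) :
    Nat.card (H.map (perpGroup D P.d).subtype) = Nat.card H :=
  Subgroup.card_map_of_injective (perpGroup D P.d).subtype_injective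

end Pre

end CfsgLib.M24
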