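import Cfsg.Agent.Lib.M24.Points
import Cfsg.Agent.Lib.M24.PairData
import Cfsg.Agent.Lib.CosetEnum.Chunks
import Cfsg.Agent.Lib.M23.OrbitDefs

/-!
Kernel checks for the common neighbours of two transpositions of Fi23.
-/

set_option autoImplicit false

namespace CfsgLib.M24

open CfsgLib.CosetEnum CfsgLib.Fi23Pres

/-- one point of the check of a mask of common neighbours of the base and `r` -/
noncomputable def pairMaskOK (m r x : ℕ) : Bool :=
  strict x fun x => pick (ltB x certA.N)
    (Nat.testBit m x == (Nat.testBit subMask0 x && (!Nat.beq x r && comB r x))) true

theorem far_mask : allUp (pairMaskOK farMask 1) 15 0 = true := by decide +kernel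

theorem near_mask : allUp (pairMaskOK nearMask 53) 15 0 = true := by decide +kernel

theorem far_size : popc farMask certA.N = 351 := by decide +kernel

theorem near_size : popc nearMask certA.N = 693 := by decide +kernel

theorem perp_size : popc subMask0 certA.N = 3510 := by decide +kernel

/-- the check of the eight -/
noncomputable def eightOK : Bool :=
  (List.range 8).all fun i => Nat.blt (pairEight.getD i 0) certA.N &&
    farMask.testBit (pairEight.getD i 0) && (List.range 8).all fun j => Nat.beq i j ||
      (!Nat.beq (pairEight.getD i 0) (pairEight.getD j 0) &&
        comB (pairEight.getD i 0) (pairEight.getD j 0) == !M23.adjP i j)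

theorem eight_ok : eightOK = true := by decide +kernel

end CfsgLib.M24
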