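import Cfsg.Agent.Lib.M23.PerpHyps

/-!
In a group of type M(24) the quotient of the perp group is a primitive group of 3-transpositions with
trivial cores: the cores vanish already from the simple quotient two steps further down.
-/

set_option autoImplicit false

namespace CfsgLib.M24

open Cfsg CfsgLib.ThreeTransp CfsgLib.ThreeTransp.Relations

variable {G : Type*} [Group G] [Finite G] {D : Set G}

omit [Finite G] in
/-- A member of the perp seen one step further down commutes where its image does. -/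
theorem commute_of_proj (hS : IsThreeTranspositionSet D) {d : G} {a b : ↥(perpGroup D d)}
    (ha : (a : G) ∈ D) (hb : (b : G) ∈ D) (hne : proj D d a ≠ proj D d b)
    (h : Commute (proj D d a) (proj D d b)) : Commute (a : G) b :=
  (((eq_or_commute_of_map_commute (proj D d) (D := {x : ↥(perpGroup D d) | (x : G) ∈ D})
    (restrict_set hS (perpGroup D d)) ha hb h).resolve_left hne)).map (perpGroup D d).subtype

omit [Finite G] in
theorem core_step {p : ℕ} [Fact p.Prime] {H : Type*} [Group H] [Finite H] {E : Set H} {e : H}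
    (hE : Cfsg.pCore p (PerpQuot E e) = ⊥) {N : Subgroup H} (hN : N.Normal) (hp : IsPGroup p N)
    {z : ↥(perpGroup E e)} (hz : (z : H) ∈ N) {u : H} (hu : u ∈ nbr E e) : Commute u (z : H) := by
  have hmem : proj E e z ∈ Cfsg.pCore p (PerpQuot E e) :=
    Fitting.le_pCore ((hN.subgroupOf _).map _ (QuotientGroup.mk'_surjective _))
      ((hp.comap_of_injective _ (Subgroup.subtype_injective _)).map _)
      ⟨z, Subgroup.mem_subgroupOf.mpr hz, rfl⟩
  rw [hE, Subgroup.mem_bot] at hmem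
  exact commute_of_proj_eq_one hmem hu

/-- The 2-core vanishes from the vanishing one two steps down. -/
theorem pCore_two_eq_bot_two (hD : IsThreeTranspositionClass D) (hZ : Subgroup.center G = ⊥) {d : G}
    (hd : d ∈ D) {e : PerpQuot D d} (he : e ∈ perpImage D d)
    (hX : Cfsg.pCore 2 (PerpQuot (perpImage D d) e) = ⊥)
    (hne : ∃ x y : ↥(perpGroup (perpImage D d) e), ¬ Commute x y) : Cfsg.pCore 2 G = ⊥ := by
  have hS := hD.1
  have hc := class_conjClosed hD
  haveI : Fact (Nat.Prime 2) := ⟨Nat.prime_two⟩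
  have hN := Fitting.pCore_normal (G := G) 2
  refine le_bot_iff.mp (hZ ▸ le_center_of_forall hD.2.2 fun x hx e₁ he₁ => ?_)
  by_contra hne'
  obtain ⟨w', hw', u', hu', hwu'⟩ := exists_not_commute_in_nbr hne
  obtain ⟨a, ha, rfl⟩ := he
  obtain ⟨w, hw, rfl⟩ := hw'.1
  obtain ⟨u, hu, rfl⟩ := hu'.1
  have hwu : ¬ Commute (w : G) u := fun h => hwu' ((show Commute w u from Subtype.ext h.eq).map (proj D d))
  have haw : Commute (a : G) w := commute_of_proj hS ha.1 hw.1 (fun h => hw'.2.1 h.symm) hw'.2.2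
  have hau : Commute (a : G) u := commute_of_proj hS ha.1 hu.1 (fun h => hu'.2.1 h.symm) hu'.2.2
  obtain ⟨g, hg⟩ := class_exists_conj hD he₁ hw.1
  set v₀ := g * (x * e₁ * x⁻¹) * g⁻¹
  have hv : v₀ ∈ D := hc g _ (hc x e₁ he₁)
  have hvw : v₀ ≠ (w : G) := fun h => hne' (by
    rw [← hg] at h
    have h' : x * e₁ * x⁻¹ = e₁ := by simpa [v₀] using h
    show e₁ * x = x * e₁
    calc e₁ * x = x * e₁ * x⁻¹ * x := by rw [h']
      _ = x * e₁ := by group)
  have hwv : (w : G) * v₀ ∈ Cfsg.pCore 2 G := by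
    have h1 : e₁ * (x * e₁ * x⁻¹) ∈ Cfsg.pCore 2 G := by
      rw [show e₁ * (x * e₁ * x⁻¹) = e₁ * x * e₁ * x⁻¹ by group]
      nth_rw 2 [← inv_eq_self hS he₁]
      exact mul_mem (hN.conj_mem x hx e₁) (inv_mem hx)
    have h2 := hN.conj_mem _ h1 g
    rwa [show g * (e₁ * (x * e₁ * x⁻¹)) * g⁻¹ = g * e₁ * g⁻¹ * v₀ by simp [v₀, mul_assoc], hg] at h2
  have hperp := perpEq_of_mul_mem (D := D) hS (N := Cfsg.pCore 2 G) (Fitting.pCore_isPGroup 2) hw.1 hv hwv
  have hvd : v₀ ≠ d := fun h => hwu ((hperp u hu.1).mpr (h ▸ hu.2.2))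
  have hvn : v₀ ∈ nbr D d := ⟨hv, hvd, ((hperp d hd).mp hw.2.2.symm).symm⟩
  set v : ↥(perpGroup D d) := ⟨v₀, Subgroup.subset_closure hvn⟩
  have huv : ¬ Commute (u : G) v₀ := fun h => hwu ((hperp u hu.1).mpr h.symm)
  have huv' : ¬ Commute (proj D d u) (proj D d v) := fun h => by
    by_cases he : proj D d u = proj D d v
    · have : Commute (proj D d w) (proj D d v) :=
        (show Commute w v from Subtype.ext ((hperp (w : G) hw.1).mp (Commute.refl _)).symm.eq).map (proj D d)
      rw [← he] at this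
      exact hwu' this
    · exact huv (commute_of_proj hS hu.1 hv he h)
  have hav : Commute (proj D d a) (proj D d v) :=
    (show Commute a v from Subtype.ext ((hperp a ha.1).mp haw.symm).symm.eq).map (proj D d)
  have hvn' : proj D d v ∈ nbr (perpImage D d) (proj D d a) :=
    ⟨⟨v, hvn, rfl⟩, fun h => huv' (by rw [h]; exact hu'.2.2.symm), hav⟩
  have hcomm : Commute (proj D d u) (proj D d w * proj D d v) := by
    refine core_step (z := ⟨_, mul_mem (Subgroup.subset_closure hw') (Subgroup.subset_closure hvn')⟩) hX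
      ((hN.subgroupOf _).map _ (QuotientGroup.mk'_surjective _))
      (((Fitting.pCore_isPGroup 2).comap_of_injective _ (Subgroup.subtype_injective _)).map _)
      (N := ((Cfsg.pCore 2 G).subgroupOf (perpGroup D d)).map (proj D d))
      ⟨w * v, Subgroup.mem_subgroupOf.mpr hwv, map_mul _ _ _⟩ hu'
  by_cases hwv' : proj D d w = proj D d v
  · have h1 : proj D d (w * v) = 1 := by
      rw [map_mul, ← hwv', ← map_mul, show w * w = 1 from Subtype.ext (mul_self_eq_one hS hw.1), map_one]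
    exact hwu ((commute_mul_iff hS hw.1 hv hu.1 hvw.symm).mp (commute_of_proj_eq_one h1 hu)).1.symm
  · have hset : IsThreeTranspositionSet {z : PerpQuot D d | (z ∈ perpImage D d) ∧ z ≠ 1} := by
      refine ⟨?_, ?_⟩
      · rintro _ ⟨⟨z, hz, rfl⟩, hz1⟩
        haveI : Fact (Nat.Prime 2) := ⟨Nat.prime_two⟩
        refine orderOf_eq_prime ?_ hz1
        rw [← QuotientGroup.mk'_apply, ← map_pow, pow_two,
          show z * z = 1 from Subtype.ext (mul_self_eq_one hS hz.1), map_one]
      · rintro _ ⟨⟨z, hz, rfl⟩, -⟩ _ ⟨⟨z', hz', rfl⟩, -⟩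
        rcases (restrict_set hS (perpGroup D d)).2 z hz.1 z' hz'.1 with h | h
        · exact Or.inl (by rw [← QuotientGroup.mk_mul, ← QuotientGroup.mk_pow, h]; rfl)
        · exact Or.inr (by rw [← QuotientGroup.mk_mul, ← QuotientGroup.mk_pow, h]; rfl)
    refine hwu' ((commute_mul_iff hset ⟨hw'.1, fun h => hwu' ?_⟩ ⟨hvn'.1, fun h => huv' ?_⟩
      ⟨hu'.1, fun h => huv' ?_⟩ hwv').mp hcomm).1.symm
    · rw [show (w : PerpQuot D d) = 1 from h]; exact Commute.one_left _
    · rw [h]; exact Commute.one_right _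
    · rw [show proj D d u = 1 from h]; exact Commute.one_left _

/-- The 3-core vanishes from the vanishing one two steps down. -/
theorem pCore_three_eq_bot_two (hD : IsThreeTranspositionClass D) (hZ : Subgroup.center G = ⊥) {d : G}
    (hd : d ∈ D) {e : PerpQuot D d} (he : e ∈ perpImage D d)
    (hX : Cfsg.pCore 3 (PerpQuot (perpImage D d) e) = ⊥)
    (hne : ∃ x y : ↥(perpGroup (perpImage D d) e), ¬ Commute x y) : Cfsg.pCore 3 G = ⊥ := by
  have hS := hD.1
  have hc := class_conjClosed hD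
  haveI : Fact (Nat.Prime 3) := ⟨Nat.prime_three⟩
  have hN := Fitting.pCore_normal (G := G) 3
  refine le_bot_iff.mp (hZ ▸ le_center_of_forall hD.2.2 fun x hx e₁ he₁ => ?_)
  by_contra hne'
  obtain ⟨w', hw', -⟩ := exists_not_commute_in_nbr hne
  obtain ⟨a, ha, rfl⟩ := he
  obtain ⟨w, hw, rfl⟩ := hw'.1
  have haw : Commute (a : G) w := commute_of_proj hS ha.1 hw.1 (fun h => hw'.2.1 h.symm) hw'.2.2
  obtain ⟨g, hg⟩ := class_exists_conj hD he₁ hw.1
  set v₀ := g * (x * e₁ * x⁻¹) * g⁻¹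
  have hv : v₀ ∈ D := hc g _ (hc x e₁ he₁)
  have hvw : v₀ ≠ (w : G) := fun h => hne' (by
    rw [← hg] at h
    have h' : x * e₁ * x⁻¹ = e₁ := by simpa [v₀] using h
    show e₁ * x = x * e₁
    calc e₁ * x = x * e₁ * x⁻¹ * x := by rw [h']
      _ = x * e₁ := by group)
  have hwv : (w : G) * v₀ ∈ Cfsg.pCore 3 G := by
    have h1 : e₁ * (x * e₁ * x⁻¹) ∈ Cfsg.pCore 3 G := by
      rw [show e₁ * (x * e₁ * x⁻¹) = e₁ * x * e₁ * x⁻¹ by group]
      nth_rw 2 [← inv_eq_self hS he₁]
      exact mul_mem (hN.conj_mem x hx e₁) (inv_mem hx)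
    have h2 := hN.conj_mem _ h1 g
    rwa [show g * (e₁ * (x * e₁ * x⁻¹)) * g⁻¹ = g * e₁ * g⁻¹ * v₀ by simp [v₀, mul_assoc], hg] at h2
  have hstar := starEq_of_mul_mem (D := D) hS (N := Cfsg.pCore 3 G) (Fitting.pCore_isPGroup 3) hw.1 hv hwv
  have hnc := not_commute_of_starEq hS hv hvw.symm hstar
  have hvd : v₀ ≠ d := fun e => hnc (e ▸ hw.2.2.symm)
  have hvn : v₀ ∈ nbr D d := ⟨hv, hvd, ((hstar d hd).mp ⟨hw.2.1.symm, hw.2.2.symm⟩).2.symm⟩
  set v : ↥(perpGroup D d) := ⟨v₀, Subgroup.subset_closure hvn⟩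
  have hne2 : proj D d w ≠ proj D d v := fun h => by
    have h1 : proj D d (w * v) = 1 := by
      rw [map_mul, ← h, ← map_mul, show w * w = 1 from Subtype.ext (mul_self_eq_one hS hw.1), map_one]
    have hcm := commute_of_proj_eq_one h1 hw
    exact hnc (mul_left_cancel (a := (w : G)) (by
      show (w : G) * ((w : G) * v₀) = (w : G) * (v₀ * w)
      rw [← mul_assoc ((w : G)) v₀]; exact hcm.eq))
  have hnc' : ¬ Commute (proj D d w) (proj D d v) := fun h => hnc (commute_of_proj hS hw.1 hv hne2 h)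
  have hav : Commute (proj D d a) (proj D d v) := by
    have hwa : (w : G) ≠ (a : G) := fun h => hw'.2.1 (congrArg (proj D d) (Subtype.ext h))
    exact (show Commute a v from Subtype.ext
      ((hstar a ha.1).mp ⟨hwa.symm, haw.symm⟩).2.symm.eq).map (proj D d)
  have hvn' : proj D d v ∈ nbr (perpImage D d) (proj D d a) :=
    ⟨⟨v, hvn, rfl⟩, fun h => hnc' (by rw [h]; exact hw'.2.2.symm), hav⟩
  have hcomm : Commute (proj D d w) (proj D d w * proj D d v) :=
    core_step (z := ⟨_, mul_mem (Subgroup.subset_closure hw') (Subgroup.subset_closure hvn')⟩) hX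
      ((hN.subgroupOf _).map _ (QuotientGroup.mk'_surjective _))
      (((Fitting.pCore_isPGroup 3).comap_of_injective _ (Subgroup.subtype_injective _)).map _)
      (N := ((Cfsg.pCore 3 G).subgroupOf (perpGroup D d)).map (proj D d))
      ⟨w * v, Subgroup.mem_subgroupOf.mpr hwv, map_mul _ _ _⟩ hw'
  exact hnc' (mul_left_cancel (a := proj D d w) (hcomm.eq.trans (mul_assoc _ _ _)))

/-- the perp quotient at the member of the definition is recognised -/
theorem perp_hyps (hD : IsThreeTranspositionGroup D) (hprim : IsPrimitiveUnderConj D)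
    (hZ : Subgroup.center G = ⊥) {d : G} (hd : d ∈ D) (h : IsOfTypeM23 (PerpQuot D d) (perpImage D d)) :
    IsThreeTranspositionGroup (perpImage D d) ∧ IsPrimitiveUnderConj (perpImage D d) ∧ Sep D ∧
      (∃ a ∈ D, ∃ b ∈ D, a ≠ b ∧ Commute a b) ∧ Cfsg.pCore 2 G = ⊥ := by
  have hDc := (class_of_primitive hD hprim).1
  haveI : Fact (Nat.Prime 2) := ⟨Nat.prime_two⟩
  haveI : Fact (Nat.Prime 3) := ⟨Nat.prime_three⟩
  have h2G : Cfsg.pCore 2 G = ⊥ := le_bot_iff.mp (hZ ▸ pCore_two_le_center hD hprim)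
  have hsep := sep_of_pCore hD.1 hD.2.1 h2G
  obtain ⟨hZX, d', hd', c', hc', hdc', ⟨-, d₂, hd₂, c₂, hc₂, hdc₂, ⟨F, iF, iFt, hF, ⟨e⟩⟩, -⟩, -⟩ := h
  have hne : ∃ x y : ↥(perpGroup D d), ¬ Commute x y := by
    obtain ⟨a, ha, rfl⟩ := hd'
    obtain ⟨b, hb, rfl⟩ := hc'
    exact ⟨a, b, fun hab => hdc' (hab.map (QuotientGroup.mk' _))⟩
  have hX := perpImage_isClass hDc hprim hsep hd hne
  have hne' : ∃ x y : ↥(perpGroup (perpImage D d) d'), ¬ Commute x y := by
    obtain ⟨a, ha, rfl⟩ := hd₂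
    obtain ⟨b, hb, rfl⟩ := hc₂
    exact ⟨a, b, fun hab => hdc₂ (hab.map (QuotientGroup.mk' _))⟩
  obtain ⟨K⟩ := CfsgLib.Classical.Herm.exists_conj_of_card (F := F) (q := 2) (by rw [hF]; norm_num)
  haveI : IsSimpleGroup (PSU 6 F 2) := by
    obtain ⟨p, _⟩ := CharP.exists F
    obtain ⟨k, hp, -⟩ := FiniteField.card F p
    have := Fact.mk hp
    exact CfsgLib.Classical.Herm.isSimpleGroup K p (by norm_num) (by norm_num)
  haveI : Nontrivial (PerpQuot (perpImage (perpImage D d) d') d₂) := e.toEquiv.nontrivial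
  haveI : IsSimpleGroup (PerpQuot (perpImage (perpImage D d) d') d₂) :=
    IsSimpleGroup.isSimpleGroup_of_surjective e.symm.toMonoidHom e.symm.surjective
  have hne'' : ∃ x y : ↥(perpGroup (perpImage (perpImage D d) d') d₂), ¬ Commute x y :=
    not_commutative_of_simple_quotient
  have hnab : ∃ x y : PerpQuot (perpImage (perpImage D d) d') d₂, ¬ Commute x y := by
    by_contra! hcomm
    obtain ⟨x, y, hxy⟩ := hne''
    have hcyc : IsCyclic (PerpQuot (perpImage (perpImage D d) d') d₂) :=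
      letI : CommGroup (PerpQuot (perpImage (perpImage D d) d') d₂) :=
        { (inferInstance : Group (PerpQuot (perpImage (perpImage D d) d') d₂)) with
          mul_comm := fun a b => (hcomm a b).eq }
      IsSimpleGroup.isCyclic
    exact hxy (commutative_of_cyclic_center_quotient (QuotientGroup.mk' _)
      (le_of_eq (QuotientGroup.ker_mk' _)) x y)
  have h3'' : Cfsg.pCore 3 (PerpQuot (perpImage (perpImage D d) d') d₂) = ⊥ := by
    rcases Subgroup.Normal.eq_bot_or_eq_top
      (Fitting.pCore_normal (G := PerpQuot (perpImage (perpImage D d) d') d₂) 3) with h' | h'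
    · exact h'
    · exfalso
      haveI : Group.IsNilpotent (Cfsg.pCore 3 (PerpQuot (perpImage (perpImage D d) d') d₂)) :=
        (Fitting.pCore_isPGroup (G := PerpQuot (perpImage (perpImage D d) d') d₂) 3).isNilpotent
      haveI : Group.IsNilpotent (PerpQuot (perpImage (perpImage D d) d') d₂) :=
        Group.nilpotent_of_mulEquiv ((MulEquiv.subgroupCongr h').trans Subgroup.topEquiv)
      obtain ⟨x, y, hxy⟩ := hnab
      exact hxy (IsSimpleGroup.comm_iff_isSolvable.mpr inferInstance x y)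
  have h2X := pCore_two_eq_bot_two hX hZX hd' hd₂ (pCore_two_eq_bot_of_simple hnab) hne''
  have h3X := pCore_three_eq_bot_two hX hZX hd' hd₂ h3'' hne''
  refine ⟨perpImage_isGroup hDc hsep hd,
    perpQuot_primitive hDc hprim hsep hd hne (M23.pCore_le_center_of_quot 2 h2X)
      (M23.pCore_le_center_of_quot 3 h3X) hd' hne', hsep, ?_, h2G⟩
  obtain ⟨a, ha, -⟩ := hd'
  exact ⟨d, hd, a, ha.1, ha.2.1.symm, ha.2.2⟩

end CfsgLib.M24
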