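import Cfsg.Agent.Lib.M24.Local
import Cfsg.Agent.Lib.Fi23Pres.Cover

/-!
Products of commuting members in a group of type M(24).
-/

set_option autoImplicit false

namespace CfsgLib.M24

open Cfsg CfsgLib.ThreeTransp CfsgLib.ThreeTransp.Relations CfsgLib.Fi23Pres Cfsg.Spor

/-- a member commuting with the product of two commuting members commutes with both -/
theorem commute_of_commute_prod {G : Type*} [Group G] {D : Set G} (hS : IsThreeTranspositionSet D)
    {a b c : G} (ha : a ∈ D) (hb : b ∈ D) (hc : c ∈ D) (hne : b ≠ c)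
    (h : Commute a (b * c)) : Commute a b ∧ Commute a c := by
  have hb2 := mul_self_eq_one hS hb
  have hc2 := mul_self_eq_one hS hc
  have ha2 := mul_self_eq_one hS ha
  have hab : Commute a b := by
    by_contra hab
    have hac : ¬ Commute a c := fun hac => hab (by
      have := h.mul_right hac
      rwa [mul_assoc, hc2, mul_one] at this)
    have h1 : a * b * a * (a * c * a) = b * c := by
      calc a * b * a * (a * c * a) = a * (b * ((a * a) * c)) * a := by group
        _ = a * (b * c) * a := by rw [ha2, one_mul]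
        _ = b * c := by rw [h.eq, mul_assoc, ha2, mul_one]
    rw [braid hS ha hb hab, braid hS ha hc hac] at h1
    have h2 : a * (b * c) * a = 1 := by
      calc a * (b * c) * a = (b * b) * (a * (b * c) * a) * (c * c) := by rw [hb2, hc2, one_mul, mul_one]
        _ = b * (b * a * b * (c * a * c)) * c := by group
        _ = b * (b * c) * c := by rw [h1]
        _ = (b * b) * (c * c) := by group
        _ = 1 := by rw [hb2, hc2, one_mul]
    rw [h.eq, mul_assoc, ha2, mul_one] at h2
    exact hne (by rw [eq_inv_of_mul_eq_one_left h2, inv_eq_self hS hc])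
  refine ⟨hab, ?_⟩
  have := hab.mul_right h
  rwa [← mul_assoc, hb2, one_mul] at this

namespace Pre

variable {G : Type*} [Group G] [Finite G] {D : Set G}

/-- the product of three commuting members is not a member -/
theorem mul_three_not_mem (P : Pre G D) {a b c : G} (ha : a ∈ D) (hb : b ∈ D) (hc : c ∈ D)
    (hab : a ≠ b) (hac : a ≠ c) (hbc : b ≠ c) (cab : Commute a b) (cac : Commute a c) (cbc : Commute b c) :
    a * b * c ∉ D := by
  intro he
  have hS := P.hD.1
  have ha2 := mul_self_eq_one hS ha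
  have hb2 := mul_self_eq_one hS hb
  have hc2 := mul_self_eq_one hS hc
  have e1 : a ≠ a * b * c := fun e => hbc (by
    have h : b * c = 1 := by rw [mul_assoc] at e; exact mul_eq_left.mp e.symm
    rw [eq_inv_of_mul_eq_one_left h, inv_eq_self hS hc])
  have e2 : b ≠ a * b * c := fun e => hac (by
    have h : a * c = 1 := by
      rw [cab.eq, mul_assoc] at e; exact mul_eq_left.mp e.symm
    rw [eq_inv_of_mul_eq_one_left h, inv_eq_self hS hc])
  have e3 : c ≠ a * b * c := fun e => hab (by
    have h : a * b = 1 := mul_eq_right.mp e.symm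
    rw [eq_inv_of_mul_eq_one_left h, inv_eq_self hS hb])
  refine mul_four_ne_one hS P.hsep ha hb hc he hab hac e1 hbc e2 e3 cab cac ?_ cbc ?_ ?_ ?_
  · exact ((Commute.refl a).mul_right cab).mul_right cac
  · exact (cab.symm.mul_right (Commute.refl b)).mul_right cbc
  · exact (cac.symm.mul_right cbc.symm).mul_right (Commute.refl c)
  · exact mul_self_eq_one hS he

/-- the pair is determined by its product -/
theorem pair_unique (P : Pre G D) {a b u v : G} (ha : a ∈ D) (hb : b ∈ D) (hu : u ∈ D) (hv : v ∈ D)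
    (huv : u ≠ v) (cuv : Commute u v) (cab : Commute a b) (h : a * b = u * v) :
    (a = u ∧ b = v) ∨ (a = v ∧ b = u) := by
  have hS := P.hD.1
  have hba : b = a * (u * v) := by rw [← h, ← mul_assoc, mul_self_eq_one hS ha, one_mul]
  by_cases e1 : a = u
  · exact Or.inl ⟨e1, by rw [hba, e1, ← mul_assoc, mul_self_eq_one hS hu, one_mul]⟩
  by_cases e2 : a = v
  · exact Or.inr ⟨e2, by rw [hba, e2, cuv.eq, ← mul_assoc, mul_self_eq_one hS hv, one_mul]⟩
  obtain ⟨c1, c2⟩ := commute_of_commute_prod hS ha hu hv huv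
    (h ▸ (Commute.refl a).mul_right cab)
  rw [← mul_assoc] at hba
  exact absurd (hba ▸ hb) (P.mul_three_not_mem ha hu hv e1 e2 huv c1 c2 cuv)

/-- two ordered pairs of distinct commuting members are conjugate in the derived group -/
theorem exists_move (P : Pre G D) {σ : G →* Multiplicative (ZMod 2)}
    (hσ : ∀ a ∈ D, σ a = Multiplicative.ofAdd 1) {u v : G} (hu : u ∈ D) (hv : v ∈ D) (huv : u ≠ v)
    (cuv : Commute u v) :
    ∃ g : G, ∃ p : Pt, g ∈ σ.ker ∧ g * P.d * g⁻¹ = u ∧ g * P.lift p * g⁻¹ = v := by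
  obtain ⟨g₀, hg₀⟩ := class_exists_conj P.hDc P.hd hu
  obtain ⟨g, hgker, hg⟩ : ∃ g ∈ σ.ker, g * P.d * g⁻¹ = u := by
    rcases eq_or_ne (σ g₀) 1 with h | h
    · exact ⟨g₀, h, hg₀⟩
    · refine ⟨g₀ * P.d, ?_, ?_⟩
      · rw [MonoidHom.mem_ker, map_mul, hσ _ P.hd]
        revert h
        generalize σ g₀ = t
        revert t; decide
      · rw [← hg₀]; group
  obtain ⟨p, hp⟩ := P.exists_point (y := g⁻¹ * v * g) ⟨by simpa using P.hD.2.1 g⁻¹ v hv,
    fun e => huv (by rw [← hg, ← e]; group), by
      refine (Commute.conj_iff g).mp ?_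
      rw [hg, show g * (g⁻¹ * v * g) * g⁻¹ = v by group]
      exact cuv⟩
  exact ⟨g, p, hgker, hg, by rw [hp]; group⟩

/-- the centraliser of a point in Fi23 -/
theorem centralizer_tp (p : Pt) :
    ∃ φ : ↥(Subgroup.centralizer ({tp p} : Set Fi23)) ≃* subA,
      φ ⟨tp p, Subgroup.mem_centralizer_singleton_iff.mpr rfl⟩ = zSub := by
  obtain ⟨g, hg⟩ := class_exists_conj transClass_three (tp_mem p) mem_conjugatesOf_self
  have hmap : (Subgroup.centralizer ({tp p} : Set Fi23)).map (MulAut.conj g).toMonoidHom = subA := by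
    rw [← centralizer_central, ← hg]
    ext y
    rw [Subgroup.mem_map_equiv, MulAut.conj_symm_apply, Subgroup.mem_centralizer_singleton_iff,
      Subgroup.mem_centralizer_singleton_iff]
    constructor
    · intro h
      calc y * (g * tp p * g⁻¹) = g * (g⁻¹ * y * g * tp p) * g⁻¹ := by group
        _ = g * (tp p * (g⁻¹ * y * g)) * g⁻¹ := by rw [h]
        _ = g * tp p * g⁻¹ * y := by group
    · intro h
      calc g⁻¹ * y * g * tp p = g⁻¹ * (y * (g * tp p * g⁻¹)) * g := by group
        _ = g⁻¹ * (g * tp p * g⁻¹ * y) * g := by rw [h]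
        _ = tp p * (g⁻¹ * y * g) := by group
  refine ⟨((Subgroup.centralizer ({tp p} : Set Fi23)).equivMapOfInjective _
    (MulAut.conj g).injective).trans (MulEquiv.subgroupCongr hmap), Subtype.ext ?_⟩
  rw [zSub_val]
  exact hg

/-- the even part of the centraliser of `d` and a second member is the double cover of Fi22 -/
theorem exists_pair_iso {P : Pre G D} (hP : Standard P) {σ : G →* Multiplicative (ZMod 2)}
    (hσ : ∀ a ∈ D, σ a = Multiplicative.ofAdd 1) (p : Pt) (H : Subgroup G)
    (hH : ∀ x, x ∈ H ↔ x ∈ σ.ker ∧ Commute x P.d ∧ Commute x (P.lift p)) :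
    ∃ φ : H ≃* subA, ∀ x : H, (x : G) = P.d * P.lift p → φ x = zSub := by
  have hle : H ≤ perpGroup D P.d := fun x hx => (mem_perp hP).mpr ((hH x).mp hx).2.1
  have hmem : ∀ x : H, P.π (Subgroup.inclusion hle x) ∈ Subgroup.centralizer ({tp p} : Set Fi23) := by
    intro x
    have hc : Commute (Subgroup.inclusion hle x) (P.liftH p) := Subtype.ext ((hH x).mp x.2).2.2.eq
    have := (hc.map P.π).eq
    rw [P.π_lift] at this
    exact Subgroup.mem_centralizer_singleton_iff.mpr this
  let f : H →* ↥(Subgroup.centralizer ({tp p} : Set Fi23)) :=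
    (P.π.comp (Subgroup.inclusion hle)).codRestrict _ hmem
  have hone : ∀ a ∈ D, σ a ≠ 1 := fun a ha h => absurd (h.symm.trans (hσ a ha)) (by decide)
  have hinj : Function.Injective f := by
    rw [injective_iff_map_eq_one]
    intro x hx
    rcases (ker_mem hP).mp (congrArg Subtype.val hx : P.π (Subgroup.inclusion hle x) = 1) with e | e
    · exact Subtype.ext e
    · exact absurd (e ▸ MonoidHom.mem_ker.mp ((hH x).mp x.2).1 : σ P.d = 1) (hone _ P.hd)
  have hsurj : Function.Surjective f := by
    rintro ⟨y, hy⟩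
    obtain ⟨h, rfl⟩ := P.π_surjective y
    have hrho : rho (P.π h) p = p := tp_inj (by
      rw [← tp_smul, Subgroup.mem_centralizer_singleton_iff.mp hy, mul_inv_cancel_right])
    have hu : Commute (h : G) (P.lift p) := by
      have := P.lift_conj h p
      rw [hrho] at this
      exact (eq_mul_inv_iff_mul_eq.mp this).symm
    have hd : Commute (h : G) P.d := (mem_perp hP).mp h.2
    rcases eq_or_ne (σ (h : G)) 1 with hs | hs
    · exact ⟨⟨h, (hH _).mpr ⟨hs, hd, hu⟩⟩, Subtype.ext rfl⟩
    · have hs' : (h : G) * P.d ∈ σ.ker := by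
        rw [MonoidHom.mem_ker, map_mul, hσ _ P.hd]
        revert hs
        generalize σ (h : G) = t
        revert t; decide
      refine ⟨⟨h * P.d, (hH _).mpr ⟨hs', hd.mul_left (Commute.refl _),
        hu.mul_left (P.lift_mem p).2.2⟩⟩, Subtype.ext ?_⟩
      show P.π ⟨(h : G) * P.d, _⟩ = P.π h
      rw [show (⟨(h : G) * P.d, (mem_perp hP).mpr (hd.mul_left (Commute.refl _))⟩ : perpGroup D P.d) =
        h * ⟨P.d, d_mem hP⟩ from rfl, map_mul, π_d hP, mul_one]
  obtain ⟨φ, hφ⟩ := centralizer_tp p
  refine ⟨(MulEquiv.ofBijective f ⟨hinj, hsurj⟩).trans φ, fun x hx => ?_⟩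
  rw [MulEquiv.trans_apply, ← hφ]
  refine congrArg φ (Subtype.ext ?_)
  show P.π (Subgroup.inclusion hle x) = tp p
  rw [show Subgroup.inclusion hle x = ⟨P.d, d_mem hP⟩ * P.liftH p from Subtype.ext hx, map_mul,
    π_d hP, one_mul, P.π_lift]

end Pre

end CfsgLib.M24
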