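import Cfsg.Agent.Lib.Fi24Pres.Index
import Cfsg.Agent.Lib.M24.DataZR

/-!
Groups with the Coxeter relations of Fi24 and the relation for the letter `l`: words in the letters other
than `k` are governed by Fi23 × 2.
-/

set_option autoImplicit false

namespace CfsgLib.M24

open CfsgLib.CosetEnum CfsgLib.Fi24Pres Fi23Mult Cfsg.Spor

theorem zr_red : reduces adjB 12 zrMoves
    (minusOne ++ rootEight ++ minusOne.reverse ++ rootEight) = true := by decide +kernel

/-- the relations of the diagram -/
structure Cox24 {Γ : Type*} [Group Γ] (f : ℕ → Γ) : Prop where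
  cox : CoxLifts adjB 12 f
  sq : ∀ g, f g * f g = 1

namespace Cox24

variable {Γ : Type*} [Group Γ] {f : ℕ → Γ} (hf : Cox24 f)
include hf

theorem prodW_rev (w : List ℕ) : prodW f w.reverse = (prodW f w)⁻¹ := by
  induction w with
  | nil => simp
  | cons g w ih =>
    rw [List.reverse_cons, prodW_append, ih, prodW_cons, prodW_cons, prodW_nil, mul_one, mul_inv_rev,
      prodW_self_inv hf.sq g]

theorem commute {a b : ℕ} (ha : a < 12) (hb : b < 12) (h : adjB a b = false) : Commute (f a) (f b) :=
  hf.cox.comm a ha b hb h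

/-- the central word of E7 is the product of the central involution and the highest reflection of E8 -/
theorem seven_ident : prodW f sevenW = prodW f minusOne * prodW f rootEight ∧
    Commute (prodW f minusOne) (prodW f rootEight) ∧ prodW f minusOne * prodW f minusOne = 1 ∧
    prodW f rootEight * prodW f rootEight = 1 ∧ Commute (prodW f minusOne) (f 11) ∧
    (prodW f rootEight * f 11) ^ 3 = 1 := by
  have h1 := reduces_prod hf.cox seven_red
  have h2 := reduces_prod hf.cox zk_red
  have h3 := reduces_prod hf.cox rk_red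
  have h4 := reduces_prod hf.cox zsq_red
  have h5 := reduces_prod hf.cox zr_red
  simp only [prodW_append, prodW_cons, prodW_nil, mul_one, hf.prodW_rev, prodW_powWord] at h1 h2 h3 h4 h5
  set Z := prodW f minusOne
  set R := prodW f rootEight
  have hR : R * R = 1 := by
    have h := hf.prodW_rev rootEight
    rwa [root_rev, eq_inv_iff_mul_eq_one] at h
  have iZ : Z⁻¹ = Z := inv_eq_of_mul_eq_one_right h4
  have iR : R⁻¹ = R := inv_eq_of_mul_eq_one_right hR
  have hcomm : ∀ x, x * x = 1 → Z * x * Z⁻¹ * x = 1 → Commute Z x := fun x hx h => by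
    have e := eq_inv_of_mul_eq_one_left h
    rw [inv_eq_of_mul_eq_one_right hx, mul_inv_eq_iff_eq_mul] at e
    exact e
  have hZR : Commute Z R := hcomm R hR h5
  refine ⟨?_, hZR, h4, hR, hcomm _ (hf.sq 11) (by simpa [mul_assoc] using h2), h3⟩
  rw [mul_eq_one_iff_eq_inv.mp h1, mul_inv_rev, iZ, iR]

end Cox24

/-- the diagram relations and the relation for `l` -/
structure Rel24 {Γ : Type*} [Group Γ] (f : ℕ → Γ) : Prop extends Cox24 f where
  ten : f 10 = prodW f sevenW

namespace Rel24

variable {Γ : Type*} [Group Γ] {f : ℕ → Γ} (hf : Rel24 f)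
include hf

theorem ten_comm {g : ℕ} (hg : g < 11) : Commute (f g) (f 10) := by
  have h : ∀ g < 11, adjB g 10 = false := by decide +kernel
  exact hf.cox.comm g (by omega) 10 (by norm_num) (h g hg)

/-- the central involution of E8 is trivial and `l` is a reflection -/
theorem ten_root : prodW f minusOne = 1 ∧ f 10 = prodW f rootEight := by
  obtain ⟨h1, hZR, h4, hR, hZK, h3⟩ := hf.toCox24.seven_ident
  rw [← hf.ten] at h1
  set Z := prodW f minusOne
  set R := prodW f rootEight
  have hb := hf.cox.braid 10 (by norm_num) 11 (by norm_num) rfl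
  have hcube : (f 10 * f 11) ^ 3 = 1 := by
    calc (f 10 * f 11) ^ 3 = (f 10 * f 11 * f 10) * (f 11 * f 10 * f 11) := by
          simp only [pow_succ, pow_zero, one_mul, mul_assoc]
      _ = (f 11 * f 10 * f 11) * (f 11 * f 10 * f 11) := by rw [hb]
      _ = f 11 * (f 10 * ((f 11 * f 11) * (f 10 * f 11))) := by simp only [mul_assoc]
      _ = 1 := by rw [hf.sq, one_mul, ← mul_assoc (f 10), hf.sq, one_mul, hf.sq]
  rw [h1, mul_assoc, (hZR.mul_right hZK).mul_pow, h3, mul_one, pow_succ, pow_two, h4, one_mul] at hcube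
  exact ⟨hcube, by rw [h1, hcube, one_mul]⟩

theorem exists_psi : ∃ ψ : Fi24Pres.K →* Γ, ∀ g < 11, ψ (genK g) = f g := by
  set F : ℕ → Γ := fun g => f g * f 10
  have hw : ∀ w : List ℕ, (∀ g ∈ w, g < 10) → prodW F w = prodW f w * f 10 ^ w.length := by
    intro w hw
    induction w with
    | nil => simp
    | cons g w ih =>
      rw [List.forall_mem_cons] at hw
      have hc : Commute (f 10) (prodW f w) := Fi24Spider.commute_word fun x hx =>
        (hf.ten_comm (show x < 11 by have := hw.2 x hx; omega)).symm
      rw [prodW_cons, ih hw.2, prodW_cons, List.length_cons, pow_succ', mul_assoc, mul_assoc,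
        ← mul_assoc (f 10), hc.eq, mul_assoc]
  have hlab : ∀ p < 10, ∀ q < 10, M23.lab p q = if p = q then 1 else if adjB p q then 3 else 2 := by
    decide +kernel
  have hpair : ∀ p < 10, ∀ q < 10, (F p * F q) ^ M23.lab p q = 1 := by
    intro p hp q hq
    rw [show F p * F q = f p * f q by
      simp only [F]
      rw [mul_assoc, ← mul_assoc (f 10), ← (hf.ten_comm (show q < 11 by omega)).eq, mul_assoc (f q),
        hf.sq, mul_one]]
    rw [hlab p hp q hq]
    by_cases e : p = q
    · rw [if_pos e, e, pow_one, hf.sq]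
    rw [if_neg e]
    cases ha : adjB p q
    · have hc := hf.cox.comm p (by omega) q (by omega) ha
      rw [if_neg (by simp), pow_two, hc.symm.mul_mul_mul_comm, hf.sq, hf.sq, one_mul]
    · have hb := hf.cox.braid p (by omega) q (by omega) ha
      rw [if_pos rfl, show (f p * f q) ^ 3 = (f p * f q * f p) * (f q * f p * f q) by
        simp only [pow_succ, pow_zero, one_mul, mul_assoc], hb]
      calc f q * f p * f q * (f q * f p * f q) = f q * (f p * ((f q * f q) * (f p * f q))) := by
            simp only [mul_assoc]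
        _ = 1 := by rw [hf.sq, one_mul, ← mul_assoc (f p), hf.sq, one_mul, hf.sq]
  have hA : prodW F M23.wordA = 1 := by
    rw [hw _ (by decide +kernel), show M23.wordA = sevenW from rfl, ← hf.ten,
      show sevenW.length = 2 * 31 + 1 by decide +kernel, pow_succ, pow_mul, pow_two, hf.sq, one_pow,
      one_mul, hf.sq]
  obtain ⟨ψ, hψ⟩ := Fi24Spider.exists_lift3 F hpair hA
  have hS : prodW F M23.wordS = 1 := by
    rw [← prodW_congr (gen := fun g => ψ (Fi24Spider.gen3 g)) (fun g hg => hψ g (by
      have : ∀ g ∈ M23.wordS, g < 10 := by decide +kernel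
      exact this g hg)), ← map_prodW, Fi24Spider.spider3, map_one]
  obtain ⟨φ, hφ⟩ := M23.exists_hom F hpair hS hA
  have key : ∀ y : Fi23, Commute (φ y) (f 10) := by
    intro y
    have hy : y ∈ Subgroup.closure {x | ∃ g < Fi23Pres.certA.K, Fi23Pres.gen g = x} := by
      rw [Fi23Pres.setupA.gen_top]; trivial
    induction hy using Subgroup.closure_induction with
    | mem x hx =>
      obtain ⟨g, hg, rfl⟩ := hx
      rw [hφ g hg]
      exact (hf.ten_comm (show g < 11 by have hK : Fi23Pres.certA.K = 10 := rfl; omega)).mul_left (Commute.refl _)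
    | one => rw [map_one]; exact Commute.one_left _
    | mul a b _ _ ha hb => rw [map_mul]; exact ha.mul_left hb
    | inv a _ ha => rw [map_inv]; exact ha.inv_left
  let θ : Multiplicative (ZMod 2) →* Γ :=
    { toFun := fun x => f 10 ^ (Multiplicative.toAdd x).val
      map_one' := by simp
      map_mul' := fun x y => by
        rw [← pow_add, toAdd_mul]
        refine pow_eq_pow_of_modEq ?_ (n := 2) (by rw [pow_two, hf.sq])
        rw [ZMod.val_add]
        exact Nat.mod_modEq _ _ }
  refine ⟨MonoidHom.noncommCoprod φ θ fun y e => (key y).pow_right _, fun g hg => ?_⟩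
  show φ (Fi23Pres.gen g) * θ (Multiplicative.ofAdd 1) = f g
  have ht : θ (Multiplicative.ofAdd 1) = f 10 := by
    show f 10 ^ (1 : ZMod 2).val = f 10
    rw [ZMod.val_one, pow_one]
  rw [ht]
  by_cases h : g < 10
  · rw [hφ g h, mul_assoc, hf.sq, mul_one]
  · obtain rfl : g = 10 := by omega
    rw [ten_fst, map_one, one_mul]

/-- words equal in the cover are equal -/
theorem eq_of_eqK {u w : List ℕ} (hu : ∀ g ∈ u, g < 11) (hw : ∀ g ∈ w, g < 11)
    (h : eqK u w = true) : prodW f u = prodW f w := by
  obtain ⟨ψ, hψ⟩ := hf.exists_psi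
  have key : ∀ v : List ℕ, (∀ g ∈ v, g < 11) → ψ (prodW genK v) = prodW f v := fun v hv => by
    rw [map_prodW]
    exact prodW_congr fun g hg => hψ g (hv g hg)
  rw [← key u hu, ← key w hw, eqK_spec h]

end Rel24

end CfsgLib.M24
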