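import Cfsg.Agent.Lib.M24.PerpHyps
import Cfsg.Agent.Lib.M24.Shape
import Cfsg.Agent.Lib.M23.Recognised
import Cfsg.Agent.Lib.Fi24Pres.Defs

/-!
The perp of a non-commuting pair in a group of type M(24), seen in Fi23.
-/

set_option autoImplicit false

namespace CfsgLib.M24

open Cfsg CfsgLib.ThreeTransp CfsgLib.ThreeTransp.Relations CfsgLib.CosetEnum CfsgLib.Fi23Pres Cfsg.Spor

/-- A non-commuting pair, the perp group of the first identified with Fi23. -/
structure Pre (G : Type*) [Group G] [Finite G] (D : Set G) where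
  hD : IsThreeTranspositionGroup D
  hprim : IsPrimitiveUnderConj D
  hZ : Subgroup.center G = ⊥
  hsep : Sep D
  hw : ∃ a ∈ D, ∃ b ∈ D, a ≠ b ∧ Commute a b
  /-- the first member -/
  d : G
  /-- the second member -/
  c : G
  hd : d ∈ D
  hc : c ∈ D
  hdc : ¬ Commute d c
  /-- the identification -/
  e : Fi23 ≃* PerpQuot D d
  he : e '' transClass = perpImage D d
  hsur : ∃ f : ↥(Subgroup.closure (nbr D d ∩ nbr D c)) →* Equiv.Perm (Fin 3), Function.Surjective f

namespace Pre

variable {G : Type*} [Group G] [Finite G] {D : Set G} (P : Pre G D)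

theorem hDc (P : Pre G D) : IsThreeTranspositionClass D := (class_of_primitive P.hD P.hprim).1

/-- the map onto Fi23 -/
noncomputable def π : ↥(perpGroup D P.d) →* Fi23 := P.e.symm.toMonoidHom.comp (proj D P.d)

theorem π_surjective : Function.Surjective P.π :=
  P.e.symm.surjective.comp (QuotientGroup.mk'_surjective _)

theorem π_eq_one {y : ↥(perpGroup D P.d)} (h : P.π y = 1) {u : G} (hu : u ∈ nbr D P.d) :
    Commute u (y : G) :=
  commute_of_proj_eq_one (P.e.symm.injective (h.trans (map_one _).symm)) hu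

theorem exists_lift (x : Pt) : ∃ y : ↥(perpGroup D P.d), (y : G) ∈ nbr D P.d ∧ P.π y = tp x := by
  have h : P.e (tp x) ∈ perpImage D P.d := P.he ▸ Set.mem_image_of_mem _ (tp_mem x)
  obtain ⟨y, hy, e⟩ := h
  exact ⟨y, hy, by rw [π, MonoidHom.comp_apply]; exact (congrArg P.e.symm e).trans (P.e.symm_apply_apply _)⟩

/-- the member over a point, in the perp group -/
noncomputable def liftH (x : Pt) : ↥(perpGroup D P.d) := (P.exists_lift x).choose

/-- the member over a point -/
noncomputable def lift (x : Pt) : G := P.liftH x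

theorem lift_mem (x : Pt) : P.lift x ∈ nbr D P.d := (P.exists_lift x).choose_spec.1

theorem π_lift (x : Pt) : P.π (P.liftH x) = tp x := (P.exists_lift x).choose_spec.2

theorem π_injOn {y z : ↥(perpGroup D P.d)} (hy : (y : G) ∈ nbr D P.d) (hz : (z : G) ∈ nbr D P.d)
    (h : P.π y = P.π z) : y = z :=
  proj_injective P.hDc P.hsep P.hd hy hz (P.e.symm.injective h)

theorem lift_inj {x y : Pt} (h : P.lift x = P.lift y) : x = y := by
  have : P.liftH x = P.liftH y := Subtype.ext h
  exact tp_inj (by rw [← P.π_lift x, ← P.π_lift y, this])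

theorem lift_unique {y : ↥(perpGroup D P.d)} (hy : (y : G) ∈ nbr D P.d) {x : Pt} (h : P.π y = tp x) :
    P.lift x = y :=
  congrArg Subtype.val (P.π_injOn (P.lift_mem x) hy ((P.π_lift x).trans h.symm))

theorem exists_point {y : G} (hy : y ∈ nbr D P.d) : ∃ x : Pt, P.lift x = y := by
  have h : proj D P.d ⟨y, Subgroup.subset_closure hy⟩ ∈ P.e '' transClass := by
    rw [P.he]; exact ⟨_, hy, rfl⟩
  obtain ⟨t, ht, e⟩ := h
  obtain ⟨x, rfl⟩ := exists_tp ht
  refine ⟨x, P.lift_unique (y := ⟨y, Subgroup.subset_closure hy⟩) hy ?_⟩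
  rw [π, MonoidHom.comp_apply, ← e]
  exact P.e.symm_apply_apply _

theorem lift_comm (x y : Pt) : Commute (P.lift x) (P.lift y) ↔ comB x y = true := by
  rw [comB_iff, ← P.π_lift, ← P.π_lift]
  refine ⟨fun h => (show Commute (P.liftH x) (P.liftH y) from Subtype.ext h.eq).map P.π, fun h => ?_⟩
  by_cases hxy : x = y
  · subst hxy; exact Commute.refl _
  · refine commute_of_proj P.hD.1 (P.lift_mem x).1 (P.lift_mem y).1 (fun e => hxy (P.lift_inj ?_)) ?_
    · exact congrArg Subtype.val (proj_injective P.hDc P.hsep P.hd (P.lift_mem x) (P.lift_mem y) e)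
    · have := h.map P.e
      simpa [π] using this

theorem lift_conj (g : ↥(perpGroup D P.d)) (x : Pt) :
    P.lift (rho (P.π g) x) = g * P.lift x * (g : G)⁻¹ := by
  refine P.lift_unique (y := g * P.liftH x * g⁻¹)
    (conj_mem_nbr (class_conjClosed P.hDc) (commute_of_mem_perpGroup g.2) (P.lift_mem x)) ?_
  rw [map_mul, map_mul, map_inv, P.π_lift, tp_smul]

theorem lift_act (x y : Pt) : P.lift (rho (tp x) y) = P.lift x * P.lift y * (P.lift x)⁻¹ := by
  rw [← P.π_lift x]
  exact P.lift_conj (P.liftH x) y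

/-- the points over the perp of the pair -/
def S (x : Pt) : Prop := Commute (P.lift x) P.c

theorem lift_ne_c (x : Pt) : P.lift x ≠ P.c := fun e => P.hdc (e ▸ (P.lift_mem x).2.2)

theorem S_nonempty : ∃ x, P.S x := by
  by_contra! h
  obtain ⟨f, hf⟩ := P.hsur
  have he : nbr D P.d ∩ nbr D P.c = ∅ := by
    refine Set.eq_empty_iff_forall_notMem.mpr fun y hy => ?_
    obtain ⟨x, rfl⟩ := P.exists_point hy.1
    exact h x hy.2.2.2.symm
  have hbot : ∀ z : ↥(Subgroup.closure (nbr D P.d ∩ nbr D P.c)), z = 1 := fun z => Subtype.ext (by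
    have h1 := z.2
    have h2 : Subgroup.closure (nbr D P.d ∩ nbr D P.c) = ⊥ := by rw [he, Subgroup.closure_empty]
    exact Subgroup.mem_bot.mp (h2.le h1))
  obtain ⟨z, hz⟩ := hf (Equiv.swap 0 1)
  rw [hbot z, map_one] at hz
  exact absurd hz (by decide)

theorem S_transport {p : Pt} (hp : P.S p) : ∃ A B : Pt, ∃ ψ : Pt → G, comB A B = false ∧
    Function.Injective ψ ∧ (∀ x y, Commute (ψ x) (ψ y) ↔ comB x y = true) ∧
    ψ '' commonNbr A B = P.lift '' nbrIn P.S p := by
  have hS := P.hD.1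
  have hc' := P.hD.2.1
  have ha := P.lift_mem p
  obtain ⟨g, hg⟩ := class_exists_conj P.hDc P.hd ha.1
  have hdA : g⁻¹ * P.d * g ∈ nbr D P.d := by
    refine ⟨by simpa using hc' g⁻¹ P.d P.hd, fun e => ha.2.1 ?_, ?_⟩
    · rw [← hg]
      calc g * P.d * g⁻¹ = g * (g⁻¹ * P.d * g) * g⁻¹ := by rw [e]
        _ = P.d := by group
    · have := ha.2.2.symm.map (MulAut.conj g⁻¹)
      simpa [← hg, mul_assoc] using this
  have hcA : g⁻¹ * P.c * g ∈ nbr D P.d := by
    refine ⟨by simpa using hc' g⁻¹ P.c P.hc, fun e => P.lift_ne_c p ?_, ?_⟩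
    · rw [← hg]
      calc g * P.d * g⁻¹ = g * (g⁻¹ * P.c * g) * g⁻¹ := by rw [e]
        _ = P.c := by group
    · have := hp.map (MulAut.conj g⁻¹)
      simpa [← hg, mul_assoc] using this
  obtain ⟨A, hA⟩ := P.exists_point hdA
  obtain ⟨B, hB⟩ := P.exists_point hcA
  have hAB : comB A B = false := by
    rw [Bool.eq_false_iff]
    intro h
    rw [← P.lift_comm, hA, hB] at h
    have := h.map (MulAut.conj g)
    exact P.hdc (by simpa [mul_assoc] using this)
  set ψ : Pt → G := fun y => g * P.lift y * g⁻¹ with hψ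
  have hψinj : Function.Injective ψ := fun x y h => P.lift_inj (mul_left_cancel (mul_right_cancel h))
  have hψc : ∀ x y, Commute (ψ x) (ψ y) ↔ comB x y = true := fun x y => by
    rw [← P.lift_comm]
    exact Commute.conj_iff g
  have hψA : ψ A = P.d := by show g * P.lift A * g⁻¹ = _; rw [hA]; group
  have hψB : ψ B = P.c := by show g * P.lift B * g⁻¹ = _; rw [hB]; group
  refine ⟨A, B, ψ, hAB, hψinj, hψc, ?_⟩
  ext z
  constructor
  · rintro ⟨y, hy, rfl⟩
    obtain ⟨q, hq⟩ := P.exists_point (y := ψ y) ⟨hc' g _ (P.lift_mem y).1,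
      fun e => hy.1.1 (hψinj (e.trans hψA.symm)), hψA ▸ (hψc A y).mpr hy.1.2⟩
    refine ⟨q, ⟨?_, fun e => ?_, ?_⟩, hq⟩
    · show Commute (P.lift q) P.c
      rw [hq, ← hψB]
      exact ((hψc B y).mpr hy.2.2).symm
    · rw [e, ← hg] at hq
      exact (P.lift_mem y).2.1 (mul_left_cancel (mul_right_cancel hq)).symm
    · rw [← P.lift_comm, hq, ← hg]
      exact (Commute.conj_iff g).mpr (P.lift_mem y).2.2
  · rintro ⟨q, ⟨h1, h2, h3⟩, rfl⟩
    rw [← P.lift_comm, ← hg] at h3
    have hy : g⁻¹ * P.lift q * g ∈ nbr D P.d := by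
      refine ⟨by simpa using hc' g⁻¹ _ (P.lift_mem q).1, fun e => h2 (P.lift_inj ?_), ?_⟩
      · rw [← hg, ← e]; group
      · have := h3.map (MulAut.conj g⁻¹)
        simpa [mul_assoc] using this
    obtain ⟨y, hy'⟩ := P.exists_point hy
    have hψy : ψ y = P.lift q := by show g * P.lift y * g⁻¹ = _; rw [hy']; group
    refine ⟨y, ⟨⟨fun e => ?_, ?_⟩, fun e => ?_, ?_⟩, hψy⟩
    · exact (P.lift_mem q).2.1 (by rw [← hψy, e, hψA])
    · rw [← hψc, hψA, hψy]; exact (P.lift_mem q).2.2
    · exact P.lift_ne_c q (by rw [← hψy, e, hψB])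
    · rw [← hψc, hψB, hψy]; exact h1.symm

theorem perpSet : PerpSet P.S := by
  refine ⟨P.S_nonempty, fun x y hx hy => ?_, fun p hp => ?_, fun p hp => ?_⟩
  · show Commute (P.lift (rho (tp x) y)) P.c
    rw [P.lift_act]
    exact (hx.mul_left hy).mul_left hx.inv_left
  · obtain ⟨A, B, ψ, hAB, hinj, -, e⟩ := P.S_transport hp
    rw [← Set.ncard_image_of_injective _ (fun x y h => P.lift_inj h), ← e,
      Set.ncard_image_of_injective _ hinj]
    exact (common_far hAB).1
  · obtain ⟨A, B, ψ, hAB, hinj, hcomm, e⟩ := P.S_transport hp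
    obtain ⟨f, hf, hmem⟩ := (common_far hAB).2
    have h : ∀ i, ∃ q : Pt, i < 8 → P.lift q = ψ (f i) ∧ q ∈ nbrIn P.S p := fun i => by
      by_cases hi : i < 8
      · obtain ⟨q, hq, e'⟩ := (e ▸ Set.mem_image_of_mem ψ (hmem i hi) : ψ (f i) ∈ P.lift '' nbrIn P.S p)
        exact ⟨q, fun _ => ⟨e', hq⟩⟩
      · exact ⟨p, fun h => absurd h hi⟩
    choose q hq using h
    refine ⟨q, fun i hi j hj hne => ⟨fun e' => ?_, ?_⟩, fun i hi => (hq i hi).2⟩
    · exact (hf i hi j hj hne).1 (hinj (by rw [← (hq i hi).1, ← (hq j hj).1, e']))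
    · rw [← (hf i hi j hj hne).2, Bool.eq_iff_iff, ← P.lift_comm, (hq i hi).1, (hq j hj).1, hcomm]

/-- the identification moved by an element of Fi23 -/
noncomputable def move (g : Fi23) : Pre G D :=
  { P with
    e := (MulAut.conj g).trans P.e
    he := by
      rw [← P.he, MulEquiv.coe_trans, Set.image_comp]
      refine congrArg (P.e '' ·) (Set.ext fun t => ?_)
      constructor
      · rintro ⟨s, hs, rfl⟩
        exact M23.class_conj hs
      · intro ht
        refine ⟨g⁻¹ * t * g⁻¹⁻¹, M23.class_conj ht, ?_⟩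
        simp [mul_assoc] }

theorem move_S (g : Fi23) (x : Pt) : (P.move g).S x ↔ P.S (rho g x) := by
  have h : (P.move g).lift x = P.lift (rho g x) := by
    refine (P.move g).lift_unique (y := P.liftH (rho g x)) (P.lift_mem _) ?_
    show (MulAut.conj g).symm (P.π (P.liftH (rho g x))) = tp x
    rw [P.π_lift, MulAut.conj_symm_apply, ← tp_smul]
    group
  show Commute _ _ ↔ Commute _ _
  rw [h]
  rfl

theorem letters_adj : ∀ a < 10, ∀ b < 10, a ≠ b →
    comB (tenPts.getD a 0) (tenPts.getD b 0) = !Fi24Pres.adjB a b := by decide +kernel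

theorem letterPt_comm {a b : ℕ} (ha : a < 10) (hb : b < 10) (h : a ≠ b) :
    Commute (P.lift (letterPt a)) (P.lift (letterPt b)) ↔ Fi24Pres.adjB a b = false := by
  rw [P.lift_comm, (letterPt_spec ha).1, (letterPt_spec hb).1, letters_adj a ha b hb h,
    Bool.not_eq_true']

theorem perm_three_eq : ∀ a b : Equiv.Perm (Fin 3), a * a = 1 → b * b = 1 → a * b = b * a →
    (∃ r, r * a * r⁻¹ = b) → a = b := by decide +kernel

/-- the small orbit alone is impossible -/
theorem not_small : ¬ ∀ y : Pt, P.S y ↔ Fi24Pres.orbSmallMask.testBit y = true := by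
  intro hall
  set L := Subgroup.closure (nbr D P.d ∩ nbr D P.c) with hL
  obtain ⟨f, hf⟩ : ∃ f : ↥L →* Equiv.Perm (Fin 3), Function.Surjective f := P.hsur
  have hS := P.hD.1
  have hcl : Closed P.S := P.perpSet.closed
  -- the nine members
  have hS9 : ∀ k, 1 ≤ k → k < 10 → P.S (letterPt k) := by
    intro k h1 h10
    refine (hall _).mpr ?_
    rw [(letterPt_spec h10).1]
    revert h1; revert k; decide +kernel
  have hmemL : ∀ k : ℕ, (if 1 ≤ k ∧ k < 10 then P.lift (letterPt k) else 1) ∈ L := by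
    intro k
    split
    · rename_i h
      refine Subgroup.subset_closure ⟨P.lift_mem _, (P.lift_mem _).1, P.lift_ne_c _, ?_⟩
      exact (hS9 k h.1 h.2).symm
    · exact one_mem _
  let t : ℕ → ↥L := fun k => ⟨_, hmemL k⟩
  have ht : ∀ k, 1 ≤ k → k < 10 → (t k : G) = P.lift (letterPt k) := fun k h1 h2 => if_pos ⟨h1, h2⟩
  have hcomm : ∀ a b, 1 ≤ a → a < 10 → 1 ≤ b → b < 10 → a ≠ b → Fi24Pres.adjB a b = false →
      Commute (t a) (t b) := fun a b a1 a2 b1 b2 hne h => Subtype.ext (by
    show (t a : G) * (t b : G) = (t b : G) * (t a : G)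
    rw [ht a a1 a2, ht b b1 b2]
    exact ((P.letterPt_comm a2 b2 hne).mpr h).eq)
  have hsq : ∀ a, 1 ≤ a → a < 10 → f (t a) * f (t a) = 1 := fun a a1 a2 => by
    rw [← map_mul, show t a * t a = 1 from Subtype.ext (by
      show (t a : G) * (t a : G) = 1
      rw [ht a a1 a2]; exact mul_self_eq_one hS (P.lift_mem _).1), map_one]
  have hconj : ∀ a b, 1 ≤ a → a < 10 → 1 ≤ b → b < 10 → a ≠ b → Fi24Pres.adjB a b = true →
      IsConj (f (t a)) (f (t b)) := fun a b a1 a2 b1 b2 hne h => by
    refine isConj_iff.mpr ⟨f (t a * t b), ?_⟩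
    rw [← map_inv, ← map_mul, ← map_mul]
    refine congrArg f (Subtype.ext ?_)
    show (t a : G) * (t b : G) * (t a : G) * ((t a : G) * (t b : G))⁻¹ = (t b : G)
    rw [ht a a1 a2, ht b b1 b2]
    refine (eq_conj_of_not_commute hS (P.lift_mem _).1 (P.lift_mem _).1 fun hc => ?_).symm
    rw [P.letterPt_comm a2 b2 hne, h] at hc
    cases hc
  have hcls : ∀ k, 1 ≤ k → k < 10 → IsConj (f (t 1)) (f (t k)) := by
    have c12 := hconj 1 2 (by norm_num) (by norm_num) (by norm_num) (by norm_num) (by norm_num) (by decide +kernel)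
    have c23 := hconj 2 3 (by norm_num) (by norm_num) (by norm_num) (by norm_num) (by norm_num) (by decide +kernel)
    have c34 := hconj 3 4 (by norm_num) (by norm_num) (by norm_num) (by norm_num) (by norm_num) (by decide +kernel)
    have c45 := hconj 4 5 (by norm_num) (by norm_num) (by norm_num) (by norm_num) (by norm_num) (by decide +kernel)
    have c56 := hconj 5 6 (by norm_num) (by norm_num) (by norm_num) (by norm_num) (by norm_num) (by decide +kernel)
    have c69 := hconj 6 9 (by norm_num) (by norm_num) (by norm_num) (by norm_num) (by norm_num) (by decide +kernel)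
    have c37 := hconj 3 7 (by norm_num) (by norm_num) (by norm_num) (by norm_num) (by norm_num) (by decide +kernel)
    have c78 := hconj 7 8 (by norm_num) (by norm_num) (by norm_num) (by norm_num) (by norm_num) (by decide +kernel)
    intro k h1 h10
    interval_cases k
    exacts [IsConj.refl _, c12, c12.trans c23, (c12.trans c23).trans c34,
      ((c12.trans c23).trans c34).trans c45, (((c12.trans c23).trans c34).trans c45).trans c56,
      (c12.trans c23).trans c37, ((c12.trans c23).trans c37).trans c78,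
      ((((c12.trans c23).trans c34).trans c45).trans c56).trans c69]
  have heq : ∀ a b, 1 ≤ a → a < 10 → 1 ≤ b → b < 10 → a ≠ b → Fi24Pres.adjB a b = false →
      f (t a) = f (t b) := fun a b a1 a2 b1 b2 hne h =>
    perm_three_eq _ _ (hsq a a1 a2) (hsq b b1 b2) ((hcomm a b a1 a2 b1 b2 hne h).map f).eq
      (isConj_iff.mp ((hcls a a1 a2).symm.trans (hcls b b1 b2)))
  have hall9 : ∀ k, 1 ≤ k → k < 10 → f (t k) = f (t 1) := by
    intro k h1 h10
    have e4 := heq 1 4 (by norm_num) (by norm_num) (by norm_num) (by norm_num) (by norm_num) (by decide +kernel)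
    have hfree : ∀ k < 10, 3 ≤ k → Fi24Pres.adjB 1 k = false := by decide +kernel
    rcases eq_or_lt_of_le h1 with rfl | h1'
    · rfl
    rcases eq_or_lt_of_le (show 2 ≤ k by omega) with rfl | h2'
    · exact (heq 2 4 (by norm_num) (by norm_num) (by norm_num) (by norm_num) (by norm_num)
        (by decide +kernel)).trans e4.symm
    · exact (heq 1 k le_rfl (by norm_num) h1 h10 (by omega) (hfree k h10 (by omega))).symm
  -- everything lies in the group of the nine
  set M : Subgroup ↥L := Subgroup.closure {x | ∃ k, 1 ≤ k ∧ k < 10 ∧ t k = x}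
  have hM : ∀ y : Pt, P.S y → ∃ hy : P.lift y ∈ L, (⟨_, hy⟩ : ↥L) ∈ M := by
    intro y hy
    refine small_sub (T := fun y => ∃ hy : P.lift y ∈ L, (⟨_, hy⟩ : ↥L) ∈ M) ?_ ?_ y ((hall y).mp hy)
    · rintro a b ⟨ha, haM⟩ ⟨hb, hbM⟩
      rw [P.lift_act]
      exact ⟨mul_mem (mul_mem ha hb) (inv_mem ha), mul_mem (mul_mem haM hbM) (inv_mem haM)⟩
    · intro k h1 h10
      refine ⟨ht k h1 h10 ▸ (t k).2, ?_⟩
      rw [show (⟨P.lift (letterPt k), _⟩ : ↥L) = t k from Subtype.ext (ht k h1 h10).symm]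
      exact Subgroup.subset_closure ⟨k, h1, h10, rfl⟩
  have hMtop : M = ⊤ := by
    rw [eq_top_iff]
    rintro ⟨z, hz⟩ -
    have hle : L ≤ M.map L.subtype := (Subgroup.closure_le _).mpr fun z hz => by
      obtain ⟨x, rfl⟩ := P.exists_point hz.1
      obtain ⟨hx, hxM⟩ := hM x hz.2.2.2.symm
      exact ⟨_, hxM, rfl⟩
    obtain ⟨w, hw, e⟩ := hle hz
    rwa [show (⟨z, hz⟩ : ↥L) = w from Subtype.ext e.symm]
  have hrange : ∀ g, f g ∈ Subgroup.zpowers (f (t 1)) := by
    intro g
    have hg : g ∈ M := hMtop ▸ Subgroup.mem_top g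
    have hle : M ≤ (Subgroup.zpowers (f (t 1))).comap f := (Subgroup.closure_le _).mpr fun x hx => by
      obtain ⟨k, h1, h10, rfl⟩ := hx
      show f (t k) ∈ Subgroup.zpowers (f (t 1))
      rw [hall9 k h1 h10]
      exact Subgroup.mem_zpowers _
    exact hle hg
  obtain ⟨a, ha⟩ := hf (Equiv.swap 0 1)
  obtain ⟨b, hb⟩ := hf (Equiv.swap 1 2)
  obtain ⟨i, hi⟩ := Subgroup.mem_zpowers_iff.mp (hrange a)
  obtain ⟨j, hj⟩ := Subgroup.mem_zpowers_iff.mp (hrange b)
  have : Equiv.swap (0 : Fin 3) 1 * Equiv.swap 1 2 = Equiv.swap 1 2 * Equiv.swap 0 1 := by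
    rw [← ha, ← hb, ← hi, ← hj]
    exact ((Commute.refl _).zpow_zpow i j).eq
  exact absurd this (by decide)

/-- The standard position. -/
theorem exists_standard (P : Pre G D) : ∃ Q : Pre G D, ∀ x : Pt, Q.S x ↔ smallMid.testBit x = true := by
  obtain ⟨g, h9⟩ := perpSet_nine P.perpSet
  have e : (P.move g).S = fun x => P.S (rho g x) := funext fun x => propext (P.move_S g x)
  rw [← e] at h9
  exact ⟨_, (shape (P.move g).perpSet h9).resolve_left (P.move g).not_small⟩

end Pre

/-- a group of type M(24) has a pair in standard position -/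
theorem exists_pre {G : Type*} [Group G] [Finite G] {D : Set G} (hD : IsThreeTranspositionGroup D)
    (hprim : IsPrimitiveUnderConj D) (ht : IsOfTypeM24 G D) :
    ∃ P : Pre G D, ∀ x : Pt, P.S x ↔ smallMid.testBit x = true := by
  obtain ⟨hZ, d, hd, c, hc, hdc, h23, N, hN, -, ⟨q⟩⟩ := ht
  obtain ⟨hg, hp, hsep, hw, -⟩ := perp_hyps hD hprim hZ hd h23
  obtain ⟨e, he⟩ := M23.type_m23_fi23 hg hp h23
  exact Pre.exists_standard
    { hD := hD, hprim := hprim, hZ := hZ, hsep := hsep, hw := hw, d := d, c := c, hd := hd, hc := hc,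
      hdc := hdc, e := e, he := he,
      hsur := ⟨(q.toMonoidHom.comp (QuotientGroup.mk' N)).comp (QuotientGroup.mk' _),
        (q.surjective.comp (QuotientGroup.mk'_surjective N)).comp (QuotientGroup.mk'_surjective _)⟩ }

end CfsgLib.M24
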